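import Cfsg.Agent.Lib.Schur.Perfect
import Cfsg.Agent.Lib.PermAut.HsMult
import Cfsg.Prelude.Def_SporadicB

/-!
# Non-split double covers of a perfect group with multiplier of order at most two
-/

set_option autoImplicit false

namespace Cfsg.Lib.HNType

open Subgroup

universe u v w

variable {H : Type u} [Group H] {K : Type v} [Group K] {Q : Type w} [Group Q]

theorem cover_facts [Finite Q] (h : IsNonsplitDoubleCover H Q) :
    ∃ σ : H →* Q, Function.Surjective σ ∧ σ.ker = center H ∧ Finite H ∧
      Nat.card H = 2 * Nat.card Q := by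
  obtain ⟨h1, ⟨e⟩, -⟩ := h
  refine ⟨e.toMonoidHom.comp (QuotientGroup.mk' (center H)),
    e.surjective.comp (QuotientGroup.mk'_surjective _), ?_, ?_, ?_⟩
  · ext x
    rw [MonoidHom.mem_ker]
    show e ((x : H ⧸ center H)) = 1 ↔ _
    rw [MulEquiv.map_eq_one_iff, QuotientGroup.eq_one_iff]
  · haveI : Finite (center H) := Nat.finite_of_card_ne_zero (by omega)
    haveI : Finite (H ⧸ center H) := Finite.of_equiv _ e.symm.toEquiv
    exact Finite.of_subgroup_quotient (center H)
  · rw [Subgroup.card_eq_card_quotient_mul_card_subgroup (center H), h1,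
      Nat.card_congr e.toEquiv, mul_comm]

/-- A subgroup of a non-split double cover mapping onto the quotient is everything. -/
theorem eq_top_of_surj (h : IsNonsplitDoubleCover H Q) {σ : H →* Q} (hσ : σ.ker = center H)
    (L : Subgroup H) (hL : ∀ q, ∃ l ∈ L, σ l = q) : L = ⊤ := by
  by_cases hz : center H ≤ L
  · refine eq_top_iff.2 fun g _ => ?_
    obtain ⟨l, hl, hlq⟩ := hL (σ g)
    have hk : l⁻¹ * g ∈ center H := by
      rw [← hσ, MonoidHom.mem_ker, map_mul, map_inv, hlq, inv_mul_cancel]
    simpa using L.mul_mem hl (hz hk)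
  · refine absurd ?_ (h.2.2 L)
    have hd : Disjoint (center H) L := by
      rw [disjoint_def]
      intro x hx hxL
      by_contra hne
      apply hz
      obtain ⟨a, b, hab, hu⟩ := Nat.card_eq_two_iff.1 h.1
      intro y hy
      have hall : ∀ c : center H, c = a ∨ c = b := fun c => by
        have : c ∈ ({a, b} : Set (center H)) := hu ▸ Set.mem_univ c
        simpa using this
      have key : (⟨y, hy⟩ : center H) = 1 ∨ (⟨y, hy⟩ : center H) = ⟨x, hx⟩ := by
        have hx1 : (⟨x, hx⟩ : center H) ≠ 1 := fun e => hne (congrArg Subtype.val e)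
        rcases hall ⟨y, hy⟩ with e | e <;> rcases hall ⟨x, hx⟩ with e' | e' <;>
          rcases hall 1 with e'' | e''
        all_goals first
          | exact absurd (e'.trans e''.symm) hx1
          | exact Or.inl (e.trans e''.symm)
          | exact Or.inr (e.trans e'.symm)
      rcases key with e | e
      · rw [show y = 1 from congrArg Subtype.val e]; exact L.one_mem
      · rw [show y = x from congrArg Subtype.val e]; exact hxL
    refine isComplement'_of_disjoint_and_mul_eq_univ hd (Set.eq_univ_of_forall fun g => ?_)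
    obtain ⟨l, hl, hlq⟩ := hL (σ g)
    refine ⟨g * l⁻¹, ?_, l, hl, inv_mul_cancel_right g l⟩
    rw [SetLike.mem_coe, ← hσ, MonoidHom.mem_ker, map_mul, map_inv, hlq, mul_inv_cancel]

/-- Non-split double covers of a perfect group whose stem extensions have kernel at most two are
isomorphic, over the quotient. -/
theorem cover_iso [Finite Q] {Q₀ : Type} [Group Q₀] (e₀ : Q ≃* Q₀) (hQ : commutator Q₀ = ⊤)
    (hM : HasCyclicSchurMultiplier Q₀ 2)
    (hH : IsNonsplitDoubleCover H Q) (hK : IsNonsplitDoubleCover K Q) : Nonempty (H ≃* K) := by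
  classical
  obtain ⟨σH, sH, kH, fH, cH⟩ := cover_facts hH
  obtain ⟨σK, sK, kK, fK, cK⟩ := cover_facts hK
  let F : Subgroup (H × K) :=
    { carrier := {p | σH p.1 = σK p.2}
      one_mem' := by simp
      mul_mem' := fun {a b} ha hb => by
        show σH (a.1 * b.1) = σK (a.2 * b.2)
        rw [map_mul, map_mul, show σH a.1 = σK a.2 from ha, show σH b.1 = σK b.2 from hb]
      inv_mem' := fun {a} ha => by
        show σH a.1⁻¹ = σK a.2⁻¹
        rw [map_inv, map_inv, show σH a.1 = σK a.2 from ha] }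
  let τ : H × K →* Q₀ := e₀.toMonoidHom.comp (σH.comp (MonoidHom.fst H K))
  -- a minimal subgroup of the fibre product mapping onto the quotient
  have hne : ∃ D : Subgroup (H × K), D ≤ F ∧ ∀ q, ∃ d ∈ D, τ d = q := ⟨F, le_rfl, fun q => by
    obtain ⟨a, ha⟩ := sH (e₀.symm q)
    obtain ⟨b, hb⟩ := sK (e₀.symm q)
    exact ⟨(a, b), (ha.trans hb.symm : σH a = σK b), by simp [τ, ha]⟩⟩
  obtain ⟨D, ⟨hDF, hDs⟩, hmin⟩ := exists_minimal_of_wellFoundedLT _ hne
  let τD : D →* Q₀ := τ.comp D.subtype
  have sτ : Function.Surjective τD := fun q => by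
    obtain ⟨d, hd, h⟩ := hDs q
    exact ⟨⟨d, hd⟩, h⟩
  have hcomm : (commutator D).map D.subtype = D := by
    refine le_antisymm (map_subtype_le _) (hmin ⟨(map_subtype_le _).trans hDF, fun q => ?_⟩ (map_subtype_le _))
    have hq : q ∈ (commutator D).map τD := by
      rw [_root_.commutator_def, Subgroup.map_commutator, map_top_of_surjective _ sτ,
        ← _root_.commutator_def, hQ]
      exact mem_top q
    obtain ⟨d, hd, rfl⟩ := hq
    exact ⟨d.1, ⟨d, hd, rfl⟩, rfl⟩
  have hker : τD.ker ≤ center D := by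
    intro d hd
    have h1 : σH d.1.1 = 1 := by
      have : e₀ (σH d.1.1) = 1 := hd
      exact e₀.map_eq_one_iff.1 this
    have h2 : σK d.1.2 = 1 := (show σH d.1.1 = σK d.1.2 from hDF d.2) ▸ h1
    have c1 : d.1.1 ∈ center H := kH ▸ MonoidHom.mem_ker.2 h1
    have c2 : d.1.2 ∈ center K := kK ▸ MonoidHom.mem_ker.2 h2
    exact mem_center_iff.2 fun g => Subtype.ext
      (Prod.ext (mem_center_iff.1 c1 _) (mem_center_iff.1 c2 _))
  have hstem : IsStemExtension τD := by
    refine ⟨sτ, hker, fun d _ => ?_⟩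
    have : d.1 ∈ (commutator D).map D.subtype := by rw [hcomm]; exact d.2
    obtain ⟨x, hx, hxd⟩ := this
    rwa [← Subtype.ext hxd]
  haveI : Finite (H × K) := inferInstance
  obtain ⟨n, ⟨eD0⟩⟩ := Finite.exists_equiv_fin D
  let T : Type := {_x : Fin n // True}
  let eD : D ≃ T := eD0.trans (Equiv.subtypeUnivEquiv fun _ => trivial).symm
  let _ : Group T := eD.symm.group
  let eM : D ≃* T := (eD.symm.mulEquiv).symm
  haveI : Finite T := Finite.of_equiv _ eD
  let τn : T →* Q₀ := τD.comp eM.symm.toMonoidHom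
  have hstemn : IsStemExtension τn := by
    refine ⟨sτ.comp eM.symm.surjective, fun x hx => ?_, fun x hx => ?_⟩
    · have := hker (show eM.symm x ∈ τD.ker from hx)
      refine mem_center_iff.2 fun g => eM.symm.injective ?_
      rw [map_mul, map_mul, mem_center_iff.1 this]
    · have := hstem.2.2 (show eM.symm x ∈ τD.ker from hx)
      have h' : eM (eM.symm x) ∈ (commutator D).map eM.toMonoidHom := ⟨_, this, rfl⟩
      rw [eM.apply_symm_apply, _root_.commutator_def, Subgroup.map_commutator,
        map_top_of_surjective eM.toMonoidHom eM.surjective, ← _root_.commutator_def] at h'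
      exact h'
  obtain ⟨π, hπ⟩ := hM.2 T τn hstemn
  have hk2 : Nat.card τn.ker ≤ 2 := (Nat.card_le_card_of_surjective π hπ).trans (by simp)
  have hDcard : Nat.card D ≤ 2 * Nat.card Q₀ := by
    rw [Nat.card_congr eM.toEquiv, ← card_mul_index τn.ker, index_ker,
      MonoidHom.range_eq_top.2 hstemn.1, card_top]
    exact Nat.mul_le_mul hk2 le_rfl
  have hQQ : Nat.card Q₀ = Nat.card Q := (Nat.card_congr e₀.toEquiv).symm
  let p1 : D →* H := (MonoidHom.fst H K).comp D.subtype
  let p2 : D →* K := (MonoidHom.snd H K).comp D.subtype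
  have s1 : Function.Surjective p1 := MonoidHom.range_eq_top.1 (eq_top_of_surj hH kH _ fun q => by
    obtain ⟨d, hd⟩ := sτ (e₀ q)
    exact ⟨d.1.1, ⟨d, rfl⟩, e₀.injective hd⟩)
  have s2 : Function.Surjective p2 := MonoidHom.range_eq_top.1 (eq_top_of_surj hK kK _ fun q => by
    obtain ⟨d, hd⟩ := sτ (e₀ q)
    exact ⟨d.1.2, ⟨d, rfl⟩, e₀.injective ((congrArg e₀ (hDF d.2 : σH d.1.1 = σK d.1.2)).symm.trans hd)⟩)
  have b1 := (Nat.bijective_iff_surjective_and_card p1).2 ⟨s1, le_antisymm (by rw [cH, ← hQQ]; exact hDcard) (Nat.card_le_card_of_surjective p1 s1)⟩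
  have b2 := (Nat.bijective_iff_surjective_and_card p2).2 ⟨s2, le_antisymm (by rw [cK, ← hQQ]; exact hDcard) (Nat.card_le_card_of_surjective p2 s2)⟩
  exact ⟨(MulEquiv.ofBijective p1 b1).symm.trans (MulEquiv.ofBijective p2 b2)⟩

/-- Non-split double covers of the Higman–Sims group are isomorphic. -/
theorem cover_iso_HS (hH : IsNonsplitDoubleCover H Spor.HS) (hK : IsNonsplitDoubleCover K Spor.HS) :
    Nonempty (H ≃* K) := by
  haveI : Finite ↥Spor.HS := Nat.finite_of_card_ne_zero (by
    rw [PermAut.Hs.card_hs_spor]; norm_num)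
  exact cover_iso (Q₀ := ↥Spor.HS) (MulEquiv.refl _) PermAut.Hs.perfect_hs PermAut.Hs.multiplier_hs hH hK

end Cfsg.Lib.HNType
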