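import Cfsg.Agent.Lib.HN.Sub100.Model
import Cfsg.Agent.Lib.HNType.Cover
import Mathlib.GroupTheory.Perm.Cycle.Type

/-!
# The automorphisms of the double cover of `HS` are induced by the double cover of `HS:2`
-/

set_option autoImplicit false
set_option maxRecDepth 100000

namespace Cfsg.Lib.HNType

open Cfsg.Lib.HN Cfsg.Lib.HN.Sub100 Subgroup

/-- The outer involution. -/
abbrev zP : PS := wgen relP 2

theorem zP_val : zP = val (wgen relP) [2] := by simp [zP]

theorem zP_sq : zP * zP = 1 := by
  have := wgen_rel relP [2, 2] (by decide)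
  simpa using this

theorem χ_zP : χ zP = -1 := by rw [zP_val, χ_val (by decide)]; decide

theorem zP_not_mem : zP ∉ Kχ := by rw [MonoidHom.mem_ker, χ_zP]; decide

theorem perfect_Kχ : commutator Kχ = ⊤ := by
  obtain ⟨-, -, h⟩ := double_cover
  haveI : Finite ↥Spor.HS := Nat.finite_of_card_ne_zero (by
    rw [PermAut.Hs.card_hs_spor]; norm_num)
  obtain ⟨σ, hσ, hk, -, -⟩ := cover_facts h
  refine eq_top_of_surj h hk _ fun q => ?_
  have hq : q ∈ (commutator Kχ).map σ := by
    rw [_root_.commutator_def, Subgroup.map_commutator, map_top_of_surjective _ hσ,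
      ← _root_.commutator_def, PermAut.Hs.perfect_hs]
    exact mem_top q
  obtain ⟨l, hl, rfl⟩ := hq
  exact ⟨l, hl, rfl⟩

theorem sign_G {g : Equiv.Perm (Fin 100)} (hg : g ∈ G) : Equiv.Perm.sign g = 1 := by
  obtain ⟨k, hk, rfl⟩ := hg
  let f : Kχ →* ℤˣ := Equiv.Perm.sign.comp (π.comp Kχ.subtype)
  have h : commutator Kχ ≤ f.ker := by
    rw [_root_.commutator_def, Subgroup.commutator_le]
    intro a _ b _
    rw [MonoidHom.mem_ker, map_commutatorElement]
    exact (Commute.all (f a) (f b)).commutator_eq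
  rw [perfect_Kχ] at h
  exact h (mem_top ⟨k, hk⟩)

theorem sign_π_zP : Equiv.Perm.sign (π zP) = -1 := by
  have hsq : π zP ^ 2 = 1 := by rw [pow_two, ← map_mul, zP_sq, map_one]
  have hmem : ∀ i : Fin 100, i ∈ (π zP).support ↔
      Nat.beq (twalk tab [2] i.1) i.1 = false := fun i => by
    rw [Equiv.Perm.mem_support, ne_eq, Fin.ext_iff, zP_val, π_apply (by decide),
      show winv [2] = [2] from rfl, Bool.eq_false_iff, ne_eq, Nat.beq_eq]
  have hset : (π zP).support =
      Finset.univ.filter fun i : Fin 100 => Nat.beq (twalk tab [2] i.1) i.1 = false := by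
    ext i; simp [hmem i]
  have hcard : (π zP).support.card = 70 := by rw [hset]; decide +kernel
  have hall : ∀ n ∈ (π zP).cycleType, n = 2 := fun n hn => by
    have h1 := Equiv.Perm.dvd_of_mem_cycleType hn
    have h2 := Equiv.Perm.two_le_of_mem_cycleType hn
    have h3 : orderOf (π zP) ∣ 2 := orderOf_dvd_of_pow_eq_one hsq
    have := Nat.le_of_dvd (by norm_num) (h1.trans h3)
    omega
  have hrep := Multiset.eq_replicate_card.2 hall
  have hsum := (π zP).sum_cycleType
  rw [hrep, Multiset.sum_replicate, smul_eq_mul, hcard] at hsum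
  rw [Equiv.Perm.sign_of_cycleType, Equiv.Perm.sum_cycleType, hcard,
    show Multiset.card (π zP).cycleType = 35 by omega]
  decide

theorem π_zP_not_mem : π zP ∉ G := fun h => by
  have := sign_G h
  rw [sign_π_zP] at this
  exact absurd this (by decide)

theorem cases_PS (a : PS) : a ∈ Kχ ∨ zP * a ∈ Kχ := by
  rcases Int.units_eq_one_or (χ a) with h | h
  · exact Or.inl h
  · refine Or.inr ?_
    rw [MonoidHom.mem_ker, map_mul, χ_zP, h]
    decide

theorem eq_of_π_one {a : PS} (h : π a = 1) : a = 1 ∨ a = zc := by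
  have ha : a ∈ Kχ := by
    refine (cases_PS a).resolve_right fun h' => π_zP_not_mem ?_
    exact ⟨zP * a, h', by rw [map_mul, h, mul_one]⟩
  have hk : (⟨a, ha⟩ : Kχ) ∈ f.ker := Subtype.ext h
  obtain ⟨u, v, huv, hu⟩ := Nat.card_eq_two_iff.1 card_G_ker.2
  have hall : ∀ x : f.ker, x = u ∨ x = v := fun x => by
    have : x ∈ ({u, v} : Set f.ker) := hu ▸ Set.mem_univ x
    simpa using this
  have hz : (⟨zc, zc_mem⟩ : Kχ) ∈ f.ker := Subtype.ext π_zc
  have hne : (1 : f.ker) ≠ ⟨_, hz⟩ := fun e =>
    zc_ne (congrArg (fun x : f.ker => (x.1.1 : PS)) e).symm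
  rcases hall 1 with h1 | h1 <;> rcases hall ⟨_, hz⟩ with h2 | h2 <;> rcases hall ⟨_, hk⟩ with h3 | h3
  all_goals first
    | exact absurd (h1.trans h2.symm) hne
    | exact Or.inl (congrArg (fun x : f.ker => (x.1.1 : PS)) (h3.trans h1.symm))
    | exact Or.inr (congrArg (fun x : f.ker => (x.1.1 : PS)) (h3.trans h2.symm))

/-- Only the centre of the double cover of `HS:2` centralises the double cover of `HS`. -/
theorem eq_of_centralizes {a : PS} (h : ∀ k ∈ Kχ, a * k = k * a) : a = 1 ∨ a = zc := by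
  refine eq_of_π_one ?_
  have hfix : ∀ g ∈ G, π a * g = g * π a := by
    rintro _ ⟨k, hk, rfl⟩
    rw [← map_mul, h k hk, map_mul]
  have h0 : π a 0 = 0 := by
    by_contra hne
    have hmove : ∀ i : Fin 100, i ≠ 0 →
        ((tail.flatMap Level.U).any fun u => !Nat.beq (twalk tab (winv u) i.1) i.1) = true := by
      decide +kernel
    obtain ⟨u, hu, hne'⟩ := List.any_eq_true.1 (hmove _ hne)
    obtain ⟨L, hL, huL⟩ := List.mem_flatMap.1 hu
    have hl := lettersIn_of_baseOK chain_ok L (List.mem_of_mem_tail hL) u huL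
    obtain ⟨hG, hz⟩ := stab_eq.2 (Subgroup.subset_closure ⟨L, hL, u, huL, rfl⟩ :
      val (pperm tab 100) u ∈ H)
    have h1 : val (pperm tab 100) u (π a 0) = π a 0 := by
      rw [← Equiv.Perm.mul_apply, ← hfix _ hG, Equiv.Perm.mul_apply, hz]
    have h2 := congrArg Fin.val h1
    rw [val_pperm perm_ok symS_P _ hl] at h2
    rw [Bool.not_eq_true', Bool.eq_false_iff, ne_eq, Nat.beq_eq] at hne'
    exact hne' h2
  refine Equiv.ext fun i => ?_
  obtain ⟨g, hg, rfl⟩ := trans i
  rw [Equiv.Perm.one_apply, ← Equiv.Perm.mul_apply, hfix g hg, Equiv.Perm.mul_apply, h0]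

theorem card_mulAut_HS : Nat.card (MulAut ↥Spor.HS) = 88704000 := by
  haveI : Finite ↥Spor.HS := Nat.finite_of_card_ne_zero (by
    rw [PermAut.Hs.card_hs_spor]; norm_num)
  have h := Subgroup.card_mul_index (Inn ↥Spor.HS)
  have hidx : (Inn ↥Spor.HS).index = 2 := PermAut.Hs.card_out_hs
  have hinj : Function.Injective (MulAut.conj : ↥Spor.HS →* MulAut ↥Spor.HS) := by
    obtain ⟨e⟩ := Concrete.sporHS_equiv
    haveI : IsSimpleGroup ↥Spor.HS := e.isSimpleGroup_congr.2 Concrete.isHS_five.1
    rw [← MonoidHom.ker_eq_bot_iff]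
    refine (MonoidHom.normal_ker _).eq_bot_or_eq_top.resolve_right fun hk => ?_
    have hp := PermAut.Hs.perfect_hs
    have hb : commutator ↥Spor.HS = ⊥ := by
      rw [_root_.commutator_def, eq_bot_iff, Subgroup.commutator_le]
      intro a _ b _
      rw [mem_bot, commutatorElement_eq_one_iff_mul_comm]
      have := DFunLike.congr_fun (MonoidHom.mem_ker.1 (hk ▸ mem_top a)) b
      simp only [MulAut.conj_apply, MulAut.one_apply] at this
      calc a * b = a * b * a⁻¹ * a := by group
        _ = b * a := by rw [this]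
    rw [hb] at hp
    exact bot_ne_top hp
  rw [hidx, Nat.card_congr (MonoidHom.ofInjective hinj).toEquiv.symm, PermAut.Hs.card_hs_spor] at h
  omega

/-- Conjugation by an element on the double cover of `HS`. -/
noncomputable def conjK : PS →* MulAut Kχ := MulAut.conjNormal

theorem conjK_apply (a : PS) (k : Kχ) : (conjK a k : PS) = a * k * a⁻¹ :=
  MulAut.conjNormal_apply a k

/-- Every automorphism of the double cover of `HS` is conjugation by an element of `PS`. -/
theorem conjK_surjective : Function.Surjective conjK := by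
  haveI : Finite ↥Spor.HS := Nat.finite_of_card_ne_zero (by
    rw [PermAut.Hs.card_hs_spor]; norm_num)
  obtain ⟨-, -, hd⟩ := double_cover
  obtain ⟨σ, hσ, hkσ, -, -⟩ := cover_facts hd
  have hchar : ∀ α : MulAut Kχ, ∀ k, σ k = 1 → σ (α k) = 1 := fun α k hk => by
    rw [← MonoidHom.mem_ker, hkσ] at hk ⊢
    refine mem_center_iff.2 fun g => ?_
    obtain ⟨g, rfl⟩ := α.surjective g
    rw [← map_mul, ← map_mul, mem_center_iff.1 hk]
  have hker : σ.ker ≤ center Kχ := hkσ.le
  obtain ⟨F, hF⟩ : ∃ F : MulAut Kχ → (↥Spor.HS → ↥Spor.HS), ∀ α k, F α (σ k) = σ (α k) := by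
    refine ⟨fun α q => σ (α (Function.surjInv hσ q)), fun α k => ?_⟩
    have h1 : σ ((Function.surjInv hσ (σ k)) * k⁻¹) = 1 := by
      rw [map_mul, Function.surjInv_eq hσ, map_inv, mul_inv_cancel]
    have h2 := hchar α _ h1
    rw [map_mul, map_inv, map_mul, map_inv, mul_inv_eq_one] at h2
    exact h2
  let G' : MulAut Kχ → MulAut ↥Spor.HS := fun α =>
    { toFun := F α
      invFun := F α⁻¹
      left_inv := fun q => by
        obtain ⟨k, rfl⟩ := hσ q
        rw [hF, hF]; simp
      right_inv := fun q => by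
        obtain ⟨k, rfl⟩ := hσ q
        rw [hF, hF]; simp
      map_mul' := fun p q => by
        obtain ⟨k, rfl⟩ := hσ p
        obtain ⟨l, rfl⟩ := hσ q
        rw [← map_mul, hF, hF, hF, map_mul, map_mul] }
  have hGi : Function.Injective G' := fun α β h => by
    have h1 : ∀ k, σ (α k) = σ (β k) := fun k => by
      rw [← hF α k, ← hF β k]; exact DFunLike.congr_fun h (σ k)
    refine DFunLike.ext _ _ fun k => ?_
    have hperf : Group.IsPerfect Kχ := ⟨perfect_Kχ⟩
    have := Cfsg.Lib.Schur.hom_eq_of_perfect hperf (f := α.toMonoidHom) (g := β.toMonoidHom)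
      (fun x => hker (by
        rw [MonoidHom.mem_ker]
        show σ ((α x)⁻¹ * β x) = 1
        rw [map_mul, map_inv, h1, inv_mul_cancel]))
    exact DFunLike.congr_fun this k
  haveI : Finite (MulAut ↥Spor.HS) := Nat.finite_of_card_ne_zero (by rw [card_mulAut_HS]; norm_num)
  haveI : Finite (MulAut Kχ) := Finite.of_injective _ hGi
  have hk2 : Nat.card conjK.ker ≤ 2 := by
    have hsub : (conjK.ker : Set PS) ⊆ {1, zc} := fun a ha => by
      refine eq_of_centralizes fun k hk => ?_
      have := congrArg Subtype.val (DFunLike.congr_fun (MonoidHom.mem_ker.1 ha) ⟨k, hk⟩)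
      rw [conjK_apply] at this
      calc a * k = a * k * a⁻¹ * a := by group
        _ = k * a := by rw [this]; rfl
    calc Nat.card conjK.ker = (conjK.ker : Set PS).ncard := Nat.card_coe_set_eq _
      _ ≤ ({1, zc} : Set PS).ncard := Set.ncard_le_ncard hsub (Set.toFinite _)
      _ ≤ 2 := (Set.ncard_insert_le _ _).trans (by rw [Set.ncard_singleton])
  have h := Subgroup.card_mul_index conjK.ker
  rw [index_ker, PS_base.1] at h
  have hle : Nat.card (MulAut Kχ) ≤ Nat.card conjK.range := by
    have h1 : Nat.card (MulAut Kχ) ≤ 88704000 :=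
      (Nat.card_le_card_of_injective G' hGi).trans card_mulAut_HS.le
    have h2 : 177408000 ≤ 2 * Nat.card conjK.range :=
      h.symm.le.trans (Nat.mul_le_mul hk2 le_rfl)
    omega
  exact MonoidHom.range_eq_top.1 (eq_top_of_le_card _ hle)

end Cfsg.Lib.HNType
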