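import Cfsg.Agent.Lib.HNType.Sylow

/-!
# Complete lists of centralisers in the double cover of `HS:2`

A certificate consists of transversal words along a base starting with a point and its image under
the element, and of words commuting with the element which carry a few representatives to the other
possible images of the first point.
-/

set_option autoImplicit false
set_option maxRecDepth 100000

namespace Cfsg.Lib.HNType

open Cfsg.Lib.HN Cfsg.Lib.HN.Sub100
open Cfsg.Lib.CosetEnum (force force_eq)

/-- Unpack a word. -/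
noncomputable def unpackW : ℕ → ℕ → List ℕ
  | 0, _ => []
  | n + 1, k => cond (Nat.ble k 1) [] (force (k % 8) fun g => g :: force (k / 8) fun j => unpackW n j)

/-- The image of a point under a word. -/
noncomputable def pim (w : List ℕ) (p : ℕ) : ℕ := twalk ModelP.tabP (winv w) p

/-- A level: a point and transversal words. -/
abbrev Lev : Type := ℕ × List (List ℕ)

/-- The images of the point along the words differ. -/
noncomputable def distinctB : List ℕ → Bool
  | [] => true
  | a :: l => (force a fun a => !l.any (Nat.beq a)) && distinctB l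

/-- Small numbers differ, checked with a set of bits. -/
noncomputable def distinctPts : List ℕ → ℕ → Bool
  | [], _ => true
  | a :: l, acc => force a fun a => force (Nat.shiftLeft 1 a) fun m =>
      Nat.beq (Nat.land acc m) 0 && force (Nat.lor acc m) (distinctPts l)

/-- The transversals have distinct images and fix the earlier points. -/
noncomputable def levelsOK : List ℕ → List Lev → Bool
  | _, [] => true
  | pre, (p, T) :: rest => Nat.blt p 1408 && T.all lw &&
      (T.all fun u => pre.all fun q => Nat.beq (pim u q) q) &&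
      distinctPts (T.map fun u => pim u p) 0 && levelsOK (p :: pre) rest

/-- All products along the levels. -/
def products : List Lev → List (List ℕ)
  | [] => [[]]
  | (_, T) :: rest => T.flatMap fun u => (products rest).map fun w => u ++ w

/-- The number of products. -/
def levSize : List Lev → ℕ
  | [] => 1
  | (_, T) :: rest => T.length * levSize rest

theorem length_products : ∀ Ls : List Lev, (products Ls).length = levSize Ls
  | [] => rfl
  | (_, T) :: rest => by
    simp [products, levSize, List.length_flatMap, List.map_const', length_products rest]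

theorem pim_lt {w : List ℕ} (hw : lw w = true) {p : ℕ} (hp : p < 1408) : pim w p < 1408 :=
  (twalk_lt hw hp).1

theorem pim_spec {w : List ℕ} (hw : lw w = true) (i : Fin 1408) :
    (ψP (pv w) i).1 = pim w i.1 := (twalk_lt hw i.2).2 i rfl

theorem pim_append (a b : List ℕ) (p : ℕ) : pim (a ++ b) p = pim a (pim b p) := by
  rw [pim, winv_append, twalk_append]
  rfl

theorem distinctB_nodup : ∀ {l : List ℕ}, distinctB l = true → l.Nodup
  | [], _ => List.nodup_nil
  | a :: l, h => by
    simp only [distinctB, force_eq, Bool.and_eq_true, Bool.not_eq_true', List.any_eq_false, Nat.beq_eq] at h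
    exact List.nodup_cons.2 ⟨fun ha => h.1 a ha rfl, distinctB_nodup h.2⟩

theorem distinctPts_nodup : ∀ {l : List ℕ} {acc : ℕ}, distinctPts l acc = true →
    l.Nodup ∧ ∀ a ∈ l, acc.testBit a = false
  | [], _, _ => by simp
  | a :: l, acc, h => by
    simp only [distinctPts, force_eq, Bool.and_eq_true, Nat.beq_eq] at h
    obtain ⟨hn, hb⟩ := distinctPts_nodup h.2
    have hz : acc &&& (1 <<< a) = 0 := h.1
    have ha : acc.testBit a = false := by
      have := congrArg (fun n => n.testBit a) hz
      simpa [Nat.testBit_and, Nat.one_shiftLeft, Nat.testBit_two_pow_self] using this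
    have hor : ∀ b ∈ l, acc.testBit b = false ∧ (1 <<< a : ℕ).testBit b = false := fun b hb' => by
      have : (acc ||| (1 <<< a)).testBit b = false := hb b hb'
      simpa [Nat.testBit_or] using this
    refine ⟨List.nodup_cons.2 ⟨fun hm => ?_, hn⟩, fun b hb' => ?_⟩
    · have := (hor a hm).2
      simp [Nat.one_shiftLeft, Nat.testBit_two_pow_self] at this
    · rcases List.mem_cons.1 hb' with rfl | hb'
      · exact ha
      · exact (hor b hb').1

theorem products_lw : ∀ {pre : List ℕ} {Ls : List Lev}, levelsOK pre Ls = true →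
    ∀ w ∈ products Ls, lw w = true
  | _, [], _, w, hw => by simp only [products, List.mem_singleton] at hw; subst hw; rfl
  | pre, (p, T) :: rest, h, w, hw => by
    simp only [levelsOK, Bool.and_eq_true] at h
    simp only [products, List.mem_flatMap, List.mem_map] at hw
    obtain ⟨u, hu, v, hv, rfl⟩ := hw
    exact lw_append.2 ⟨List.all_eq_true.1 h.1.1.1.2 u hu, products_lw h.2 v hv⟩

theorem products_fix : ∀ {pre : List ℕ} {Ls : List Lev}, levelsOK pre Ls = true →
    ∀ w ∈ products Ls, ∀ q ∈ pre, pim w q = q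
  | _, [], _, w, hw, q, _ => by simp only [products, List.mem_singleton] at hw; subst hw; rfl
  | pre, (p, T) :: rest, h, w, hw, q, hq => by
    simp only [levelsOK, Bool.and_eq_true] at h
    simp only [products, List.mem_flatMap, List.mem_map] at hw
    obtain ⟨u, hu, v, hv, rfl⟩ := hw
    rw [pim_append, products_fix h.2 v hv q (List.mem_cons_of_mem _ hq)]
    have := List.all_eq_true.1 (List.all_eq_true.1 h.1.1.2 u hu) q hq
    exact Nat.beq_eq.mp this

theorem products_nodup : ∀ {pre : List ℕ} {Ls : List Lev}, levelsOK pre Ls = true →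
    ((products Ls).map pv).Nodup
  | _, [], _ => by simp [products]
  | pre, (p, T) :: rest, h => by
    have h' := h
    simp only [levelsOK, Bool.and_eq_true, Nat.blt_eq] at h
    have hinner : ∀ u ∈ T, (((products rest).map fun w => u ++ w).map pv).Nodup := fun u _ => by
      rw [List.map_map, show pv ∘ (fun w => u ++ w) = (fun g => pv u * g) ∘ pv from
        funext fun w => pv_append u w, ← List.map_map]
      exact (products_nodup h.2).map fun a b e => mul_left_cancel e
    rw [products, List.map_flatMap, List.nodup_flatMap]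
    refine ⟨hinner, List.Pairwise.imp_of_mem ?_
      (List.pairwise_map.1 (List.nodup_iff_pairwise_ne.1 (distinctPts_nodup h.1.2).1))⟩
    intro u u' hu hu' hne
    rw [Function.onFun, List.disjoint_left]
    intro g hg hg'
    simp only [List.map_map, List.mem_map, Function.comp_apply] at hg hg'
    obtain ⟨w, hw, rfl⟩ := hg
    obtain ⟨w', hw', e⟩ := hg'
    refine hne ?_
    have hl : ∀ v ∈ T, ∀ x ∈ products rest, lw (v ++ x) = true := fun v hv x hx =>
      lw_append.2 ⟨List.all_eq_true.1 h.1.1.1.2 v hv, products_lw h.2 x hx⟩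
    have e1 := pim_spec (hl u hu w hw) ⟨p, h.1.1.1.1⟩
    have e2 := pim_spec (hl u' hu' w' hw') ⟨p, h.1.1.1.1⟩
    rw [e] at e2
    rw [e1, pim_append, pim_append, products_fix h.2 w hw p (List.mem_cons_self ..),
      products_fix h.2 w' hw' p (List.mem_cons_self ..)] at e2
    exact e2

/-- Every element is a product along the levels. -/
theorem exists_product {Ls : List Lev} (h : levelsOK [] Ls = true) (hs : levSize Ls = 177408000)
    (g : PS) : ∃ w ∈ products Ls, pv w = g := by
  classical
  have hc : ((products Ls).map pv).toFinset.card = 177408000 := by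
    rw [List.toFinset_card_of_nodup (products_nodup h), List.length_map, length_products, hs]
  let _ : Fintype PS := Fintype.ofFinite PS
  have huniv : ((products Ls).map pv).toFinset = Finset.univ :=
    Finset.eq_univ_of_card _ (by rw [hc, ← Nat.card_eq_fintype_card, PS_base.1])
  have := huniv ▸ Finset.mem_univ g
  simpa using this

/-- Equality of the products with a commuting check. -/
noncomputable def commB (a b : List ℕ) : Bool := Nat.beq (keyOf (a ++ b)) (keyOf (b ++ a))

theorem commB_iff {a b : List ℕ} (ha : lw a = true) (hb : lw b = true) :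
    commB a b = true ↔ Commute (pv a) (pv b) := by
  rw [commB, Nat.beq_eq, commute_iff_eq, ← pv_append, ← pv_append]
  exact ⟨fun h => eq_of_key (lw_append.2 ⟨ha, hb⟩) (lw_append.2 ⟨hb, ha⟩) h,
    fun h => key_eq_of_val (lw_append.2 ⟨ha, hb⟩) (lw_append.2 ⟨hb, ha⟩) h⟩

/-- The check of one possible image of the first point. -/
noncomputable def orbOK (w u0 : List ℕ) (pts1 : List ℕ) (reps : List (List ℕ)) (k : ℕ) : Bool :=
  cond (Nat.beq k 0)
    (force (pim (winv u0) (pim w (pim u0 0))) fun q => !pts1.any (Nat.beq q))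
    (force (k % 16 - 1) fun i => Nat.blt i reps.length &&
      (let h := unpackW 200 (k / 16)
       lw h && commB h w && Nat.beq (pim h (pim (reps.getD i []) 0)) (pim u0 0)))

/-- The check of the elements with a given image of the first point. -/
noncomputable def stabOK (w r : List ℕ) (T1 : List (List ℕ)) (p1 : ℕ) (rest : List (List ℕ))
    (stab : List (List ℕ)) : Bool :=
  force (pim (winv r) (pim w (pim r 0))) fun q =>
    T1.all fun u1 => !Nat.beq (pim u1 p1) q ||
      rest.all fun v => !commB (r ++ (u1 ++ v)) w ||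
        stab.any fun s => lw s && Nat.beq (keyOf s) (keyOf (r ++ (u1 ++ v)))

/-- Completeness of the lists. -/
theorem cent_complete {w : List ℕ} (hw : lw w = true) {T0 T1 : List (List ℕ)} {p1 : ℕ}
    {rest : List Lev} (hok : levelsOK [] ((0, T0) :: (p1, T1) :: rest) = true)
    (hs : levSize ((0, T0) :: (p1, T1) :: rest) = 177408000) (hp1 : Nat.beq (pim w 0) p1 = true)
    {reps : List (List ℕ)} {stabs : List (List (List ℕ))} (hreps : ∀ r ∈ reps, r ∈ T0)
    {orb : ℕ → ℕ}
    {pts1 : List ℕ} (hpts1 : T1.map (fun u => pim u p1) = pts1)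
    (horb : ∀ j < T0.length, orbOK w (T0.getD j []) pts1 reps (orb j) = true)
    (hstab : ∀ i < reps.length,
      stabOK w (reps.getD i []) T1 p1 (products rest) (stabs.getD i []) = true)
    {g : PS} (hg : Commute g (pv w)) :
    ∃ j < T0.length, orb j ≠ 0 ∧ ∃ s ∈ stabs.getD (orb j % 16 - 1) [],
      lw (unpackW 200 (orb j / 16)) = true ∧ lw s = true ∧
        g = pv (unpackW 200 (orb j / 16) ++ s) := by
  have hok0 := hok
  simp only [levelsOK, Bool.and_eq_true, Nat.blt_eq, List.all_nil, List.all_eq_true] at hok0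
  obtain ⟨⟨⟨⟨-, hT0⟩, -⟩, hnd0⟩, ⟨⟨⟨⟨hp1lt, hT1⟩, hT1fix⟩, -⟩, hrest⟩⟩ := hok0
  have hinj := List.inj_on_of_nodup_map (distinctPts_nodup hnd0).1
  rw [Nat.beq_eq] at hp1
  have himg : ∀ g : PS, Commute g (pv w) → ∀ u ∈ T0, ∀ u1 ∈ T1, ∀ v ∈ products rest,
      g = pv (u ++ (u1 ++ v)) → pim (winv u) (pim w (pim u 0)) = pim u1 p1 := by
    intro g hg u hu u1 hu1 v hv hgv
    have hl : lw (u ++ (u1 ++ v)) = true :=
      lw_append.2 ⟨hT0 u hu, lw_append.2 ⟨hT1 u1 hu1, products_lw hrest v hv⟩⟩
    have f1 := fun q hq => products_fix hrest v hv q hq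
    have e0 : pim (u ++ (u1 ++ v)) 0 = pim u 0 := by
      rw [pim_append, pim_append, f1 0 (by simp),
        Nat.beq_eq.mp (hT1fix u1 hu1 0 (List.mem_cons_self ..))]
    have e1 : pim (u ++ (u1 ++ v)) p1 = pim u (pim u1 p1) := by
      rw [pim_append, pim_append, f1 p1 (by simp)]
    have hc : keyOf (u ++ (u1 ++ v) ++ w) = keyOf (w ++ (u ++ (u1 ++ v))) := by
      have := (commB_iff hl hw).2 (hgv ▸ hg)
      simpa [commB, Nat.beq_eq] using this
    have h0 := pim_spec (lw_append.2 ⟨hl, hw⟩) ⟨0, by norm_num⟩
    have h0' := pim_spec (lw_append.2 ⟨hw, hl⟩) ⟨0, by norm_num⟩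
    have he : pv (u ++ (u1 ++ v) ++ w) = pv (w ++ (u ++ (u1 ++ v))) :=
      eq_of_key (lw_append.2 ⟨hl, hw⟩) (lw_append.2 ⟨hw, hl⟩) hc
    simp only at h0 h0'
    rw [he, h0', pim_append w, pim_append (u ++ (u1 ++ v)) w,
      hp1, e0, e1] at h0
    have hi := pim_spec (lw_append.2 ⟨lw_winv (hT0 u hu), hT0 u hu⟩) ⟨pim u1 p1, pim_lt (hT1 u1 hu1) hp1lt⟩
    rw [pv_append, pv, val_winv (wgen_inv relP), inv_mul_cancel, map_one, Equiv.Perm.one_apply,
      pim_append] at hi
    rw [h0, ← hi]
  obtain ⟨wd, hwd, hgw⟩ := exists_product hok hs g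
  simp only [products, List.mem_flatMap, List.mem_map] at hwd
  obtain ⟨u, hu, _, ⟨u1, hu1, v, hv, rfl⟩, rfl⟩ := hwd
  obtain ⟨j, hj, rfl⟩ := List.getElem_of_mem hu
  refine ⟨j, hj, ?_⟩
  have ho := horb j hj
  rw [List.getD_eq_getElem _ _ hj] at ho
  unfold orbOK at ho
  by_cases hk : orb j = 0
  · exfalso
    simp only [hk, Nat.beq_eq, force_eq, Nat.beq_refl, cond_true, Bool.not_eq_true',
      List.any_eq_false] at ho
    exact ho (pim u1 p1) (hpts1 ▸ List.mem_map_of_mem hu1) (himg g hg _ hu u1 hu1 v hv hgw.symm)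
  · refine ⟨hk, ?_⟩
    rw [show Nat.beq (orb j) 0 = false by simpa [Bool.eq_false_iff, Nat.beq_eq] using hk,
      cond_false, force_eq] at ho
    simp only [Bool.and_eq_true, Nat.blt_eq, Nat.beq_eq] at ho
    obtain ⟨hi, ⟨hlh, hch⟩, hpt⟩ := ho
    set h := unpackW 200 (orb j / 16)
    set i := orb j % 16 - 1
    set r := reps.getD i []
    have hrT : r ∈ T0 := by
      refine hreps r ?_
      rw [show r = reps.getD i [] from rfl, List.getD_eq_getElem _ _ hi]
      exact List.getElem_mem _
    have hrl : lw r = true := hT0 r hrT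
    set g' := (pv h)⁻¹ * g
    have hg' : Commute g' (pv w) := ((commB_iff hlh hw).1 hch).inv_left.mul_left hg
    -- decompose the quotient again
    obtain ⟨wd', hwd', hgw'⟩ := exists_product hok hs g'
    simp only [products, List.mem_flatMap, List.mem_map] at hwd'
    obtain ⟨u', hu', _, ⟨u1', hu1', v', hv', rfl⟩, rfl⟩ := hwd'
    have hl : lw (T0[j] ++ (u1 ++ v)) = true :=
      lw_append.2 ⟨hT0 _ hu, lw_append.2 ⟨hT1 _ hu1, products_lw hrest v hv⟩⟩
    have hl' : lw (u' ++ (u1' ++ v')) = true :=
      lw_append.2 ⟨hT0 _ hu', lw_append.2 ⟨hT1 _ hu1', products_lw hrest v' hv'⟩⟩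
    have e0 : ∀ a ∈ T0, ∀ b ∈ T1, ∀ c ∈ products rest, pim (a ++ (b ++ c)) 0 = pim a 0 := by
      intro a _ b hb c hc
      rw [pim_append, pim_append, products_fix hrest c hc 0 (by simp),
        Nat.beq_eq.mp (hT1fix b hb 0 (List.mem_cons_self ..))]
    have key : pim u' 0 = pim r 0 := by
      have h1 := pim_spec (lw_append.2 ⟨hlh, hl'⟩) ⟨0, by norm_num⟩
      rw [pv_append, hgw', mul_inv_cancel_left, ← hgw, pim_spec hl, e0 _ hu _ hu1 _ hv,
        pim_append, e0 _ hu' _ hu1' _ hv', ← hpt] at h1
      have h2 := pim_spec (lw_append.2 ⟨lw_winv hlh, hlh⟩) ⟨pim r 0, pim_lt hrl (by norm_num)⟩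
      have h3 := pim_spec (lw_append.2 ⟨lw_winv hlh, hlh⟩) ⟨pim u' 0, pim_lt (hT0 _ hu') (by norm_num)⟩
      rw [pv_append, pv, val_winv (wgen_inv relP), inv_mul_cancel, map_one, Equiv.Perm.one_apply,
        pim_append] at h2 h3
      simp only at h2 h3
      rw [h3, h2, h1]
    obtain rfl : u' = r := hinj hu' hrT key
    have hq := himg g' hg' _ hu' u1' hu1' v' hv' hgw'.symm
    have hs := hstab i hi
    simp only [stabOK, force_eq, List.all_eq_true, Bool.or_eq_true, Bool.not_eq_true',
      List.any_eq_true, Bool.and_eq_true, Nat.beq_eq] at hs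
    rcases (hs u1' hu1') with hne | hs'
    · rw [hq, Nat.beq_refl] at hne
      exact absurd hne (by decide)
    rcases hs' v' hv' with hne | ⟨t', ht', hlt, hkey⟩
    · rw [(commB_iff hl' hw).2 (hgw' ▸ hg')] at hne
      exact absurd hne (by decide)
    · refine ⟨t', ht', hlh, hlt, ?_⟩
      have he : pv t' = pv (r ++ (u1' ++ v')) := eq_of_key hlt hl' hkey
      rw [pv_append, he, hgw', mul_inv_cancel_left]

end Cfsg.Lib.HNType
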