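import Cfsg.Agent.Lib.HNType.Hom

/-!
# The fusion of the classes of the centraliser
-/

set_option autoImplicit false
set_option maxRecDepth 100000
set_option maxHeartbeats 0
set_option Elab.async false

namespace Cfsg.Lib.HNType

open Cfsg.Lib.HN Cfsg.Lib.HN.Sub100

/-- Elements of the classes of `A` and `B` with their images. -/
def fusData : List (Nat × Bool × List Nat × List Nat × List Nat) := [
  (5, true, [0, 2, 4, 2, 0, 4, 0, 4], [0, 1, 1, 0, 1, 0, 1, 0, 5, 0, 5, 0, 1, 1, 4, 1, 4], [0, 1, 1, 0, 1, 0, 5, 0, 1, 1, 0, 5]),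
  (5, false, [0, 4, 0, 4, 0, 4], [0, 1, 1, 0, 1, 0, 1, 0, 5, 0, 5, 0, 1, 1, 4, 1, 4], [0, 5, 5, 0, 1, 1, 0, 1, 0, 5, 5, 0, 5, 5, 4, 5, 4, 5, 4, 1, 4, 1]),
  (7, true, [0, 2, 4, 2, 0, 4, 0, 4], [0, 1, 1, 0, 1, 0, 1, 0, 5, 0, 5, 0, 1, 1, 4, 1, 4], [0, 5, 0, 1, 1, 0, 1, 0, 5, 4, 5, 5, 4, 1, 4, 1, 4]),
  (7, false, [0, 4, 0, 4, 0, 4], [0, 1, 1, 0, 1, 0, 1, 0, 5, 0, 5, 0, 1, 1, 4, 1, 4], [5, 5, 0, 5, 0, 5, 0, 1, 0, 1, 0, 1, 4, 5, 4, 5, 4, 1, 1, 4, 1])]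

/-- The check of an entry. -/
noncomputable def fusOK (e : ℕ × Bool × List ℕ × List ℕ × List ℕ) : Bool :=
  let R1 := cond e.2.1 Data.repA Data.repB
  let R2 := cond e.2.1 Data.repC Data.repD
  eqE (pathW EData.uW EData.bW EData.vW e.2.2.1) (winv e.2.2.2.1 ++ R1 ++ e.2.2.2.1) &&
    eqE (imgW e.1 e.2.2.1) (winv e.2.2.2.2 ++ R2 ++ e.2.2.2.2)

theorem fus_ok : (fusData.all fusOK && EData.good.all fun e => [true, false].all fun b =>
    fusData.any fun f => Nat.beq f.1 e.1 && (f.2.1 == b)) = true := by decide +kernel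

namespace CMap

variable {G : Type*} [Group G] [Finite G] [IsSimpleGroup G] {t : G} (C : CMap t false)

/-- The fusion: `A` and `C` are conjugate to `t`, and `B` to `D`. -/
theorem fusion : (∃ g : G, g * C.rg 2 * g⁻¹ = t) ∧ ∃ g : G, g * C.rg 3 * g⁻¹ = C.rg 1 := by
  obtain ⟨h, e, he, -, -, hsrc⟩ := C.exists_good
  obtain ⟨gA, hgA⟩ := C.A_fused_of_simple
  have hok := fus_ok
  simp only [Bool.and_eq_true, List.all_eq_true, List.any_eq_true, Nat.beq_eq, beq_iff_eq] at hok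
  have key : ∀ b : Bool, ∃ g : G, g * C.hom (pv (cond b Data.repC Data.repD)) * g⁻¹ =
      C.hom (pv (cond b Data.repA Data.repB)) := by
    intro b
    obtain ⟨f, hf, hf1, hf2⟩ := hok.2 e he b (by cases b <;> simp)
    have h' := hok.1 f hf
    simp only [fusOK, Bool.and_eq_true] at h'
    have h1 := eqE_spec h'.1
    have h2 := eqE_spec h'.2
    rw [pv_pathW] at h1
    simp only [pv_append, pv_winv] at h1 h2
    have hconj := hsrc f.2.2.1
    rw [h1, ← hf1, h2, hf2] at hconj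
    simp only [_root_.map_mul, _root_.map_inv] at hconj
    set r1 := C.hom (pv f.2.2.2.1)
    set r2 := C.hom (pv f.2.2.2.2)
    refine ⟨r1 * h⁻¹ * r2⁻¹, ?_⟩
    calc r1 * h⁻¹ * r2⁻¹ * C.hom (pv (cond b Data.repC Data.repD)) * (r1 * h⁻¹ * r2⁻¹)⁻¹ =
        r1 * h⁻¹ * (r2⁻¹ * C.hom (pv (cond b Data.repC Data.repD)) * r2) * (r1 * h⁻¹)⁻¹ := by group
      _ = C.hom (pv (cond b Data.repA Data.repB)) := by rw [← hconj]; group
  refine ⟨?_, ?_⟩
  · obtain ⟨g, hg⟩ := key true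
    refine ⟨gA * g, Eq.trans ?_ hgA⟩
    rw [C.rg_eq, C.rg_eq, show rep 0 = Data.repA from rfl, show rep 2 = Data.repC from rfl]
    rw [cond_true, cond_true] at hg
    rw [← hg]
    group
  · obtain ⟨g, hg⟩ := key false
    exact ⟨g, hg⟩

end CMap

end Cfsg.Lib.HNType
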