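import Cfsg.Agent.Lib.HNType.KillBase

/-!
# If the second outer class is fused to `t`
-/

set_option autoImplicit false
set_option linter.style.haveILetI false
set_option maxRecDepth 100000

namespace Cfsg.Lib.HNType

open Cfsg.Lib.HN Cfsg.Lib.HN.Sub100 Subgroup

variable {G : Type*} [Group G] {t : G}

namespace CMap

variable (C : CMap t false)

/-- The map as a homomorphism. -/
noncomputable def hom : PS →* G where
  toFun := C.e
  map_one' := C.map_one
  map_mul' _ _ := (C.mul_false).symm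

theorem hom_inj : Function.Injective C.hom := C.inj

theorem hom_comm_t (p : PS) : Commute (C.hom p) t := C.mem p

theorem hom_pre {u : G} (h : Commute u t) : ∃ p, C.hom p = u := C.surj u h

theorem hom_zc : C.hom zc = t := C.map_zc

theorem commute_hom_iff {a b : PS} : Commute (C.hom a) (C.hom b) ↔ Commute a b :=
  ⟨fun h => C.hom_inj (by rw [_root_.map_mul, _root_.map_mul]; exact h.eq), fun h => h.map C.hom⟩

theorem rg_eq (k : ℕ) : C.rg k = C.hom (pv (rep k)) := rfl

theorem rg_three : C.rg 3 = C.hom dE := rfl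

theorem tt (C : CMap t false) : t * t = 1 := by
  rw [← C.hom_zc, ← _root_.map_mul, zc_sq, _root_.map_one]

theorem t_inv (C : CMap t false) : t⁻¹ = t := inv_eq_of_mul_eq_one_right C.tt

variable [Finite G]

/-- If `D` is fused to `t`, so is `A`. -/
theorem A_fused (hD : ∃ g : G, g * C.rg 3 * g⁻¹ = t) : ∃ g : G, g * C.rg 0 * g⁻¹ = t := by
  obtain ⟨g, hg⟩ := hD
  obtain ⟨u, v, hcm, hprod⟩ := rels.tri
  set y := u⁻¹ * dE * u with hy
  have hyy : y * y = 1 := by
    rw [hy, show u⁻¹ * dE * u * (u⁻¹ * dE * u) = u⁻¹ * (dE * dE) * u by group, rels.dd, mul_one,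
      inv_mul_cancel]
  have hy1 : y ≠ 1 := by
    intro h
    have h1 : dE = 1 := by
      rw [show dE = u * y * u⁻¹ by rw [hy]; group, h]; group
    have := χ_dE
    rw [h1, _root_.map_one] at this
    exact absurd this (by decide)
  set w := g * C.hom y * g⁻¹ with hw
  have hwt : Commute w t := by
    have := (Commute.conj_iff g).2 (C.commute_hom_iff.2 hcm.symm)
    rwa [← C.rg_three, hg] at this
  have hww : w * w = 1 := by
    rw [hw, ← cjm, ← _root_.map_mul, hyy, _root_.map_one]; group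
  have hw1 : w ≠ 1 := by
    rw [hw, Ne, conj_eq_one_iff, ← C.hom.map_one]
    exact fun h => hy1 (C.hom_inj h)
  obtain ⟨c, hct, k, hk, -, hcu⟩ := C.inv_cover hww hw1 hwt
  have hB : (c * g) * C.hom (v⁻¹ * pv Data.repB * v) * (c * g)⁻¹ = t * C.rg k := by
    rw [← hprod, _root_.map_mul, cjm, ← hcu, hw]
    congr 1
    · rw [mul_inv_rev, show c * g * C.hom dE * (g⁻¹ * c⁻¹) = c * (g * C.rg 3 * g⁻¹) * c⁻¹ by
        rw [C.rg_three]; group, hg, conj_eq_self hct]
    · group
  have hconj : ∃ e : G, e * C.rg k * e⁻¹ = t := by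
    refine ⟨g * C.hom u * (g⁻¹ * c⁻¹), Eq.trans ?_ hg⟩
    rw [← hcu, hw, C.rg_three, hy]
    simp only [_root_.map_mul, _root_.map_inv]
    group
  have hnoB : ∀ e : G, e * C.hom (v⁻¹ * pv Data.repB * v) * e⁻¹ ≠ t := fun e he => by
    refine C.not_fused_B (e * (C.hom v)⁻¹) (Eq.trans ?_ he)
    rw [ _root_.map_mul, _root_.map_mul, _root_.map_inv, C.rg_eq]
    simp [rep, mul_assoc]
  obtain ⟨e, he⟩ := hconj
  interval_cases k
  · exact ⟨e, he⟩
  · exact absurd he (C.not_fused_B e)
  · exfalso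
    obtain ⟨r, hr⟩ := rels.wC
    refine hnoB (e * C.hom r * (c * g)) ?_
    have h2 : t * C.rg 2 = (C.hom r)⁻¹ * C.rg 2 * C.hom r := by
      rw [C.rg_eq, show rep 2 = Data.repC from rfl, ← _root_.map_inv, ← _root_.map_mul, ← _root_.map_mul, hr, _root_.map_mul,
        C.hom_zc]
      exact ((C.hom_comm_t _).eq).symm
    rw [show e * C.hom r * (c * g) * C.hom (v⁻¹ * pv Data.repB * v) * (e * C.hom r * (c * g))⁻¹ =
      e * (C.hom r * ((c * g) * C.hom (v⁻¹ * pv Data.repB * v) * (c * g)⁻¹) * (C.hom r)⁻¹) * e⁻¹ by group,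
      hB, h2]
    refine Eq.trans ?_ he
    group
  · exfalso
    obtain ⟨r, hr⟩ := rels.rho
    refine hnoB (e * (C.hom r)⁻¹ * (c * g)) ?_
    have h2 : t * C.rg 3 = C.hom r * C.rg 3 * (C.hom r)⁻¹ := by
      rw [C.rg_three, ← _root_.map_inv, ← _root_.map_mul, ← _root_.map_mul, hr, _root_.map_mul, C.hom_zc]
      exact ((C.hom_comm_t _).eq).symm
    rw [show e * (C.hom r)⁻¹ * (c * g) * C.hom (v⁻¹ * pv Data.repB * v) * (e * (C.hom r)⁻¹ * (c * g))⁻¹ =
      e * ((C.hom r)⁻¹ * ((c * g) * C.hom (v⁻¹ * pv Data.repB * v) * (c * g)⁻¹) * C.hom r) * e⁻¹ by group,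
      hB, h2]
    refine Eq.trans ?_ he
    group
  · exfalso
    rw [C.rg_four] at hcu
    have hwT : w = t := by
      calc w = c⁻¹ * (c * w * c⁻¹) * c := by group
        _ = t := by rw [hcu, mul_assoc, ← hct.eq, inv_mul_cancel_left]
    have hyd : y = dE := by
      refine C.hom_inj ?_
      have h := hwT.trans hg.symm
      rw [hw, C.rg_three] at h
      simpa using h
    rw [hyd, rels.dd] at hprod
    have hB1 : pv Data.repB = 1 := by
      rw [show pv Data.repB = v * (v⁻¹ * pv Data.repB * v) * v⁻¹ by group, ← hprod]; group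
    have h1 := key_eq_of_val (a := Data.repB) (b := []) (by decide) rfl hB1
    revert h1
    decide +kernel

/-- The swap of `t` and `d`. -/
theorem exists_swap (hD : ∃ g : G, g * C.rg 3 * g⁻¹ = t) :
    ∃ h : G, h * C.hom dE * h⁻¹ = t ∧ h * t * h⁻¹ = C.hom dE := by
  obtain ⟨g, hg⟩ := hD
  rw [C.rg_three] at hg
  set d := C.hom dE with hd
  have hdt : Commute d t := C.hom_comm_t dE
  set w := g * t * g⁻¹ with hw
  have hwt : Commute w t := by
    have := (Commute.conj_iff g).2 hdt.symm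
    rwa [hg] at this
  have hww : w * w = 1 := by rw [hw, ← cjm, C.tt]; group
  have hw1 : w ≠ 1 := by
    rw [hw, Ne, conj_eq_one_iff]
    intro h
    have := C.ord_t
    rw [h, orderOf_one] at this
    norm_num at this
  obtain ⟨c, hct, k, hk, -, hcu⟩ := C.inv_cover hww hw1 hwt
  set h := c * g with hh
  have h1 : h * d * h⁻¹ = t := by
    rw [hh, show c * g * d * (c * g)⁻¹ = c * (g * d * g⁻¹) * c⁻¹ by group, hg, conj_eq_self hct]
  have h2 : h * t * h⁻¹ = C.rg k := by
    rw [← hcu, hw, hh]; group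
  interval_cases k
  · -- `A` is central in a Sylow subgroup
    exfalso
    haveI : Fact (Nat.Prime 2) := ⟨Nat.prime_two⟩
    set Q := C.syl.map (MulAut.conj h⁻¹).toMonoidHom with hQ
    have hcen : ∀ i : Fin 2048, Commute (C.rg 0) (C.e (el i.1)) := by
      rw [C.rg_el.1]
      exact C.central_of_check (by norm_num) (by rw [χ_el (by norm_num), central_A.2]; rfl) central_A.1
    have hle : Q ≤ centralizer ({t} : Set G) := by
      rintro _ ⟨x, ⟨i, rfl⟩, rfl⟩
      refine mem_centralizer_singleton_iff.2 ?_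
      have := ((Commute.conj_iff h⁻¹).2 (hcen i).symm).eq
      rw [← h2, show h⁻¹ * (h * t * h⁻¹) * h⁻¹⁻¹ = t by group] at this
      simpa using this
    obtain ⟨c', hc't, hc'm⟩ := C.exists_conj_le Q (C.syl_two.map _) hle
    have hdQ : d ∈ Q := by
      refine ⟨t, ⟨⟨zIdx, zIdx_lt⟩, by rw [el_zIdx]; exact C.map_zc⟩, ?_⟩
      show h⁻¹ * t * h⁻¹⁻¹ = d
      calc h⁻¹ * t * h⁻¹⁻¹ = h⁻¹ * (h * d * h⁻¹) * h := by rw [h1, inv_inv]
        _ = d := by group
    obtain ⟨i, hi⟩ := hc'm d hdQ
    obtain ⟨a, ha⟩ := C.hom_pre hc't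
    have hb : Function.Bijective (fun x : C.syl => (⟨c' * (h⁻¹ * x.1 * h) * c'⁻¹,
        hc'm _ ⟨x.1, x.2, by show h⁻¹ * x.1 * h⁻¹⁻¹ = _; rw [inv_inv]⟩⟩ : C.syl)) :=
      Finite.injective_iff_bijective.1 fun p q e => Subtype.ext (by
        have := congrArg Subtype.val e
        simpa using this)
    have hcomm : ∀ j : Fin 2048, Commute (el i.1) (el j.1) := by
      intro j
      obtain ⟨⟨x, m, rfl⟩, hm⟩ := hb.2 ⟨C.e (el j.1), j, rfl⟩
      refine C.commute_hom_iff.1 ?_
      show Commute (C.e (el i.1)) (C.e (el j.1))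
      have hm2 := congrArg Subtype.val hm
      simp only at hm2
      rw [← hm2, hi]
      refine (Commute.conj_iff c').2 ?_
      have hzt : Commute t (C.e (el m.1)) := (C.mem _).symm
      have := (Commute.conj_iff h⁻¹).2 hzt
      rw [inv_inv, show h⁻¹ * t * h = d by
        calc h⁻¹ * t * h = h⁻¹ * (h * d * h⁻¹) * h := by rw [h1]
          _ = d := by group] at this
      exact this
    have hiE : el i.1 = a * dE * a⁻¹ := C.hom_inj (by
      rw [_root_.map_mul, _root_.map_mul, _root_.map_inv, ha]; exact hi)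
    have hpar : pOuter (row i.1).2.1 = true := by
      by_contra hne
      have h3 := χ_el i.2
      rw [hiE, _root_.map_mul, _root_.map_mul, _root_.map_inv, mul_comm (χ a), mul_inv_cancel_right, χ_dE,
        Bool.eq_false_iff.2 hne] at h3
      exact absurd h3 (by decide)
    have hnc := List.all_eq_true.1 outer_not_central i.1 (List.mem_range.2 i.2)
    simp only [notCentralOK, hpar, Bool.not_true, Bool.false_or, List.any_eq_true] at hnc
    obtain ⟨m, hm, hne⟩ := hnc
    have hm' : m < 2048 := by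
      simp only [List.mem_cons, List.not_mem_nil, or_false] at hm; omega
    obtain ⟨l1, e1⟩ := el_mul i.2 hm'
    obtain ⟨l2, e2⟩ := el_mul hm' i.2
    rw [Bool.not_eq_true', Bool.eq_false_iff, ne_eq, Nat.beq_eq] at hne
    refine hne (el_inj l1 l2 ?_)
    rw [← e1, ← e2]
    exact (hcomm ⟨m, hm'⟩).eq
  · exfalso
    refine C.not_fused_B h⁻¹ ?_
    rw [← h2]; group
  · exfalso
    obtain ⟨p15, hpC, hp15, hp5, hp3⟩ := rels.c15
    set u := h⁻¹ * C.hom p15 * h with hu
    have hut : Commute u t := by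
      have := (Commute.conj_iff h⁻¹).2 (show Commute (C.hom p15) (C.rg 2) from C.commute_hom_iff.2 hpC)
      rw [← h2, inv_inv, show h⁻¹ * (h * t * h⁻¹) * h = t by group] at this
      exact this
    have hud : Commute u d := by
      have := (Commute.conj_iff h⁻¹).2 (C.hom_comm_t p15)
      rw [inv_inv, show h⁻¹ * t * h = d by
        calc h⁻¹ * t * h = h⁻¹ * (h * d * h⁻¹) * h := by rw [h1]
          _ = d := by group] at this
      exact this
    obtain ⟨p, hp⟩ := C.hom_pre hut
    have hpd : Commute p dE := C.commute_hom_iff.1 (by rw [hp]; exact hud)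
    have hpn : ∀ n : ℕ, p ^ n = 1 ↔ p15 ^ n = 1 := by
      intro n
      rw [← C.hom_inj.eq_iff, _root_.map_pow, hp, _root_.map_one, hu,
        show h⁻¹ * C.hom p15 * h = h⁻¹ * C.hom p15 * h⁻¹⁻¹ by rw [inv_inv], conj_pow, conj_eq_one_iff,
        ← _root_.map_pow, map_eq_one_iff _ C.hom_inj]
    haveI : Fact (Nat.Prime 5) := ⟨by norm_num⟩
    have ho : orderOf (p ^ 3) = 5 := orderOf_eq_prime
      (by rw [← pow_mul]; exact (hpn 15).2 hp15) (fun e => hp3 ((hpn 3).1 e))
    obtain ⟨c5, hc5, j, hj0, hj5, hcj⟩ := d_sylow (hpd.pow_left 3) ho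
    set p' := c5 * p ^ 5 * c5⁻¹ with hp'
    have hp'f : Commute p' fE := by
      have h4 : Commute p' (fE ^ j) := by
        rw [← hcj, hp']
        exact (Commute.conj_iff c5).2 ((Commute.refl p).pow_pow 5 3)
      obtain ⟨m, hm⟩ : ∃ m : ℕ, (fE ^ j) ^ m = fE := by
        refine exists_pow_eq_self_of_coprime ?_
        rw [orderOf_fE, Nat.coprime_comm]
        exact (Nat.Prime.coprime_iff_not_dvd (by norm_num)).2 fun h => by
          have := Nat.le_of_dvd hj0 h; omega
      rw [← hm]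
      exact h4.pow_right m
    have hp'd : Commute p' dE := by
      rw [hp']
      have := (Commute.conj_iff c5).2 (hpd.pow_left 5)
      rwa [conj_eq_self hc5] at this
    have h5 := f_cent_cube hp'f (by
      rw [hp', conj_pow, ← pow_mul, (hpn 15).2 hp15]; group)
    rw [hp', conj_eq_one_iff] at h5
    exact hp5 ((hpn 5).1 h5)
  · exact ⟨h, h1, h2⟩
  · exfalso
    rw [C.rg_four] at h2
    have h3 : t = d := by simpa using h2.trans h1.symm
    have h4 : zc = dE := C.hom_inj (C.hom_zc.trans h3)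
    have := χ_dE
    rw [← h4, MonoidHom.mem_ker.1 zc_mem] at this
    exact absurd this (by decide)

end CMap

end Cfsg.Lib.HNType
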