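import Cfsg.Agent.Lib.HNType.EmbDefs

/-!
# The search for the images of the generators
-/

set_option autoImplicit false
set_option maxRecDepth 100000
set_option maxHeartbeats 0
set_option Elab.async false

namespace Cfsg.Lib.HNType

open Cfsg.Lib.HN
open Cfsg.Lib.CosetEnum (force)

theorem t4Roots_ok0 : rootsOK t4 EData.t4Clo [0, 0] 0 50 = true := by decide +kernel

theorem t4Roots_ok1 : rootsOK t4 EData.t4Clo [0, 0] 50 50 = true := by decide +kernel

theorem t4Roots_ok2 : rootsOK t4 EData.t4Clo [0, 0] 100 50 = true := by decide +kernel

theorem t4Roots_ok3 : rootsOK t4 EData.t4Clo [0, 0] 150 50 = true := by decide +kernel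

theorem t4Roots_ok4 : rootsOK t4 EData.t4Clo [0, 0] 200 50 = true := by decide +kernel

theorem t4Roots_ok5 : rootsOK t4 EData.t4Clo [0, 0] 250 50 = true := by decide +kernel

theorem t4Roots_ok6 : rootsOK t4 EData.t4Clo [0, 0] 300 50 = true := by decide +kernel

theorem t4Roots_ok7 : rootsOK t4 EData.t4Clo [0, 0] 350 50 = true := by decide +kernel

theorem t4Syl_ok : rootSylOK t4 EData.t4Syl zIdx = true := by decide +kernel

theorem a4Roots_ok0 : rootsOK a4 EData.a4Clo Data.repA 0 50 = true := by decide +kernel

theorem a4Roots_ok1 : rootsOK a4 EData.a4Clo Data.repA 50 50 = true := by decide +kernel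

theorem a4Roots_ok2 : rootsOK a4 EData.a4Clo Data.repA 100 50 = true := by decide +kernel

theorem a4Roots_ok3 : rootsOK a4 EData.a4Clo Data.repA 150 50 = true := by decide +kernel

theorem a4Roots_ok4 : rootsOK a4 EData.a4Clo Data.repA 200 50 = true := by decide +kernel

theorem a4Roots_ok5 : rootsOK a4 EData.a4Clo Data.repA 250 50 = true := by decide +kernel

theorem a4Roots_ok6 : rootsOK a4 EData.a4Clo Data.repA 300 50 = true := by decide +kernel

theorem a4Roots_ok7 : rootsOK a4 EData.a4Clo Data.repA 350 50 = true := by decide +kernel

theorem a4Syl_ok : rootSylOK a4 EData.a4Syl 1331 = true := by decide +kernel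

theorem bSearch_ok0 : bOK 0 100 = true := by decide +kernel

theorem bSearch_ok1 : bOK 100 100 = true := by decide +kernel

theorem bSearch_ok2 : bOK 200 100 = true := by decide +kernel

theorem bSearch_ok3 : bOK 300 100 = true := by decide +kernel

theorem vSearch_ok00 : vOK 0 0 100 = true := by decide +kernel

theorem vSearch_ok01 : vOK 0 100 100 = true := by decide +kernel

theorem vSearch_ok02 : vOK 0 200 100 = true := by decide +kernel

theorem vSearch_ok03 : vOK 0 300 100 = true := by decide +kernel

theorem vSearch_ok10 : vOK 1 0 100 = true := by decide +kernel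

theorem vSearch_ok11 : vOK 1 100 100 = true := by decide +kernel

theorem vSearch_ok12 : vOK 1 200 100 = true := by decide +kernel

theorem vSearch_ok13 : vOK 1 300 100 = true := by decide +kernel

theorem bad_ok : EData.bad.all badOK = true := by decide +kernel

theorem good_ok : EData.good.all goodOK = true := by decide +kernel

theorem src_ok : srcOK = true := by decide +kernel

theorem frame_ok : frameOK = true := by decide +kernel

theorem cases_ok : ((List.range 8).all fun q => EData.bad.any (fun e => Nat.beq e.1 q) ||
    EData.good.any (fun e => Nat.beq e.1 q)) = true := by decide +kernel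

end Cfsg.Lib.HNType
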