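import Cfsg.Agent.Lib.HNType.KillDefs
import Cfsg.Agent.Lib.HNType.EmbData

/-!
# Definitions of the checks for the search of the fourth generator
-/

set_option autoImplicit false
set_option maxRecDepth 100000
set_option maxHeartbeats 0
set_option Elab.async false

namespace Cfsg.Lib.HNType

open Cfsg.Lib.HN
open Cfsg.Lib.CosetEnum (force force_eq)

/-- Equality of words by keys. -/
noncomputable def eqE (a b : List ℕ) : Bool := lw a && lw b && Nat.beq (keyOf a) (keyOf b)

/-- The levels of the search for the centraliser of `A`. -/
noncomputable def cLevels : List Lev := [(0, dec EData.cT0), (681, dec EData.cT1),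
  (4, dec EData.cT2), (6, dec EData.cT3)]

/-- The levels of the search for the centraliser of the element of order three. -/
noncomputable def sLevels : List Lev := [(0, dec EData.sT0), (658, dec EData.sT1),
  (878, dec EData.sT2), (6, dec EData.sT3)]

/-- One of three words or their inverses. -/
def letW (a b c : List ℕ) : ℕ → List ℕ
  | 0 => a
  | 1 => winv a
  | 2 => b
  | 3 => winv b
  | 4 => c
  | _ => winv c

/-- The word of a path in three words. -/
def pathW (a b c : List ℕ) : List ℕ → List ℕ
  | [] => []
  | k :: p => letW a b c k ++ pathW a b c p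

/-- A root of the central involution. -/
noncomputable def t4 (j : ℕ) : List ℕ := unpackW 200 (EData.t4W.getD j 0)

/-- A root of `A`. -/
noncomputable def a4 (j : ℕ) : List ℕ := unpackW 200 (EData.a4W.getD j 0)

/-- The check of the list of roots of the value of `tgt` on a range. -/
noncomputable def rootsOK (L : ℕ → List ℕ) (clo : List ℕ) (tgt : List ℕ) (lo n : ℕ) : Bool :=
  (List.range n).all fun i => force (lo + i) fun j => force (clo.getD j 0) fun c =>
    (let w := L j
     eqE (w ++ w) tgt && eqE (w ++ Data.repA) (Data.repA ++ w) &&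
      ((List.range 3).all fun k =>
        force (c / 512 ^ k % 512) fun m => Nat.blt m 400 &&
          eqE (letW EData.uW EData.bW EData.vW (2 * k) ++ w ++
            winv (letW EData.uW EData.bW EData.vW (2 * k))) (L m)))

/-- The roots in the Sylow subgroup are listed. -/
noncomputable def rootSylOK (L : ℕ → List ℕ) (syl : List (ℕ × ℕ)) (t : ℕ) : Bool :=
  ((List.range 2048).all fun i => force i fun i =>
    !Nat.beq (sqIdx false i) t || syl.any fun e => Nat.beq e.1 i) &&
  syl.all fun e => Nat.blt e.1 2048 && Nat.blt e.2 400 &&
    (lw (L e.2) && Nat.beq (row e.1).1 (keyOf (L e.2)))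

/-- The representative images of the second generator. -/
noncomputable def repB2 (r : ℕ) : List ℕ := t4 (EData.repBIx.getD r 0)

/-- A root of the central involution fails a relation or is conjugate to a representative. -/
noncomputable def bOK (lo n : ℕ) : Bool :=
  (List.range n).all fun i => force (lo + i) fun j => force (EData.bCert.getD j 0) fun c =>
    cond (Nat.blt c 2)
      (force (keyOf (pathW EData.uW (t4 j) [] (EData.bTests.getD c []))) fun k =>
        !Nat.beq k (keyOf []))
      (force ((c - 2) % 2) fun r => force ((c - 2) / 2) fun g => Nat.blt g 80 &&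
        eqE (winv (EData.ccW.getD g []) ++ repB2 r ++ EData.ccW.getD g []) (t4 j))

/-- The certificate for the third generator. -/
def vCertOf : ℕ → List ℕ
  | 0 => EData.vCert0
  | _ => EData.vCert1

/-- A root of `A` fails a relation or is one of the cases. -/
noncomputable def vOK (r lo n : ℕ) : Bool :=
  (List.range n).all fun i => force (lo + i) fun j => force ((vCertOf r).getD j 0) fun c =>
    cond (Nat.blt c 2)
      (force (keyOf (pathW EData.uW (repB2 r) (a4 j) ((EData.vTests.getD r []).getD c []))) fun k =>
        !Nat.beq k (keyOf []))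
      (force (c - 2) fun q => Nat.blt q 8 && Nat.beq (EData.caseIx.getD q (0, 0)).1 r &&
        Nat.beq (EData.caseIx.getD q (0, 0)).2 j)

/-- The image of a path in a case. -/
noncomputable def imgW (q : ℕ) (p : List ℕ) : List ℕ :=
  pathW EData.uW (repB2 (EData.caseIx.getD q (0, 0)).1) (a4 (EData.caseIx.getD q (0, 0)).2) p

/-- The case has fusion of the outer class. -/
noncomputable def badOK (e : ℕ × Bool × List ℕ × List ℕ × List ℕ) : Bool :=
  let R1 := cond e.2.1 Data.repA Data.repD
  let R2 := cond e.2.1 Data.repD Data.repA
  eqE (pathW EData.uW EData.bW EData.vW e.2.2.1) (winv e.2.2.2.1 ++ R1 ++ e.2.2.2.1) &&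
    eqE (imgW e.1 e.2.2.1) (winv e.2.2.2.2 ++ R2 ++ e.2.2.2.2)

/-- An element of order dividing five inverted by `A`. -/
noncomputable def invFive (k : List ℕ) : Bool :=
  eqE (wpow k 5) [] && eqE (Data.repA ++ k ++ Data.repA) (winv k)

/-- The facts in the remaining cases. -/
noncomputable def goodOK (e : ℕ × List ℕ × List ℕ) : Bool :=
  let k := e.2.1
  let k2 := e.2.2
  let im := fun i => imgW e.1 (EData.srcP.getD i [])
  invFive k && invFive k2 &&
    ((List.range 5).all fun i => !eqE k2 (wpow k i)) && !eqE k [] &&
    ((List.range 5).all fun i => eqE (im i ++ k) (k ++ im i)) &&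
    eqE (winv (im 5) ++ k ++ im 5) (wpow k 3) && eqE (wpow (im 6 ++ k) 3) [] &&
    eqE (im 3) EData.sigW && eqE (im 4 ++ k2) (k2 ++ im 4) &&
    eqE (EData.sigW ++ k2) (k2 ++ EData.sigW)

/-- The keys of the powers of the two elements of a case. -/
noncomputable def kKeys (e : ℕ × List ℕ × List ℕ) : List ℕ :=
  ((List.range 5).map fun i => keyOf (wpow e.2.1 i)) ++
    (List.range 5).map fun i => keyOf (wpow e.2.2 i)

/-- An element centralising the element of order three is listed if it has order five and is
inverted. -/
noncomputable def fiveListed (g : List ℕ) : Bool :=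
  !Nat.beq (keyOf (wpow g 5)) (keyOf []) ||
    !Nat.beq (keyOf (Data.repA ++ g ++ Data.repA)) (keyOf (winv g)) ||
    force (keyOf g) fun k => EData.good.all fun e => (kKeys e).any (Nat.beq k)

/-- The conjugate of a letter by the change of frame. -/
def frW (k : ℕ) : List ℕ := winv EData.g0W ++ [k] ++ EData.g0W

/-- The word of a path in four words. -/
def path4 : List ℕ → List ℕ
  | [] => []
  | k :: p => (([EData.srcW.getD 0 [], EData.srcW.getD 1 [], EData.srcW.getD 2 [], EData.gW]).getD k []) ++
      path4 p

/-- The facts about the generators. -/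
noncomputable def srcOK : Bool :=
  eqE (wpow EData.uW 5) [] && !eqE EData.uW [] &&
    eqE (EData.bW ++ EData.bW) Data.repA && eqE (EData.vW ++ EData.vW) [0, 0] &&
    ([EData.uW, EData.bW, EData.vW].all fun w => eqE (w ++ Data.repA) (Data.repA ++ w)) &&
    (EData.bTests.all fun p => eqE (pathW EData.uW EData.bW [] p) []) &&
    (EData.vTests.all fun l => l.all fun p => eqE (pathW EData.uW EData.bW EData.vW p) []) &&
    (EData.ccW.all fun g => eqE (g ++ Data.repA) (Data.repA ++ g) && eqE (g ++ EData.uW) (EData.uW ++ g)) &&
    ((List.range 4).all fun i => eqE (EData.nW.getD (i + 1) [] ++ wpow EData.uW (i + 1) ++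
      winv (EData.nW.getD (i + 1) [])) EData.uW &&
      eqE (EData.nW.getD (i + 1) [] ++ Data.repA) (Data.repA ++ EData.nW.getD (i + 1) [])) &&
    ((List.range 4).all fun i =>
      eqE (pathW EData.uW EData.bW EData.vW (EData.sylP.getD i [])) (Data.gens.getD i [])) &&
    eqE (wpow (pathW EData.uW EData.bW EData.vW EData.threeP) 3) [] &&
    !eqE (pathW EData.uW EData.bW EData.vW EData.threeP) [] &&
    ((List.range 7).all fun i =>
      eqE (pathW EData.uW EData.bW EData.vW (EData.srcP.getD i [])) (EData.srcW.getD i []))

/-- The facts about the change of frame and the element of order three. -/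
noncomputable def frameOK : Bool :=
  let g := EData.gW
  let s := EData.srcW.getD 3 []
  eqE (EData.srcW.getD 5 []) (frW 0) && eqE (EData.srcW.getD 6 []) (frW 2) &&
    eqE (path4 EData.yP) (frW 1) &&
    eqE (wpow g 3) [] && eqE (g ++ [0, 0]) ([0, 0] ++ g) &&
    eqE (EData.srcW.getD 4 []) (winv g ++ Data.repA ++ g) &&
    (eqE (winv g ++ s ++ g) s || eqE (winv g ++ s ++ g) (s ++ s))

end Cfsg.Lib.HNType
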