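import Cfsg.Agent.Lib.HNType.EmbDefs

/-!
# Further checks: a product of two conjugates of the first outer class, and central elements
-/

set_option autoImplicit false
set_option maxRecDepth 100000
set_option maxHeartbeats 0
set_option Elab.async false

namespace Cfsg.Lib.HNType

open Cfsg.Lib.HN
open Cfsg.Lib.CosetEnum (force)

/-- A conjugating element. -/
def triCU : List ℕ := [0, 5, 2, 0, 2, 2, 2, 4, 2, 1, 4]

/-- A conjugating element. -/
def triCV : List ℕ := [5, 0, 5, 5, 0, 1, 0, 1, 1, 1, 4, 1, 1, 4, 5, 4, 5, 5]

theorem triC_ok : (let c := winv triCU ++ Data.repC ++ triCU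
    eqE (Data.repC ++ c) (c ++ Data.repC) &&
      eqE (Data.repC ++ c) (winv triCV ++ Data.repB ++ triCV) &&
      eqE (Data.repC ++ Data.repC) [] && !eqE Data.repB []) = true := by decide +kernel

/-- An outer row fails to commute with a generator. -/
noncomputable def outerOK (i : ℕ) : Bool :=
  force i fun i => !pOuter (row i).2.1 || (List.range 4).any fun k =>
    force ((row 0).2.2.getD k 0) fun g =>
      Nat.blt g 2048 && !Nat.beq (mulPath (row i).2.1 g) (mulPath (row g).2.1 i)

theorem outer_ok : (List.range 2048).all outerOK = true := by decide +kernel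

/-- The elements of the centraliser of `A`. -/
noncomputable def cLive : List ℕ :=
  (List.range 1408).filter fun j => !Nat.beq (entry EData.cOrb j) 0

theorem cLive_ok : (Nat.beq cLive.length 1280 && Nat.beq (EData.cStab.getD 0 []).length 24 &&
    (cLive.all fun j => Nat.beq (entry EData.cOrb j % 16) 1)) = true := by decide +kernel

theorem names_ok : (lw EData.g0W && lw EData.sigW && lw EData.gW) = true := by decide +kernel

end Cfsg.Lib.HNType
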