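import Cfsg.Agent.Lib.HNType.EmbDefs

/-!
# The elements centralising the element of order three
-/

set_option autoImplicit false
set_option maxRecDepth 100000
set_option maxHeartbeats 0
set_option Elab.async false

namespace Cfsg.Lib.HNType

open Cfsg.Lib.HN
open Cfsg.Lib.CosetEnum (force)

theorem fiveListed_ok0 : allListed EData.sOrb EData.sStab fiveListed 0 = true := by decide +kernel

theorem fiveListed_ok1 : allListed EData.sOrb EData.sStab fiveListed 128 = true := by decide +kernel

theorem fiveListed_ok2 : allListed EData.sOrb EData.sStab fiveListed 256 = true := by decide +kernel

theorem fiveListed_ok3 : allListed EData.sOrb EData.sStab fiveListed 384 = true := by decide +kernel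

theorem fiveListed_ok4 : allListed EData.sOrb EData.sStab fiveListed 512 = true := by decide +kernel

theorem fiveListed_ok5 : allListed EData.sOrb EData.sStab fiveListed 640 = true := by decide +kernel

theorem fiveListed_ok6 : allListed EData.sOrb EData.sStab fiveListed 768 = true := by decide +kernel

theorem fiveListed_ok7 : allListed EData.sOrb EData.sStab fiveListed 896 = true := by decide +kernel

theorem fiveListed_ok8 : allListed EData.sOrb EData.sStab fiveListed 1024 = true := by decide +kernel

theorem fiveListed_ok9 : allListed EData.sOrb EData.sStab fiveListed 1152 = true := by decide +kernel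

theorem fiveListed_ok10 : allListed EData.sOrb EData.sStab fiveListed 1280 = true := by decide +kernel

end Cfsg.Lib.HNType
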