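import Cfsg.Agent.Lib.HNType.EmbDefs

/-!
# The possible images of the first point, for `A`
-/

set_option autoImplicit false
set_option maxRecDepth 100000
set_option maxHeartbeats 0
set_option Elab.async false

namespace Cfsg.Lib.HNType

open Cfsg.Lib.HN
open Cfsg.Lib.CosetEnum (force)

theorem cOrb_ok0 : orbBlock Data.repA EData.cT0 EData.cPts1 EData.cOrb EData.cReps 0 = true := by decide +kernel

theorem cOrb_ok1 : orbBlock Data.repA EData.cT0 EData.cPts1 EData.cOrb EData.cReps 128 = true := by decide +kernel

theorem cOrb_ok2 : orbBlock Data.repA EData.cT0 EData.cPts1 EData.cOrb EData.cReps 256 = true := by decide +kernel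

theorem cOrb_ok3 : orbBlock Data.repA EData.cT0 EData.cPts1 EData.cOrb EData.cReps 384 = true := by decide +kernel

theorem cOrb_ok4 : orbBlock Data.repA EData.cT0 EData.cPts1 EData.cOrb EData.cReps 512 = true := by decide +kernel

theorem cOrb_ok5 : orbBlock Data.repA EData.cT0 EData.cPts1 EData.cOrb EData.cReps 640 = true := by decide +kernel

theorem cOrb_ok6 : orbBlock Data.repA EData.cT0 EData.cPts1 EData.cOrb EData.cReps 768 = true := by decide +kernel

theorem cOrb_ok7 : orbBlock Data.repA EData.cT0 EData.cPts1 EData.cOrb EData.cReps 896 = true := by decide +kernel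

theorem cOrb_ok8 : orbBlock Data.repA EData.cT0 EData.cPts1 EData.cOrb EData.cReps 1024 = true := by decide +kernel

theorem cOrb_ok9 : orbBlock Data.repA EData.cT0 EData.cPts1 EData.cOrb EData.cReps 1152 = true := by decide +kernel

theorem cOrb_ok10 : orbBlock Data.repA EData.cT0 EData.cPts1 EData.cOrb EData.cReps 1280 = true := by decide +kernel

end Cfsg.Lib.HNType
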