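import Cfsg.Agent.Lib.HNType.EmbDefs

/-!
# The possible images of the first point, for the element of order three
-/

set_option autoImplicit false
set_option maxRecDepth 100000
set_option maxHeartbeats 0
set_option Elab.async false

namespace Cfsg.Lib.HNType

open Cfsg.Lib.HN
open Cfsg.Lib.CosetEnum (force)

theorem sOrb_ok0 : orbBlock EData.sigW EData.sT0 EData.sPts1 EData.sOrb EData.sReps 0 = true := by decide +kernel

theorem sOrb_ok1 : orbBlock EData.sigW EData.sT0 EData.sPts1 EData.sOrb EData.sReps 128 = true := by decide +kernel

theorem sOrb_ok2 : orbBlock EData.sigW EData.sT0 EData.sPts1 EData.sOrb EData.sReps 256 = true := by decide +kernel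

theorem sOrb_ok3 : orbBlock EData.sigW EData.sT0 EData.sPts1 EData.sOrb EData.sReps 384 = true := by decide +kernel

theorem sOrb_ok4 : orbBlock EData.sigW EData.sT0 EData.sPts1 EData.sOrb EData.sReps 512 = true := by decide +kernel

theorem sOrb_ok5 : orbBlock EData.sigW EData.sT0 EData.sPts1 EData.sOrb EData.sReps 640 = true := by decide +kernel

theorem sOrb_ok6 : orbBlock EData.sigW EData.sT0 EData.sPts1 EData.sOrb EData.sReps 768 = true := by decide +kernel

theorem sOrb_ok7 : orbBlock EData.sigW EData.sT0 EData.sPts1 EData.sOrb EData.sReps 896 = true := by decide +kernel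

theorem sOrb_ok8 : orbBlock EData.sigW EData.sT0 EData.sPts1 EData.sOrb EData.sReps 1024 = true := by decide +kernel

theorem sOrb_ok9 : orbBlock EData.sigW EData.sT0 EData.sPts1 EData.sOrb EData.sReps 1152 = true := by decide +kernel

theorem sOrb_ok10 : orbBlock EData.sigW EData.sT0 EData.sPts1 EData.sOrb EData.sReps 1280 = true := by decide +kernel

end Cfsg.Lib.HNType
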