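import Cfsg.Agent.Lib.HNType.EmbDefs

/-!
# The levels and the elements with given image of the first point
-/

set_option autoImplicit false
set_option maxRecDepth 100000
set_option maxHeartbeats 0
set_option Elab.async false

namespace Cfsg.Lib.HNType

open Cfsg.Lib.HN
open Cfsg.Lib.CosetEnum (force)

theorem cLevels_ok : levelsOK [] cLevels = true := by decide +kernel

theorem cLevels_size : Nat.beq (levSize cLevels) 177408000 = true := by decide +kernel

theorem cFirst : Nat.beq (pim Data.repA 0) 681 = true ∧ lw Data.repA = true := by decide +kernel

theorem cPts1_ok : beqN ((dec EData.cT1).map fun u => pim u 681) EData.cPts1 = true := by decide +kernel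

theorem cStab_ok0 : stabOK Data.repA ((repsOf EData.cT0 EData.cReps).getD 0 []) (dec EData.cT1) 681
    (products (cLevels.drop 2)) (EData.cStab.getD 0 []) = true := by decide +kernel

theorem sLevels_ok : levelsOK [] sLevels = true := by decide +kernel

theorem sLevels_size : Nat.beq (levSize sLevels) 177408000 = true := by decide +kernel

theorem sFirst : Nat.beq (pim EData.sigW 0) 658 = true ∧ lw EData.sigW = true := by decide +kernel

theorem sPts1_ok : beqN ((dec EData.sT1).map fun u => pim u 658) EData.sPts1 = true := by decide +kernel

theorem sStab_ok0 : stabOK EData.sigW ((repsOf EData.sT0 EData.sReps).getD 0 []) (dec EData.sT1) 658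
    (products (sLevels.drop 2)) (EData.sStab.getD 0 []) = true := by decide +kernel

theorem sStab_ok1 : stabOK EData.sigW ((repsOf EData.sT0 EData.sReps).getD 1 []) (dec EData.sT1) 658
    (products (sLevels.drop 2)) (EData.sStab.getD 1 []) = true := by decide +kernel

theorem sStab_ok2 : stabOK EData.sigW ((repsOf EData.sT0 EData.sReps).getD 2 []) (dec EData.sT1) 658
    (products (sLevels.drop 2)) (EData.sStab.getD 2 []) = true := by decide +kernel

end Cfsg.Lib.HNType
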