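import Cfsg.Agent.Lib.HNType.KillDefs

/-!
# Further small checks
-/

set_option autoImplicit false
set_option maxRecDepth 100000
set_option maxHeartbeats 0
set_option Elab.async false

namespace Cfsg.Lib.HNType

open Cfsg.Lib.HN

/-- An equation between words. -/
noncomputable def eqK (a b : List ℕ) : Bool := lw a && lw b && Nat.beq (keyOf a) (keyOf b)

/-- A word carrying the representative of the first outer class to its product with the centre. -/
def wCW : List ℕ := [5, 5, 2, 1, 1, 1, 0, 1, 1, 2, 5, 4, 1, 2, 1, 4, 5, 5, 5, 2, 1]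

theorem extra_ok : (eqK (Data.repD ++ Data.repD) [] &&
    eqK (Data.repD ++ (winv Data.triD.1 ++ Data.repD ++ Data.triD.1))
      ((winv Data.triD.1 ++ Data.repD ++ Data.triD.1) ++ Data.repD) &&
    eqK (Data.repD ++ (winv Data.triD.1 ++ Data.repD ++ Data.triD.1))
      (winv Data.triD.2 ++ Data.repB ++ Data.triD.2) &&
    eqK (winv wCW ++ Data.repC ++ wCW) (Data.repC ++ [0, 0]) &&
    ([1, 2, 3, 4].any fun m =>
      eqK (KData.xW ++ KData.fW ++ winv KData.xW) (KData.fW ++ wpow KData.zW m))) = true := by
  decide +kernel

/-- The check of the orders on a block. -/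
noncomputable def fTenB (lo : ℕ) : Bool :=
  (List.range 20).all fun k => Nat.beq (keyOf (wpow (fElt (lo + k)) 10)) (keyOf [])

/-- The check of the elements of order dividing five on a block. -/
noncomputable def fFiveB (lo : ℕ) : Bool :=
  (List.range 20).all fun k =>
    (Nat.beq (fExp (lo + k)).2.2.1 0 && Nat.beq (fExp (lo + k)).2.2.2 0) ||
      !Nat.beq (keyOf (wpow (fElt (lo + k)) 5)) (keyOf [])

theorem fTenB_ok0 : fTenB 0 = true := by decide +kernel

theorem fTenB_ok1 : fTenB 20 = true := by decide +kernel

theorem fTenB_ok2 : fTenB 40 = true := by decide +kernel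

theorem fTenB_ok3 : fTenB 60 = true := by decide +kernel

theorem fTenB_ok4 : fTenB 80 = true := by decide +kernel

theorem fFiveB_ok0 : fFiveB 0 = true := by decide +kernel

theorem fFiveB_ok1 : fFiveB 20 = true := by decide +kernel

theorem fFiveB_ok2 : fFiveB 40 = true := by decide +kernel

theorem fFiveB_ok3 : fFiveB 60 = true := by decide +kernel

theorem fFiveB_ok4 : fFiveB 80 = true := by decide +kernel

end Cfsg.Lib.HNType
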