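import Cfsg.Agent.Lib.HNType.KillDefs

/-!
# The small checks
-/

set_option autoImplicit false
set_option maxRecDepth 100000
set_option maxHeartbeats 0
set_option Elab.async false

namespace Cfsg.Lib.HNType

open Cfsg.Lib.HN
open Cfsg.Lib.CosetEnum (force)

theorem fKeys_ok : KData.fKeys.length = 100 ∧ ((List.range 100).all fun i =>
    lw (fElt i) && Nat.beq (KData.fKeys.getD i 0) (keyOf (fElt i))) = true := by decide +kernel

theorem pKeys_ok : KData.pKeys.length = 125 ∧ distinctB KData.pKeys = true ∧
    ((List.range 125).all fun i => lw (pElt i) && Nat.beq (KData.pKeys.getD i 0) (keyOf (pElt i)) &&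
      ([KData.fW, KData.zW, KData.xW].all fun g =>
        force (keyOf (g ++ pElt i)) fun k => KData.pKeys.any (Nat.beq k))) = true := by decide +kernel

theorem sqKeys_ok : KData.sqKeys.length = 15 ∧ distinctB KData.sqKeys = true ∧
    ((List.range 10).all fun i => lw (sqElt i) && Nat.beq (KData.sqKeys.getD i 0) (keyOf (sqElt i))) = true ∧
    ((List.range 5).all fun i => lw (KData.sqB.getD i ([], [])).2 &&
      Nat.beq (KData.sqKeys.getD (10 + i) 0)
        (keyOf (winv (KData.sqB.getD i ([], [])).2 ++ Data.repB ++ (KData.sqB.getD i ([], [])).2))) = true ∧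
    ([(KData.u0W, KData.h0W), (KData.u1W, KData.h1W)].all fun p =>
      lw p.1 && lw p.2 && Nat.beq (keyOf p.1) (keyOf (winv p.2 ++ Data.repA ++ p.2))) = true := by
  decide +kernel

/-- Which of the elements of order 100 commute with a word. -/
noncomputable def fComm (w : List ℕ) (p : ℕ × ℕ × ℕ × ℕ → Bool) : Bool :=
  (List.range 100).all fun i => commB (fElt i) w == p (fExp i)

theorem fComm_z : fComm KData.zW (fun e => Nat.beq e.2.2.1 0) = true := by decide +kernel
theorem fComm_d : fComm Data.repD (fun e => Nat.beq e.2.1 0) = true := by decide +kernel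
theorem fComm_x : fComm KData.xW (fun e => Nat.beq e.1 0 && Nat.beq e.2.2.1 0) = true := by decide +kernel

theorem fCube : ((List.range 100).all fun i =>
    !Nat.beq (keyOf (wpow (fElt i) 3)) (keyOf []) || Nat.beq (keyOf (fElt i)) (keyOf [])) = true := by
  decide +kernel

/-- An equation between words. -/
noncomputable def eqW (a b : List ℕ) : Bool := lw a && lw b && Nat.beq (keyOf a) (keyOf b)

/-- The word of the conjugate of `a` by the inverse of `r`. -/
def conjW (r a : List ℕ) : List ℕ := r ++ a ++ winv r

theorem basic_ok : (eqW (wpow KData.fW 5) [] && !eqW KData.fW [] &&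
    eqW (wpow KData.zW 5) [] && !eqW KData.zW [] &&
    eqW (KData.fW ++ KData.zW) (KData.zW ++ KData.fW) &&
    eqW (KData.fW ++ Data.repD) (Data.repD ++ KData.fW) &&
    eqW (conjW Data.repD KData.zW) (wpow KData.zW 4) &&
    eqW (KData.xW ++ KData.zW) (KData.zW ++ KData.xW) && eqW (wpow KData.xW 5) [] &&
    !eqW (KData.xW ++ KData.fW) (KData.fW ++ KData.xW) &&
    ([KData.aW, KData.bW].all fun r => ([KData.fW, KData.zW, KData.xW].all fun g =>
      force (keyOf (conjW r g)) fun k => lw (conjW r g) && KData.pKeys.any (Nat.beq k))) &&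
    eqW (wpow KData.aW 6 ++ []) (wpow KData.aW 6) &&
    eqW (wpow KData.aW 3 ++ wpow KData.bW 2 ++ KData.aW) (wpow KData.bW 2) &&
    eqW (wpow KData.bW 4) [0, 0] && eqW (wpow KData.aW 4) KData.AW &&
    eqW (wpow KData.aW 7 ++ KData.bW) Data.repD &&
    eqW (conjW (winv KData.cAW) Data.repA) KData.AW &&
    eqW (KData.AW ++ KData.zW) (KData.zW ++ KData.AW) &&
    eqW (conjW (winv KData.rhoW) Data.repD) (Data.repD ++ [0, 0]) &&
    eqW (wpow KData.c15W 15) [] && !eqW (wpow KData.c15W 5) [] && !eqW (wpow KData.c15W 3) [] &&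
    eqW (KData.c15W ++ Data.repC) (Data.repC ++ KData.c15W) &&
    ([(KData.u0W, KData.q0W), (KData.u1W, KData.q1W)].all fun p =>
      eqW (p.2 ++ p.2) p.1 && !eqW p.1 [] && eqW (p.1 ++ p.1) [] &&
        eqW (p.2 ++ Data.repD) (Data.repD ++ p.2))) = true := by decide +kernel

/-- An element of the Sylow 3-subgroup. -/
def tElt (i : ℕ) : List ℕ := wpow KData.s1W (i / 3) ++ wpow KData.s2W (i % 3)

theorem three_ok : (eqW (wpow KData.s1W 3) [] && eqW (wpow KData.s2W 3) [] &&
    eqW (KData.s1W ++ KData.s2W) (KData.s2W ++ KData.s1W) &&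
    distinctB ((List.range 9).map fun i => keyOf (tElt i)) &&
    ((List.range 8).all fun i => lw (tElt (i + 1)) &&
      eqW (wpow (KData.w3.getD i []) 5) [] && !eqW (KData.w3.getD i []) [] &&
      eqW (tElt (i + 1) ++ KData.w3.getD i []) (KData.w3.getD i [] ++ tElt (i + 1)))) = true := by
  decide +kernel

/-- An outer element of the Sylow 2-subgroup is not central. -/
noncomputable def notCentralOK (i : ℕ) : Bool :=
  !pOuter (row i).2.1 || [1, 2, 3, 4].any fun k =>
    !Nat.beq (mulPath (row i).2.1 k) (mulPath (row k).2.1 i)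

theorem outer_not_central : (List.range 2048).all notCentralOK = true := by decide +kernel

/-- A product of two by two matrices over the field with five elements, entries as digits. -/
noncomputable def mm5 (x y : ℕ) : ℕ :=
  force x fun x => force y fun y =>
  force (x / 125) fun a => force (x / 25 % 5) fun b => force (x / 5 % 5) fun c => force (x % 5) fun d =>
  force (y / 125) fun p => force (y / 25 % 5) fun q => force (y / 5 % 5) fun r => force (y % 5) fun s =>
    (a * p + b * r) % 5 * 125 + (a * q + b * s) % 5 * 25 + (c * p + d * r) % 5 * 5 + (c * q + d * s) % 5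

/-- The key property of the 2-group of order 64. -/
noncomputable def homOK (i j : ℕ) : Bool :=
  force (mm5 i (mm5 i i)) fun p3 => force (mm5 j j) fun q2 =>
    cond (Nat.beq (mm5 (mm5 p3 q2) i) q2)
      (force (mm5 p3 i) fun p4 => Nat.beq p4 126 &&
        force (mm5 (mm5 p3 p4) j) fun d => !Nat.beq d 126 && !Nat.beq d 504)
      true

/-- A range of rows of the table. -/
noncomputable def homBlock (lo n : ℕ) : Bool :=
  ((KData.qMats.drop lo).take n).all fun j => (List.range 625).all fun i => homOK i j

theorem qMats_ok : ((List.range 625).all fun j => force (mm5 j j) fun j2 =>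
    !Nat.beq (mm5 j2 j2) 504 || KData.qMats.any (Nat.beq j)) = true := by decide +kernel

theorem hom_ok0 : homBlock 0 10 = true := by decide +kernel

theorem hom_ok1 : homBlock 10 10 = true := by decide +kernel

theorem hom_ok2 : homBlock 20 10 = true := by decide +kernel

theorem hom_ok3 : homBlock 30 10 = true ∧ KData.qMats.length = 40 := by decide +kernel

end Cfsg.Lib.HNType
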