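import Cfsg.Agent.Lib.HNType.KillDefs

/-!
# Properties of the listed elements
-/

set_option autoImplicit false
set_option maxRecDepth 100000
set_option maxHeartbeats 0
set_option Elab.async false

namespace Cfsg.Lib.HNType

open Cfsg.Lib.HN
open Cfsg.Lib.CosetEnum (force)

theorem fListed_ok0 : allListed KData.fOrb KData.fStab fListed 0 = true := by decide +kernel

theorem fListed_ok1 : allListed KData.fOrb KData.fStab fListed 128 = true := by decide +kernel

theorem fListed_ok2 : allListed KData.fOrb KData.fStab fListed 256 = true := by decide +kernel

theorem fListed_ok3 : allListed KData.fOrb KData.fStab fListed 384 = true := by decide +kernel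

theorem fListed_ok4 : allListed KData.fOrb KData.fStab fListed 512 = true := by decide +kernel

theorem fListed_ok5 : allListed KData.fOrb KData.fStab fListed 640 = true := by decide +kernel

theorem fListed_ok6 : allListed KData.fOrb KData.fStab fListed 768 = true := by decide +kernel

theorem fListed_ok7 : allListed KData.fOrb KData.fStab fListed 896 = true := by decide +kernel

theorem fListed_ok8 : allListed KData.fOrb KData.fStab fListed 1024 = true := by decide +kernel

theorem fListed_ok9 : allListed KData.fOrb KData.fStab fListed 1152 = true := by decide +kernel

theorem fListed_ok10 : allListed KData.fOrb KData.fStab fListed 1280 = true := by decide +kernel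

theorem dListed_ok0 : allListed KData.dOrb KData.dStab sqListed 0 = true := by decide +kernel

theorem dListed_ok1 : allListed KData.dOrb KData.dStab sqListed 128 = true := by decide +kernel

theorem dListed_ok2 : allListed KData.dOrb KData.dStab sqListed 256 = true := by decide +kernel

theorem dListed_ok3 : allListed KData.dOrb KData.dStab sqListed 384 = true := by decide +kernel

theorem dListed_ok4 : allListed KData.dOrb KData.dStab sqListed 512 = true := by decide +kernel

theorem dListed_ok5 : allListed KData.dOrb KData.dStab sqListed 640 = true := by decide +kernel

theorem dListed_ok6 : allListed KData.dOrb KData.dStab sqListed 768 = true := by decide +kernel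

theorem dListed_ok7 : allListed KData.dOrb KData.dStab sqListed 896 = true := by decide +kernel

theorem dListed_ok8 : allListed KData.dOrb KData.dStab sqListed 1024 = true := by decide +kernel

theorem dListed_ok9 : allListed KData.dOrb KData.dStab sqListed 1152 = true := by decide +kernel

theorem dListed_ok10 : allListed KData.dOrb KData.dStab sqListed 1280 = true := by decide +kernel

end Cfsg.Lib.HNType
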