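import Cfsg.Agent.Lib.HNType.KillDefs

/-!
# The possible images of the first point
-/

set_option autoImplicit false
set_option maxRecDepth 100000
set_option maxHeartbeats 0
set_option Elab.async false

namespace Cfsg.Lib.HNType

open Cfsg.Lib.HN
open Cfsg.Lib.CosetEnum (force)

theorem dOrb_ok0 : orbBlock Data.repD KData.dT0 KData.dPts1 KData.dOrb KData.dReps 0 = true := by decide +kernel

theorem dOrb_ok1 : orbBlock Data.repD KData.dT0 KData.dPts1 KData.dOrb KData.dReps 128 = true := by decide +kernel

theorem dOrb_ok2 : orbBlock Data.repD KData.dT0 KData.dPts1 KData.dOrb KData.dReps 256 = true := by decide +kernel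

theorem dOrb_ok3 : orbBlock Data.repD KData.dT0 KData.dPts1 KData.dOrb KData.dReps 384 = true := by decide +kernel

theorem dOrb_ok4 : orbBlock Data.repD KData.dT0 KData.dPts1 KData.dOrb KData.dReps 512 = true := by decide +kernel

theorem dOrb_ok5 : orbBlock Data.repD KData.dT0 KData.dPts1 KData.dOrb KData.dReps 640 = true := by decide +kernel

theorem dOrb_ok6 : orbBlock Data.repD KData.dT0 KData.dPts1 KData.dOrb KData.dReps 768 = true := by decide +kernel

theorem dOrb_ok7 : orbBlock Data.repD KData.dT0 KData.dPts1 KData.dOrb KData.dReps 896 = true := by decide +kernel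

theorem dOrb_ok8 : orbBlock Data.repD KData.dT0 KData.dPts1 KData.dOrb KData.dReps 1024 = true := by decide +kernel

theorem dOrb_ok9 : orbBlock Data.repD KData.dT0 KData.dPts1 KData.dOrb KData.dReps 1152 = true := by decide +kernel

theorem dOrb_ok10 : orbBlock Data.repD KData.dT0 KData.dPts1 KData.dOrb KData.dReps 1280 = true := by decide +kernel

theorem fOrb_ok0 : orbBlock KData.fW KData.fT0 KData.fPts1 KData.fOrb KData.fReps 0 = true := by decide +kernel

theorem fOrb_ok1 : orbBlock KData.fW KData.fT0 KData.fPts1 KData.fOrb KData.fReps 128 = true := by decide +kernel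

theorem fOrb_ok2 : orbBlock KData.fW KData.fT0 KData.fPts1 KData.fOrb KData.fReps 256 = true := by decide +kernel

theorem fOrb_ok3 : orbBlock KData.fW KData.fT0 KData.fPts1 KData.fOrb KData.fReps 384 = true := by decide +kernel

theorem fOrb_ok4 : orbBlock KData.fW KData.fT0 KData.fPts1 KData.fOrb KData.fReps 512 = true := by decide +kernel

theorem fOrb_ok5 : orbBlock KData.fW KData.fT0 KData.fPts1 KData.fOrb KData.fReps 640 = true := by decide +kernel

theorem fOrb_ok6 : orbBlock KData.fW KData.fT0 KData.fPts1 KData.fOrb KData.fReps 768 = true := by decide +kernel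

theorem fOrb_ok7 : orbBlock KData.fW KData.fT0 KData.fPts1 KData.fOrb KData.fReps 896 = true := by decide +kernel

theorem fOrb_ok8 : orbBlock KData.fW KData.fT0 KData.fPts1 KData.fOrb KData.fReps 1024 = true := by decide +kernel

theorem fOrb_ok9 : orbBlock KData.fW KData.fT0 KData.fPts1 KData.fOrb KData.fReps 1152 = true := by decide +kernel

theorem fOrb_ok10 : orbBlock KData.fW KData.fT0 KData.fPts1 KData.fOrb KData.fReps 1280 = true := by decide +kernel

end Cfsg.Lib.HNType
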