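import Cfsg.Agent.Lib.HNType.KillDefs

/-!
# The elements with given image of the first point
-/

set_option autoImplicit false
set_option maxRecDepth 100000
set_option maxHeartbeats 0
set_option Elab.async false

namespace Cfsg.Lib.HNType

open Cfsg.Lib.HN
open Cfsg.Lib.CosetEnum (force)

theorem dStab_ok0 : stabOK Data.repD ((repsOf KData.dT0 KData.dReps).getD 0 []) (dec KData.dT1) 652
    (products (dLevels.drop 2)) (KData.dStab.getD 0 []) = true := by decide +kernel

theorem dStab_ok1 : stabOK Data.repD ((repsOf KData.dT0 KData.dReps).getD 1 []) (dec KData.dT1) 652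
    (products (dLevels.drop 2)) (KData.dStab.getD 1 []) = true := by decide +kernel

theorem fStab_ok0 : stabOK KData.fW ((repsOf KData.fT0 KData.fReps).getD 0 []) (dec KData.fT1) 233
    (products (fLevels.drop 2)) (KData.fStab.getD 0 []) = true := by decide +kernel

theorem fStab_ok1 : stabOK KData.fW ((repsOf KData.fT0 KData.fReps).getD 1 []) (dec KData.fT1) 233
    (products (fLevels.drop 2)) (KData.fStab.getD 1 []) = true := by decide +kernel

theorem fStab_ok2 : stabOK KData.fW ((repsOf KData.fT0 KData.fReps).getD 2 []) (dec KData.fT1) 233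
    (products (fLevels.drop 2)) (KData.fStab.getD 2 []) = true := by decide +kernel

theorem fStab_ok3 : stabOK KData.fW ((repsOf KData.fT0 KData.fReps).getD 3 []) (dec KData.fT1) 233
    (products (fLevels.drop 2)) (KData.fStab.getD 3 []) = true := by decide +kernel

theorem fStab_ok4 : stabOK KData.fW ((repsOf KData.fT0 KData.fReps).getD 4 []) (dec KData.fT1) 233
    (products (fLevels.drop 2)) (KData.fStab.getD 4 []) = true := by decide +kernel

theorem fStab_ok5 : stabOK KData.fW ((repsOf KData.fT0 KData.fReps).getD 5 []) (dec KData.fT1) 233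
    (products (fLevels.drop 2)) (KData.fStab.getD 5 []) = true := by decide +kernel

theorem fStab_ok6 : stabOK KData.fW ((repsOf KData.fT0 KData.fReps).getD 6 []) (dec KData.fT1) 233
    (products (fLevels.drop 2)) (KData.fStab.getD 6 []) = true := by decide +kernel

theorem fStab_ok7 : stabOK KData.fW ((repsOf KData.fT0 KData.fReps).getD 7 []) (dec KData.fT1) 233
    (products (fLevels.drop 2)) (KData.fStab.getD 7 []) = true := by decide +kernel

theorem fStab_ok8 : stabOK KData.fW ((repsOf KData.fT0 KData.fReps).getD 8 []) (dec KData.fT1) 233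
    (products (fLevels.drop 2)) (KData.fStab.getD 8 []) = true := by decide +kernel

theorem fStab_ok9 : stabOK KData.fW ((repsOf KData.fT0 KData.fReps).getD 9 []) (dec KData.fT1) 233
    (products (fLevels.drop 2)) (KData.fStab.getD 9 []) = true := by decide +kernel

end Cfsg.Lib.HNType
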