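import Cfsg.Agent.Lib.HNType.KillLevels
import Cfsg.Agent.Lib.HNType.KillOrbits
import Cfsg.Agent.Lib.HNType.KillStabs
import Cfsg.Agent.Lib.HNType.KillLists
import Cfsg.Agent.Lib.HNType.KillChecks

/-!
# Facts on the double cover of `HS:2` for the argument excluding the second outer class
-/

set_option autoImplicit false
set_option maxRecDepth 100000

namespace Cfsg.Lib.HNType

open Cfsg.Lib.HN Cfsg.Lib.HN.Sub100
open Cfsg.Lib.CosetEnum (force force_eq)

/-- The element of order five. -/
noncomputable abbrev fE : PS := pv KData.fW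
/-- The central element of order five. -/
noncomputable abbrev zE : PS := pv KData.zW
/-- The third element of order five. -/
noncomputable abbrev xE : PS := pv KData.xW
/-- The representative of the second outer class. -/
noncomputable abbrev dE : PS := pv Data.repD
/-- The central involution of the 2-group. -/
noncomputable abbrev AE : PS := pv KData.AW
/-- A generator of the 2-group. -/
noncomputable abbrev aE : PS := pv KData.aW
/-- A generator of the 2-group. -/
noncomputable abbrev bE : PS := pv KData.bW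

theorem pv_wpow (w : List ℕ) : ∀ n, pv (wpow w n) = pv w ^ n
  | 0 => by simp [wpow, pv]
  | n + 1 => by rw [wpow, pv_append, pv_wpow w n, pow_succ']

theorem lw_wpow {w : List ℕ} (h : lw w = true) : ∀ n, lw (wpow w n) = true
  | 0 => rfl
  | n + 1 => lw_append.2 ⟨h, lw_wpow h n⟩

theorem pv_winv (w : List ℕ) : pv (winv w) = (pv w)⁻¹ := val_winv (wgen_inv relP) w

theorem eqW_spec {a b : List ℕ} (h : eqW a b = true) : pv a = pv b := by
  simp only [eqW, Bool.and_eq_true, Nat.beq_eq] at h
  exact eq_of_key h.1.1 h.1.2 h.2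

theorem neW_spec {a b : List ℕ} (ha : lw a = true) (hb : lw b = true) (h : (!eqW a b) = true) :
    pv a ≠ pv b := fun e => by
  simp only [eqW, ha, hb, key_eq_of_val ha hb e, Nat.beq_refl, Bool.and_self, Bool.not_true] at h
  exact absurd h (by decide)

theorem pv_nil : pv [] = 1 := rfl

theorem names_lw : lw KData.fW = true ∧ lw KData.zW = true ∧ lw KData.xW = true ∧ lw KData.aW = true ∧
    lw KData.bW = true ∧ lw KData.AW = true ∧ lw KData.cAW = true ∧ lw KData.rhoW = true ∧
    lw KData.c15W = true ∧ lw KData.s1W = true ∧ lw KData.s2W = true ∧ lw KData.u0W = true ∧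
    lw KData.u1W = true ∧ lw KData.q0W = true ∧ lw KData.q1W = true := by decide +kernel

theorem beqN_eq : ∀ {a b : List ℕ}, beqN a b = true → a = b
  | [], [], _ => rfl
  | [], _ :: _, h => by simp [beqN] at h
  | _ :: _, [], h => by simp [beqN] at h
  | a :: l, b :: m, h => by
    simp only [beqN, Bool.and_eq_true, Nat.beq_eq] at h
    rw [h.1, beqN_eq h.2]

theorem dec_getD (l : List ℕ) {j : ℕ} (hj : j < l.length) :
    (dec l).getD j [] = unpackW 200 (l.getD j 0) := by
  rw [dec, List.getD_eq_getElem _ _ (by simpa using hj), List.getElem_map, List.getD_eq_getElem _ _ hj]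

theorem repsOf_mem {T0 idx : List ℕ} (h : ∀ i ∈ idx, i < T0.length) :
    ∀ r ∈ repsOf T0 idx, r ∈ dec T0 := by
  intro r hr
  obtain ⟨i, hi, rfl⟩ := List.mem_map.1 hr
  rw [List.getD_eq_getElem _ _ (h i hi)]
  exact List.mem_map_of_mem (List.getElem_mem _)

theorem blocks {p : ℕ → Bool} (h : ∀ b < 11, p (b * 128) = true) {q : ℕ → Prop}
    (hq : ∀ lo, p lo = true → ∀ k < 128, q (lo + k)) {j : ℕ} (hj : j < 1408) : q j := by
  have := hq _ (h (j / 128) (by omega)) (j % 128) (by omega)
  rwa [show j / 128 * 128 + j % 128 = j by omega] at this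

theorem data_len : KData.dT0.length = 1408 ∧ KData.fT0.length = 1408 ∧
    (∀ i ∈ KData.dReps, i < 1408) ∧ (∀ i ∈ KData.fReps, i < 1408) ∧ KData.dReps.length = 2 ∧
    KData.fReps.length = 10 := by decide +kernel

theorem f_listed {g : PS} (hg : Commute g fE) : ∃ h : List ℕ, lw h = true ∧ fListed h = true ∧ g = pv h := by
  obtain ⟨-, lf, -, hrf, -, hlen⟩ := data_len
  obtain ⟨j, hj, hne, s, hs, hlh, hls, rfl⟩ := cent_complete (w := KData.fW) fFirst.2
    (T0 := dec KData.fT0) (T1 := dec KData.fT1) (p1 := 233)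
    (rest := [(259, dec KData.fT2), (748, dec KData.fT3)]) fLevels_ok
    (Nat.beq_eq.mp fLevels_size) fFirst.1
    (reps := repsOf KData.fT0 KData.fReps) (stabs := KData.fStab)
    (repsOf_mem (by rw [lf]; exact hrf)) (beqN_eq fPts1_ok)
    (orb := entry KData.fOrb)
    (fun j hj => by
      rw [dec, List.length_map, lf] at hj
      rw [dec_getD _ (by rw [lf]; exact hj)]
      refine blocks (p := orbBlock KData.fW KData.fT0 KData.fPts1 KData.fOrb KData.fReps)
        (q := fun j => orbOK KData.fW (unpackW 200 (KData.fT0.getD j 0)) KData.fPts1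
          (repsOf KData.fT0 KData.fReps) (entry KData.fOrb j) = true) (fun b hb => ?_)
        (fun lo h k hk => by
          have := List.all_eq_true.1 h k (List.mem_range.2 hk)
          simpa [force_eq] using this) hj
      interval_cases b
      exacts [fOrb_ok0, fOrb_ok1, fOrb_ok2, fOrb_ok3, fOrb_ok4, fOrb_ok5, fOrb_ok6, fOrb_ok7,
        fOrb_ok8, fOrb_ok9, fOrb_ok10])
    (fun i hi => by
      rw [repsOf, List.length_map, hlen] at hi
      interval_cases i
      exacts [fStab_ok0, fStab_ok1, fStab_ok2, fStab_ok3, fStab_ok4, fStab_ok5, fStab_ok6,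
        fStab_ok7, fStab_ok8, fStab_ok9]) hg
  rw [dec, List.length_map, lf] at hj
  refine ⟨_, lw_append.2 ⟨hlh, hls⟩, ?_, rfl⟩
  refine blocks (p := allListed KData.fOrb KData.fStab fListed)
    (q := fun j => ∀ s ∈ KData.fStab.getD (entry KData.fOrb j % 16 - 1) [],
      entry KData.fOrb j ≠ 0 → fListed (unpackW 200 (entry KData.fOrb j / 16) ++ s) = true)
    (fun b hb => ?_) (fun lo h k hk s hs hne => ?_) hj s hs hne
  · interval_cases b
    exacts [fListed_ok0, fListed_ok1, fListed_ok2, fListed_ok3, fListed_ok4, fListed_ok5,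
      fListed_ok6, fListed_ok7, fListed_ok8, fListed_ok9, fListed_ok10]
  · have h1 := List.all_eq_true.1 h k (List.mem_range.2 hk)
    simp only [force_eq, Bool.or_eq_true, Nat.beq_eq, List.all_eq_true] at h1
    exact (h1.resolve_left hne) s hs

theorem d_listed {g : PS} (hg : Commute g dE) : ∃ h : List ℕ, lw h = true ∧ sqListed h = true ∧ g = pv h := by
  obtain ⟨ld, -, hrd, -, hlen, -⟩ := data_len
  obtain ⟨j, hj, hne, s, hs, hlh, hls, rfl⟩ := cent_complete (w := Data.repD) dFirst.2
    (T0 := dec KData.dT0) (T1 := dec KData.dT1) (p1 := 652)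
    (rest := [(4, dec KData.dT2), (7, dec KData.dT3), (8, dec KData.dT4)]) dLevels_ok
    (Nat.beq_eq.mp dLevels_size) dFirst.1
    (reps := repsOf KData.dT0 KData.dReps) (stabs := KData.dStab)
    (repsOf_mem (by rw [ld]; exact hrd)) (beqN_eq dPts1_ok)
    (orb := entry KData.dOrb)
    (fun j hj => by
      rw [dec, List.length_map, ld] at hj
      rw [dec_getD _ (by rw [ld]; exact hj)]
      refine blocks (p := orbBlock Data.repD KData.dT0 KData.dPts1 KData.dOrb KData.dReps)
        (q := fun j => orbOK Data.repD (unpackW 200 (KData.dT0.getD j 0)) KData.dPts1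
          (repsOf KData.dT0 KData.dReps) (entry KData.dOrb j) = true) (fun b hb => ?_)
        (fun lo h k hk => by
          have := List.all_eq_true.1 h k (List.mem_range.2 hk)
          simpa [force_eq] using this) hj
      interval_cases b
      exacts [dOrb_ok0, dOrb_ok1, dOrb_ok2, dOrb_ok3, dOrb_ok4, dOrb_ok5, dOrb_ok6, dOrb_ok7,
        dOrb_ok8, dOrb_ok9, dOrb_ok10])
    (fun i hi => by
      rw [repsOf, List.length_map, hlen] at hi
      interval_cases i
      exacts [dStab_ok0, dStab_ok1]) hg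
  rw [dec, List.length_map, ld] at hj
  refine ⟨_, lw_append.2 ⟨hlh, hls⟩, ?_, rfl⟩
  refine blocks (p := allListed KData.dOrb KData.dStab sqListed)
    (q := fun j => ∀ s ∈ KData.dStab.getD (entry KData.dOrb j % 16 - 1) [],
      entry KData.dOrb j ≠ 0 → sqListed (unpackW 200 (entry KData.dOrb j / 16) ++ s) = true)
    (fun b hb => ?_) (fun lo h k hk s hs hne => ?_) hj s hs hne
  · interval_cases b
    exacts [dListed_ok0, dListed_ok1, dListed_ok2, dListed_ok3, dListed_ok4, dListed_ok5,
      dListed_ok6, dListed_ok7, dListed_ok8, dListed_ok9, dListed_ok10]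
  · have h1 := List.all_eq_true.1 h k (List.mem_range.2 hk)
    simp only [force_eq, Bool.or_eq_true, Nat.beq_eq, List.all_eq_true] at h1
    exact (h1.resolve_left hne) s hs

theorem index_of_any {l : List ℕ} {k : ℕ} (h : l.any (Nat.beq k) = true) :
    ∃ i < l.length, l.getD i 0 = k := by
  obtain ⟨a, ha, hk⟩ := List.any_eq_true.1 h
  obtain ⟨i, hi, rfl⟩ := List.getElem_of_mem ha
  exact ⟨i, hi, by rw [List.getD_eq_getElem _ _ hi]; exact (Nat.beq_eq.mp hk).symm⟩

theorem pv_fElt (i : ℕ) : pv (fElt i) =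
    fE ^ (fExp i).1 * zE ^ (fExp i).2.1 * dE ^ (fExp i).2.2.1 * zc ^ (fExp i).2.2.2 := by
  rw [fElt, pv_append, pv_append, pv_append, pv_wpow, pv_wpow, pv_wpow, pv_wpow, zc_val]

/-- The centraliser of the element of order five. -/
theorem f_cent {g : PS} (hg : Commute g fE) : ∃ i < 100, g = pv (fElt i) := by
  obtain ⟨h, hl, hk, rfl⟩ := f_listed hg
  simp only [fListed, force_eq] at hk
  obtain ⟨i, hi, he⟩ := index_of_any hk
  rw [fKeys_ok.1] at hi
  have h1 := List.all_eq_true.1 fKeys_ok.2 i (List.mem_range.2 hi)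
  simp only [Bool.and_eq_true, Nat.beq_eq] at h1
  exact ⟨i, hi, eq_of_key hl h1.1 (he.symm.trans h1.2)⟩

theorem fComm_spec {w : List ℕ} {p : ℕ × ℕ × ℕ × ℕ → Bool} (hw : lw w = true)
    (h : fComm w p = true) {i : ℕ} (hi : i < 100) :
    Commute (pv (fElt i)) (pv w) ↔ p (fExp i) = true := by
  have h1 := List.all_eq_true.1 h i (List.mem_range.2 hi)
  have hl : lw (fElt i) = true := by
    have := List.all_eq_true.1 fKeys_ok.2 i (List.mem_range.2 hi)
    simp only [Bool.and_eq_true] at this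
    exact this.1
  rw [← commB_iff hl hw, beq_iff_eq.mp h1]

/-- Elements of the centraliser of `f` centralising `z`. -/
theorem f_cent_z {g : PS} (hg : Commute g fE) (hz : Commute g zE) :
    ∃ a b e, a < 5 ∧ b < 5 ∧ e < 2 ∧ g = fE ^ a * zE ^ b * zc ^ e := by
  obtain ⟨i, hi, rfl⟩ := f_cent hg
  have h := (fComm_spec names_lw.2.1 fComm_z hi).1 hz
  rw [Nat.beq_eq] at h
  refine ⟨(fExp i).1, (fExp i).2.1, (fExp i).2.2.2, ?_, ?_, ?_, ?_⟩
  · show i / 20 < 5; omega
  · show i / 4 % 5 < 5; omega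
  · show i % 2 < 2; omega
  · rw [pv_fElt, h, pow_zero, mul_one]

/-- Elements of the centraliser of `f` centralising `d`. -/
theorem f_cent_d {g : PS} (hg : Commute g fE) (hd : Commute g dE) :
    ∃ a c e, a < 5 ∧ c < 2 ∧ e < 2 ∧ g = fE ^ a * dE ^ c * zc ^ e := by
  obtain ⟨i, hi, rfl⟩ := f_cent hg
  have h := (fComm_spec dFirst.2 fComm_d hi).1 hd
  rw [Nat.beq_eq] at h
  refine ⟨(fExp i).1, (fExp i).2.2.1, (fExp i).2.2.2, ?_, ?_, ?_, ?_⟩
  · show i / 20 < 5; omega
  · show i / 2 % 2 < 2; omega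
  · show i % 2 < 2; omega
  · rw [pv_fElt, h, pow_zero, mul_one]

/-- Elements of the centraliser of `f` centralising `x`. -/
theorem f_cent_x {g : PS} (hg : Commute g fE) (hx : Commute g xE) :
    ∃ b e, b < 5 ∧ e < 2 ∧ g = zE ^ b * zc ^ e := by
  obtain ⟨i, hi, rfl⟩ := f_cent hg
  have h := (fComm_spec names_lw.2.2.1 fComm_x hi).1 hx
  rw [Bool.and_eq_true, Nat.beq_eq, Nat.beq_eq] at h
  refine ⟨(fExp i).2.1, (fExp i).2.2.2, ?_, ?_, ?_⟩
  · show i / 4 % 5 < 5; omega
  · show i % 2 < 2; omega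
  · rw [pv_fElt, h.1, h.2, pow_zero, pow_zero, one_mul, mul_one]

/-- The centraliser of `f` has no element of order three. -/
theorem f_cent_cube {g : PS} (hg : Commute g fE) (h3 : g ^ 3 = 1) : g = 1 := by
  obtain ⟨i, hi, rfl⟩ := f_cent hg
  have hl : lw (fElt i) = true := by
    have := List.all_eq_true.1 fKeys_ok.2 i (List.mem_range.2 hi)
    simp only [Bool.and_eq_true] at this
    exact this.1
  have h := List.all_eq_true.1 fCube i (List.mem_range.2 hi)
  rw [Bool.or_eq_true, Bool.not_eq_true'] at h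
  rcases h with h | h
  · exfalso
    rw [Bool.eq_false_iff, ne_eq, Nat.beq_eq] at h
    exact h (key_eq_of_val (lw_wpow hl 3) (by decide) ((pv_wpow _ 3).trans h3))
  · exact eq_of_key hl (by decide) (Nat.beq_eq.mp h)

/-- The ten squares in the class of `A`. -/
noncomputable def sqE (i : ℕ) : PS := pv (sqElt i)

theorem sqE_inj {i j : ℕ} (hi : i < 10) (hj : j < 10) (h : sqE i = sqE j) : i = j := by
  obtain ⟨hlen, hnd, hk, -, -⟩ := sqKeys_ok
  have hki := List.all_eq_true.1 hk i (List.mem_range.2 hi)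
  have hkj := List.all_eq_true.1 hk j (List.mem_range.2 hj)
  simp only [Bool.and_eq_true, Nat.beq_eq] at hki hkj
  have h1 := key_eq_of_val hki.1 hkj.1 h
  rw [← hki.2, ← hkj.2, List.getD_eq_getElem _ _ (by omega), List.getD_eq_getElem _ _ (by omega)] at h1
  exact (distinctB_nodup hnd).getElem_inj_iff.1 h1

theorem sqE_eq (i : ℕ) : sqE i = fE ^ (i % 5) * pv (uW (i / 5)) * (fE ^ (i % 5))⁻¹ := by
  rw [sqE, sqElt, pv_append, pv_append, pv_winv, pv_wpow]

/-- Squares of elements of order four centralising `d`. -/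
theorem d_squares {g : PS} (hg : Commute g dE) (h4 : g ^ 4 = 1) (h2 : g ^ 2 ≠ 1) :
    (∃ i < 10, g ^ 2 = sqE i) ∨ ∃ r, g ^ 2 = r⁻¹ * pv Data.repB * r := by
  obtain ⟨h, hl, hk, rfl⟩ := d_listed hg
  have hl2 : lw (h ++ h) = true := lw_append.2 ⟨hl, hl⟩
  simp only [sqListed, force_eq, Bool.or_eq_true, Bool.not_eq_true', Nat.beq_eq] at hk
  rcases hk with (hk | hk) | hk
  · exfalso
    refine h2 ?_
    rw [pow_two, ← pv_append]
    exact eq_of_key hl2 (by decide) hk
  · obtain ⟨i, hi, he⟩ := index_of_any hk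
    obtain ⟨hlen, -, hA, hB, -⟩ := sqKeys_ok
    rw [hlen] at hi
    rw [pow_two, ← pv_append]
    by_cases h10 : i < 10
    · refine Or.inl ⟨i, h10, ?_⟩
      have h1 := List.all_eq_true.1 hA i (List.mem_range.2 h10)
      simp only [Bool.and_eq_true, Nat.beq_eq] at h1
      exact eq_of_key hl2 h1.1 (he.symm.trans h1.2)
    · refine Or.inr ⟨pv (KData.sqB.getD (i - 10) ([], [])).2, ?_⟩
      have h1 := List.all_eq_true.1 hB (i - 10) (List.mem_range.2 (by omega))
      simp only [Bool.and_eq_true, Nat.beq_eq] at h1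
      rw [← pv_winv, ← pv_append, ← pv_append]
      refine eq_of_key hl2 (lw_append.2 ⟨lw_append.2 ⟨lw_winv h1.1, by decide⟩, h1.1⟩) ?_
      rw [← he, ← h1.2, show 10 + (i - 10) = i by omega]
  · exfalso
    rw [Bool.eq_false_iff, ne_eq, Nat.beq_eq] at hk
    refine hk (key_eq_of_val (lw_append.2 ⟨hl2, hl2⟩) (by decide) ?_)
    show pv (h ++ h ++ (h ++ h)) = pv []
    rw [pv_append, pv_append, ← pow_two, ← pow_two, ← pow_mul, h4]
    rfl

/-- A number of a matrix equation. -/
theorem hom_table {i j : ℕ} (hi : i < 625) (hj : j < 625) (hT : mm5 (mm5 j j) (mm5 j j) = 504)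
    (hrel : mm5 (mm5 (mm5 i (mm5 i i)) (mm5 j j)) i = mm5 j j) :
    mm5 (mm5 i (mm5 i i)) i = 126 := by
  have h1 := List.all_eq_true.1 qMats_ok j (List.mem_range.2 hj)
  simp only [force_eq, Bool.or_eq_true, Bool.not_eq_true'] at h1
  rcases h1 with h1 | h1
  · rw [hT] at h1; exact absurd h1 (by decide)
  obtain ⟨q, hq, hjq⟩ := List.any_eq_true.1 h1
  rw [Nat.beq_eq] at hjq
  subst hjq
  obtain ⟨k, hk, rfl⟩ := List.getElem_of_mem hq
  rw [hom_ok3.2] at hk
  have key : ∀ lo, homBlock lo 10 = true → lo ≤ k → k < lo + 10 →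
      homOK i (KData.qMats[k]'(by rw [hom_ok3.2]; exact hk)) = true := by
    intro lo h h1 h2
    simp only [homBlock, List.all_eq_true] at h
    refine h _ ?_ i (List.mem_range.2 hi)
    rw [List.mem_iff_getElem]
    refine ⟨k - lo, by simp [hom_ok3.2]; omega, ?_⟩
    simp [List.getElem_take, show lo + (k - lo) = k by omega]
  have h2 : homOK i (KData.qMats[k]'(by rw [hom_ok3.2]; exact hk)) = true := by
    rcases Nat.lt_or_ge k 10 with h | h
    · exact key 0 hom_ok0 (by omega) (by omega)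
    rcases Nat.lt_or_ge k 20 with h' | h'
    · exact key 10 hom_ok1 h (by omega)
    rcases Nat.lt_or_ge k 30 with h'' | h''
    · exact key 20 hom_ok2 h' (by omega)
    · exact key 30 hom_ok3.1 h'' (by omega)
  simp only [homOK, force_eq, hrel, Nat.beq_refl, cond_true, Bool.and_eq_true, Nat.beq_eq] at h2
  exact h2.1

end Cfsg.Lib.HNType
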