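import Cfsg.Agent.Lib.Invol.Cyclic
import Mathlib.GroupTheory.IndexNormal

/-!
# General lemmas for the argument excluding the second outer class
-/

set_option autoImplicit false

namespace Cfsg.Lib.HNType

open Subgroup

variable {G : Type*} [Group G]

/-- Conjugation distributes over products. -/
theorem cjm (c g h : G) : c * (g * h) * c⁻¹ = c * g * c⁻¹ * (c * h * c⁻¹) := by group

theorem conj_eq_self {c g : G} (h : Commute c g) : c * g * c⁻¹ = g := by
  rw [h.eq, mul_inv_cancel_right]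

theorem commute_of_conj {c g : G} (h : c * g * c⁻¹ = g) : Commute c g := by
  show c * g = g * c
  conv_rhs => rw [← h]
  rw [inv_mul_cancel_right]

/-- A `p`-subgroup containing every normalising `p`-element is a Sylow subgroup. -/
theorem sylow_of_normalizer [Finite G] {p : ℕ} [Fact p.Prime] (P : Subgroup G) (hP : IsPGroup p P)
    (h : ∀ q ∈ normalizer (P : Set G), IsPGroup p (zpowers q) → q ∈ P) :
    ∃ S : Sylow p G, (S : Subgroup G) = P := by
  obtain ⟨S, hS⟩ := hP.exists_le_sylow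
  refine ⟨S, ?_⟩
  by_contra hne
  have hnil : Group.IsNilpotent (S : Subgroup G) := S.2.isNilpotent
  have hlt : P.subgroupOf (S : Subgroup G) < ⊤ := by
    rw [lt_top_iff_ne_top, Ne, subgroupOf_eq_top]
    exact fun h => hne (le_antisymm h hS)
  obtain ⟨n, hn, hnot⟩ :=
    SetLike.exists_of_lt (Group.normalizerCondition_of_isNilpotent (G := (S : Subgroup G)) _ hlt)
  rw [mem_subgroupOf] at hnot
  rw [Subgroup.mem_normalizer_iff] at hn
  refine hnot (h n.1 (Subgroup.mem_normalizer_iff.2 fun a => ⟨fun ha => ?_, fun ha => ?_⟩)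
    (S.2.to_le (zpowers_le.2 n.2)))
  · exact (hn ⟨a, hS ha⟩).1 ha
  · have hSa : a ∈ (S : Subgroup G) := by
      have h1 := (S : Subgroup G).mul_mem ((S : Subgroup G).mul_mem ((S : Subgroup G).inv_mem n.2) (hS ha)) n.2
      simpa [mul_assoc] using h1
    exact (hn ⟨a, hSa⟩).2 ha

/-- An element of odd order is the square of one of its powers. -/
theorem exists_half [Finite G] {a : G} (h : Odd (orderOf a)) : ∃ m : ℕ, (a ^ m) * (a ^ m) = a := by
  obtain ⟨k, hk⟩ := h
  refine ⟨k + 1, ?_⟩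
  rw [← pow_add, show k + 1 + (k + 1) = orderOf a + 1 by omega, pow_succ, pow_orderOf_eq_one, one_mul]

/-- A subgroup of odd order on which two commuting involutions act, with central fixed points of the
first one, is covered by the fixed points of the three involutions. -/
theorem le_of_fixed [Finite G] {O W Z : Subgroup G} {t d : G} (hO : Odd (Nat.card O))
    (ht : t * t = 1) (hd : d * d = 1) (htd : Commute t d)
    (hOt : ∀ w ∈ O, t * w * t ∈ O) (hOd : ∀ w ∈ O, d * w * d ∈ O)
    (hZO : Z ≤ O) (hZW : Z ≤ W) (hZd : ∀ w ∈ Z, d * w * d ∈ Z)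
    (hZc : ∀ z ∈ Z, ∀ w ∈ O, Commute z w)
    (hZt : ∀ z ∈ Z, Commute z t)
    (hfix : ∀ w ∈ O, Commute w t → w ∈ Z)
    (hW : ∀ w ∈ O, Commute w d → w ∈ W) (hW' : ∀ w ∈ O, Commute w (t * d) → w ∈ W) :
    O ≤ W := by
  have hodd : ∀ w ∈ O, Odd (orderOf w) := fun w hw => hO.of_dvd_nat ((Subgroup.orderOf_dvd_natCard O hw))
  -- `t` inverts modulo `Z`
  have hinv : ∀ w ∈ O, w * (t * w * t) ∈ Z := by
    intro w hw
    set y := w⁻¹ * (t * w * t) with hy
    have hyO : y ∈ O := O.mul_mem (O.inv_mem hw) (hOt w hw)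
    have hyt : t * y * t = y⁻¹ := by
      rw [hy, mul_inv_rev, inv_inv, mul_inv_rev, mul_inv_rev,
        show t⁻¹ = t from inv_eq_of_mul_eq_one_left ht]
      calc t * (w⁻¹ * (t * w * t)) * t = t * w⁻¹ * t * w * (t * t) := by group
        _ = t * (w⁻¹ * t) * w := by rw [ht, mul_one]; group
    obtain ⟨m, hm⟩ := exists_half (hodd _ (O.inv_mem hyO))
    set b := y⁻¹ ^ m with hb
    have hbt : t * b * t = b⁻¹ := by
      have h1 : t * y⁻¹ * t⁻¹ = y := by
        rw [← inv_inj, mul_inv_rev, mul_inv_rev, inv_inv, inv_inv, ← mul_assoc,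
          show t⁻¹ = t from inv_eq_of_mul_eq_one_left ht, hyt]
      calc t * b * t = t * b * t⁻¹ := by rw [show t⁻¹ = t from inv_eq_of_mul_eq_one_left ht]
        _ = (t * y⁻¹ * t⁻¹) ^ m := by rw [hb, conj_pow]
        _ = b⁻¹ := by rw [h1, hb, inv_pow, inv_inv]
    have hbO : b ∈ O := O.pow_mem (O.inv_mem hyO) m
    have hwt : t * w * t = w * (b * b)⁻¹ := by rw [hm, inv_inv, hy, mul_inv_cancel_left]
    have ha : w * b⁻¹ ∈ Z := by
      refine hfix _ (O.mul_mem hw (O.inv_mem hbO)) ?_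
      have h2 : t * b⁻¹ * t = b := by
        calc t * b⁻¹ * t = t * (t * b * t) * t := by rw [hbt]
          _ = (t * t) * b * (t * t) := by group
          _ = b := by rw [ht, one_mul, mul_one]
      refine (commute_of_conj ?_).symm
      rw [show t⁻¹ = t from inv_eq_of_mul_eq_one_left ht]
      calc t * (w * b⁻¹) * t = t * w * (t * t) * b⁻¹ * t := by rw [ht]; group
        _ = (t * w * t) * (t * b⁻¹ * t) := by group
        _ = w * b⁻¹ := by rw [hwt, h2]; group
    rw [hwt, show w * (w * (b * b)⁻¹) = (w * b⁻¹) * (b * (w * b⁻¹)) * b⁻¹ by group,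
      ← (hZc _ ha b hbO).eq, show (w * b⁻¹) * (w * b⁻¹ * b) * b⁻¹ = w * b⁻¹ * (w * b⁻¹) by group]
    exact Z.mul_mem ha ha
  have hcomm : ∀ v ∈ O, ∀ w ∈ O, v * w * v⁻¹ * w⁻¹ ∈ Z := by
    intro v hv w hw
    have h1 := hinv v hv
    have h2 := hinv w hw
    have h3 := hinv (v * w) (O.mul_mem hv hw)
    set z1 := v * (t * v * t)
    set z2 := w * (t * w * t)
    have e : v * w * (t * (v * w) * t) = v * w * v⁻¹ * (z1 * (w⁻¹ * z2)) := by
      simp only [z1, z2]
      calc v * w * (t * (v * w) * t) = v * w * (t * v * (t * t) * w * t) := by rw [ht]; group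
        _ = _ := by group
    rw [e, show z1 * (w⁻¹ * z2) = z1 * w⁻¹ * z2 by group, (hZc _ h1 _ (O.inv_mem hw)).eq,
      show v * w * v⁻¹ * (w⁻¹ * z1 * z2) = v * w * v⁻¹ * w⁻¹ * (z1 * z2) by group] at h3
    exact (Z.mul_mem_cancel_right (Z.mul_mem h1 h2)).1 h3
  have hfixed : ∀ e : G, e * e = 1 → (∀ w ∈ Z, e * w * e ∈ Z) → (∀ w ∈ O, Commute w e → w ∈ W) →
      ∀ v ∈ O, ∀ ζ ∈ Z, e * v * e = v * ζ → v ∈ W := by
    intro e he hZe hWe v hv ζ hζ hev
    have h2 : ζ * (e * ζ * e) = 1 := by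
      refine mul_left_cancel (a := v) ?_
      rw [mul_one, ← mul_assoc, ← hev,
        show e * v * e * (e * ζ * e) = e * v * (e * e) * ζ * e by group, he, mul_one,
        show e * v * ζ * e = e * (v * ζ) * e by group, ← hev,
        show e * (e * v * e) * e = (e * e) * v * (e * e) by group, he, one_mul, mul_one]
    have hinvz : e * ζ * e = ζ⁻¹ := eq_inv_of_mul_eq_one_right h2
    obtain ⟨m, hm⟩ := exists_half (hodd ζ (hZO hζ))
    have hρ : e * ζ ^ m * e = (ζ ^ m)⁻¹ := by
      calc e * ζ ^ m * e = e * ζ ^ m * e⁻¹ := by rw [show e⁻¹ = e from inv_eq_of_mul_eq_one_left he]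
        _ = (ζ ^ m)⁻¹ := by
          rw [← conj_pow, show e⁻¹ = e from inv_eq_of_mul_eq_one_left he, hinvz, inv_pow]
    have hfx : Commute (v * ζ ^ m) e := by
      refine (commute_of_conj ?_).symm
      rw [show e⁻¹ = e from inv_eq_of_mul_eq_one_left he]
      calc e * (v * ζ ^ m) * e = e * v * (e * e) * ζ ^ m * e := by rw [he]; group
        _ = (e * v * e) * (e * ζ ^ m * e) := by group
        _ = v * ζ ^ m := by rw [hev, hρ]; nth_rewrite 1 [← hm]; group
    have := W.mul_mem (hWe _ (O.mul_mem hv (O.pow_mem (hZO hζ) m)) hfx)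
      (W.inv_mem (hZW (Z.pow_mem hζ m)))
    rwa [mul_inv_cancel_right] at this
  intro w hw
  set w' := d * w * d with hw'
  have hw'O : w' ∈ O := hOd w hw
  have hdd : d * w' * d = w := by
    rw [hw', show d * (d * w * d) * d = (d * d) * w * (d * d) by group, hd, one_mul, mul_one]
  -- the two products
  have hu : w * w' ∈ W := by
    have hc := hcomm _ (O.inv_mem hw'O) _ (O.inv_mem hw)
    refine hfixed d hd hZd hW _ (O.mul_mem hw hw'O) _ hc ?_
    calc d * (w * w') * d = d * w * (d * d) * w' * d := by rw [hd]; group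
      _ = (d * w * d) * (d * w' * d) := by group
      _ = w' * w := by rw [hdd]
      _ = _ := by group
  have he : (t * d) * (t * d) = 1 := by
    rw [show t * d * (t * d) = t * (d * t) * d by group, ← htd.eq,
      show t * (t * d) * d = t * t * (d * d) by group, ht, hd, one_mul]
  have hu' : w * w'⁻¹ ∈ W := by
    set u := w * w'⁻¹ with hu
    have huO : u ∈ O := O.mul_mem hw (O.inv_mem hw'O)
    have hdu : d * u * d = u⁻¹ := by
      calc d * u * d = d * w * (d * d) * w'⁻¹ * d := by rw [hd, hu]; group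
        _ = (d * w * d) * (d * w'⁻¹ * d) := by group
        _ = w' * (d * w' * d)⁻¹ := by
          rw [← hw', mul_inv_rev (d * w') d, mul_inv_rev d w',
            show d⁻¹ = d from inv_eq_of_mul_eq_one_left hd, mul_assoc d]
        _ = u⁻¹ := by rw [hdd, hu, mul_inv_rev, inv_inv]
    have hζ : t * u⁻¹ * t * u⁻¹ ∈ Z := by
      have h1 := hinv u⁻¹ (O.inv_mem huO)
      rw [show t * u⁻¹ * t * u⁻¹ = u * (u⁻¹ * (t * u⁻¹ * t)) * u⁻¹ by group,
        ← (hZc _ h1 u huO).eq, mul_inv_cancel_right]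
      exact h1
    refine hfixed (t * d) he (fun z hz => ?_) hW' u huO (u⁻¹ * (t * u⁻¹ * t * u⁻¹) * u) ?_ ?_
    · have h1 := hZd z hz
      have h2 := (hZt _ h1).eq
      rw [show t * d * z * (t * d) = t * d * z * (d * t) by rw [htd.eq],
        show t * d * z * (d * t) = t * (d * z * d * t) by group, h2, ← mul_assoc, ht, one_mul]
      exact h1
    · rw [← (hZc _ hζ _ (O.inv_mem huO)).eq, inv_mul_cancel_right]
      exact hζ
    · rw [show t * d * u * (t * d) = t * d * u * (d * t) by rw [htd.eq],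
        show t * d * u * (d * t) = t * (d * u * d) * t by group, hdu]
      group
  have hcm := hcomm _ (O.inv_mem hw'O) _ hw
  have h2 : w * w ∈ W := by
    have h3 := W.mul_mem (hZW (Z.inv_mem hcm)) (W.mul_mem hu' hu)
    have hc := (hZc _ hcm w hw).eq
    rwa [show w * w'⁻¹ * (w * w') = w * (w'⁻¹ * w * w'⁻¹⁻¹ * w⁻¹) * w by group, ← hc,
      show ∀ c : G, c⁻¹ * (c * w * w) = w * w from fun c => by group] at h3
  obtain ⟨m, hm⟩ := hodd w hw
  have h4 : w = (w * w) ^ (m + 1) := by
    rw [← pow_two, ← pow_mul, show 2 * (m + 1) = orderOf w + 1 by omega, pow_succ, pow_orderOf_eq_one,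
      one_mul]
  rw [h4]
  exact W.pow_mem h2 _

/-- An involution generating a Sylow subgroup gives a normal 2-complement. -/
theorem exists_complement [Finite G] {t : G} (ht : orderOf t = 2)
    (hN : ∀ q : G, Commute q t → IsPGroup 2 (zpowers q) → q ∈ zpowers t) :
    ∃ O : Subgroup G, O.Normal ∧ Odd (Nat.card O) ∧ ∀ g, Odd (orderOf g) → g ∈ O := by
  have : Fact (Nat.Prime 2) := ⟨Nat.prime_two⟩
  have hc : Nat.card (zpowers t) = 2 := by rw [Nat.card_zpowers, ht]
  obtain ⟨S, hS⟩ := sylow_of_normalizer (p := 2) (zpowers t) (IsPGroup.of_card (n := 1) (by simpa using hc))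
    (fun q hq h2 => by
      refine hN q (commute_of_conj ?_) h2
      rw [Subgroup.mem_normalizer_iff] at hq
      obtain ⟨k, hk⟩ := mem_zpowers_iff.1 ((hq t).1 (mem_zpowers t))
      have hne : q * t * q⁻¹ ≠ 1 := fun e => Invol.ne_one ht (conj_eq_one_iff.1 e)
      rcases Int.even_or_odd k with ⟨j, hj⟩ | ⟨j, hj⟩
      · rw [← hk, hj, ← two_mul, zpow_mul, zpow_two, Invol.inv_mul_self ht, one_zpow] at hne
        exact absurd rfl hne
      · rw [← hk, hj, zpow_add, zpow_one, zpow_mul, zpow_two, Invol.inv_mul_self ht, one_zpow, one_mul])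
  have h2S : Nat.card (S : Subgroup G) = 2 := by rw [hS, hc]
  have hcyc : IsCyclic (S : Subgroup G) := isCyclic_of_prime_card (p := 2) h2S
  have heven : Even (Nat.card G) := even_iff_two_dvd.2 (ht ▸ orderOf_dvd_natCard t)
  obtain ⟨O, hO⟩ := Invol.exists_index_two_of_isCyclic heven S hcyc
  have hidx := fun a b => Subgroup.mul_mem_iff_of_index_two hO (a := a) (b := b)
  have hodd : Odd (Nat.card O) := by
    rw [Nat.odd_iff]
    by_contra h
    refine S.not_dvd_index ?_
    have h1 := Subgroup.card_mul_index O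
    have h3 := Subgroup.card_mul_index (S : Subgroup G)
    rw [hO] at h1
    rw [h2S] at h3
    omega
  refine ⟨O, Subgroup.normal_of_index_eq_two hO, hodd, fun g ⟨k, hk⟩ => ?_⟩
  have hg : g = (g * g) ^ (k + 1) := by
    rw [← pow_two, ← pow_mul, show 2 * (k + 1) = orderOf g + 1 by omega, pow_succ,
      pow_orderOf_eq_one, one_mul]
  rw [hg]
  exact O.pow_mem ((hidx g g).2 Iff.rfl) _

end Cfsg.Lib.HNType
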