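import Cfsg.Agent.Lib.HNType.Fusion
import Cfsg.Agent.Lib.HNType.KillFacts
import Cfsg.Agent.Lib.HNType.KillExtra
import Cfsg.Agent.Lib.HNType.KillGroup

/-!
# Relations and local subgroups in the double cover of `HS:2`
-/

set_option autoImplicit false
set_option linter.style.haveILetI false
set_option maxRecDepth 100000

namespace Cfsg.Lib.HNType

open Cfsg.Lib.HN Cfsg.Lib.HN.Sub100 Subgroup
open Cfsg.Lib.CosetEnum (force force_eq)

/-- The relations among the named elements. -/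
structure Rels : Prop where
  f5 : fE ^ 5 = 1
  f_ne : fE ≠ 1
  z5 : zE ^ 5 = 1
  z_ne : zE ≠ 1
  fz : Commute fE zE
  fd : Commute fE dE
  dd : dE * dE = 1
  dzd : dE * zE * dE = zE⁻¹
  xz : Commute xE zE
  x5 : xE ^ 5 = 1
  xf : ¬ Commute xE fE
  xfx : ∃ m : ℕ, xE * fE * xE⁻¹ = fE * zE ^ m
  nrm : ∀ r ∈ [aE, bE], ∀ g ∈ [fE, zE, xE], ∃ i < 125, r * g * r⁻¹ = pv (pElt i)
  rel : aE ^ 3 * bE ^ 2 * aE = bE ^ 2
  b4 : bE ^ 4 = zc
  a4 : aE ^ 4 = AE
  AA : ∃ r : PS, AE = r⁻¹ * pv Data.repA * r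
  Az : Commute AE zE
  rho : ∃ r : PS, r * dE * r⁻¹ = dE * zc
  c15 : ∃ p : PS, Commute p (pv Data.repC) ∧ p ^ 15 = 1 ∧ p ^ 5 ≠ 1 ∧ p ^ 3 ≠ 1
  wC : ∃ r : PS, r⁻¹ * pv Data.repC * r = pv Data.repC * zc
  tri : ∃ u v : PS, Commute dE (u⁻¹ * dE * u) ∧ dE * (u⁻¹ * dE * u) = v⁻¹ * pv Data.repB * v
  sq : ∀ l < 2, ∃ q : PS, q * q = pv (uW l) ∧ pv (uW l) ≠ 1 ∧ pv (uW l) * pv (uW l) = 1 ∧
    Commute q dE ∧ ∃ r, pv (uW l) = r⁻¹ * pv Data.repA * r

theorem eqK_spec {a b : List ℕ} (h : eqK a b = true) : pv a = pv b := by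
  simp only [eqK, Bool.and_eq_true, Nat.beq_eq] at h
  exact eq_of_key h.1.1 h.1.2 h.2

theorem rels : Rels := by
  have h := basic_ok
  simp only [Bool.and_eq_true] at h
  obtain ⟨⟨⟨⟨⟨⟨⟨⟨⟨⟨⟨⟨⟨⟨⟨⟨⟨⟨⟨⟨⟨⟨⟨h1, h2⟩, h3⟩, h4⟩, h5⟩, h6⟩, h7⟩, h8⟩, h9⟩, h10⟩, h11⟩, -⟩,
    h13⟩, h14⟩, h15⟩, h16⟩, h17⟩, h18⟩, h19⟩, h20⟩, h21⟩, h22⟩, h23⟩, h24⟩ := h
  have e := extra_ok
  simp only [Bool.and_eq_true] at e
  obtain ⟨⟨⟨⟨e1, e2⟩, e3⟩, e4⟩, e5⟩ := e
  obtain ⟨lf, lz, lx, la, lb, lA, lcA, lrho, l15, -⟩ := names_lw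
  have ld := dFirst.2
  have lnil : lw [] = true := rfl
  have dd : dE * dE = 1 := by rw [← pv_append]; exact eqK_spec e1
  have z5 : zE ^ 5 = 1 := by rw [← pv_wpow]; exact eqW_spec h3
  have p1 := eqW_spec h7
  have p2 := eqW_spec h13
  have p3 := eqW_spec h14
  have p4 := eqW_spec h15
  have p5 := eqW_spec h17
  have p6 := eqW_spec h19
  simp only [conjW, pv_append, pv_winv, pv_wpow, inv_inv] at p1 p2 p5 p6
  rw [pv_wpow, zc_val] at p3
  rw [pv_wpow] at p4
  refine
    { f5 := by rw [← pv_wpow]; exact eqW_spec h1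
      f_ne := neW_spec lf lnil h2
      z5 := z5
      z_ne := neW_spec lz lnil h4
      fz := ?_
      fd := ?_
      dd := dd
      dzd := ?_
      xz := ?_
      x5 := by rw [← pv_wpow]; exact eqW_spec h9
      xf := ?_
      xfx := ?_
      nrm := ?_
      rel := p2
      b4 := p3
      a4 := p4
      AA := ⟨pv KData.cAW, p5.symm⟩
      Az := ?_
      rho := ⟨(pv KData.rhoW)⁻¹, by rw [inv_inv, p6, zc_val]⟩
      c15 := ?_
      wC := ⟨pv wCW, ?_⟩
      tri := ⟨pv Data.triD.1, pv Data.triD.2, ?_, ?_⟩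
      sq := ?_ }
  · have := eqW_spec h5; simp only [pv_append] at this; exact this
  · have := eqW_spec h6; simp only [pv_append] at this; exact this
  · have hi : zE ^ 4 = zE⁻¹ := eq_inv_of_mul_eq_one_left (by rw [← pow_succ]; exact z5)
    rw [← hi, ← p1, inv_eq_of_mul_eq_one_right dd]
  · have := eqW_spec h8; simp only [pv_append] at this; exact this
  · intro hc
    have := neW_spec (lw_append.2 ⟨lx, lf⟩) (lw_append.2 ⟨lf, lx⟩) h10
    simp only [pv_append] at this
    exact this hc.eq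
  · obtain ⟨m, -, hm⟩ := List.any_eq_true.1 e5
    have := eqK_spec hm
    simp only [pv_append, pv_winv, pv_wpow] at this
    exact ⟨m, this⟩
  · intro r hr g hg
    simp only [List.all_eq_true, force_eq, Bool.and_eq_true] at h11
    have key : ∀ rw_ ∈ [KData.aW, KData.bW], ∀ gw ∈ [KData.fW, KData.zW, KData.xW],
        ∃ i < 125, pv rw_ * pv gw * (pv rw_)⁻¹ = pv (pElt i) := by
      intro rw_ hr gw hg
      obtain ⟨hl, hk⟩ := h11 rw_ hr gw hg
      obtain ⟨i, hi, he⟩ := index_of_any hk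
      rw [pKeys_ok.1] at hi
      have h1 := List.all_eq_true.1 pKeys_ok.2.2 i (List.mem_range.2 hi)
      simp only [Bool.and_eq_true, Nat.beq_eq] at h1
      refine ⟨i, hi, ?_⟩
      have e : pv (conjW rw_ gw) = pv (pElt i) := eq_of_key hl h1.1.1 (he.symm.trans h1.1.2)
      rw [← e, conjW, pv_append, pv_append, pv_winv]
    simp only [List.mem_cons, List.not_mem_nil, or_false] at hr hg
    rcases hr with rfl | rfl <;> rcases hg with rfl | rfl | rfl <;>
      exact key _ (by simp) _ (by simp)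
  · have := eqW_spec h18; simp only [pv_append] at this; exact this
  · have e15 := eqW_spec h23
    simp only [pv_append] at e15
    refine ⟨pv KData.c15W, e15, by rw [← pv_wpow]; exact eqW_spec h20, ?_, ?_⟩
    · rw [← pv_wpow]; exact neW_spec (lw_wpow l15 5) lnil h21
    · rw [← pv_wpow]; exact neW_spec (lw_wpow l15 3) lnil h22
  · have := eqK_spec e4
    simp only [pv_append, pv_winv] at this
    rwa [zc_val] at this
  · have := eqK_spec e2
    simp only [pv_append, pv_winv] at this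
    exact this
  · have := eqK_spec e3
    simp only [pv_append, pv_winv] at this
    exact this
  · obtain ⟨-, -, -, -, hu⟩ := sqKeys_ok
    simp only [List.all_eq_true] at h24 hu
    have key : ∀ uq ∈ [(KData.u0W, KData.q0W), (KData.u1W, KData.q1W)],
        ∀ uh ∈ [(KData.u0W, KData.h0W), (KData.u1W, KData.h1W)], uh.1 = uq.1 →
        ∃ q : PS, q * q = pv uq.1 ∧ pv uq.1 ≠ 1 ∧ pv uq.1 * pv uq.1 = 1 ∧ Commute q dE ∧
          ∃ r, pv uq.1 = r⁻¹ * pv Data.repA * r := by
      intro uq hq uh hh heq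
      have a1 := h24 uq hq
      have a2 := hu uh hh
      simp only [Bool.and_eq_true, Nat.beq_eq] at a1 a2
      obtain ⟨⟨⟨q1, q2⟩, q3⟩, q4⟩ := a1
      obtain ⟨⟨hl1, hl2⟩, hk⟩ := a2
      have e1 := eqW_spec q1
      have e3 := eqW_spec q3
      have e4 := eqW_spec q4
      simp only [pv_append] at e1 e3 e4
      refine ⟨pv uq.2, e1, ?_, e3, e4, pv uh.2, ?_⟩
      · exact neW_spec (by rw [← heq]; exact hl1) lnil q2
      · rw [← pv_winv, ← pv_append, ← pv_append, ← heq]
        exact eq_of_key hl1 (lw_append.2 ⟨lw_append.2 ⟨lw_winv hl2, by decide⟩, hl2⟩) hk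
    intro l hl
    interval_cases l
    · exact key (KData.u0W, KData.q0W) (by simp) (KData.u0W, KData.h0W) (by simp) rfl
    · exact key (KData.u1W, KData.q1W) (by simp) (KData.u1W, KData.h1W) (by simp) rfl

theorem orderOf_fE : orderOf fE = 5 :=
  haveI : Fact (Nat.Prime 5) := ⟨by norm_num⟩
  orderOf_eq_prime rels.f5 rels.f_ne

theorem dd_inv : dE⁻¹ = dE := inv_eq_of_mul_eq_one_right rels.dd

theorem zc_sq : zc * zc = 1 := by
  have h : keyOf [0, 0, 0, 0] = keyOf [] := by decide +kernel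
  have := eq_of_key (a := [0, 0, 0, 0]) (b := []) (by decide) (by decide) h
  simpa [zc, mul_assoc] using this

theorem χ_dE : χ dE = -1 := by
  rw [χ_word dFirst.2, show outerB Data.repD = true by decide +kernel]
  rfl

theorem fElt_lw {i : ℕ} (hi : i < 100) : lw (fElt i) = true := by
  have := List.all_eq_true.1 fKeys_ok.2 i (List.mem_range.2 hi)
  simp only [Bool.and_eq_true] at this
  exact this.1

/-- Elements centralising `f` have order dividing ten. -/
theorem f_cent_ten {g : PS} (hg : Commute g fE) : g ^ 10 = 1 := by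
  obtain ⟨i, hi, rfl⟩ := f_cent hg
  have hb : fTenB (i / 20 * 20) = true := by
    have : i / 20 < 5 := by omega
    interval_cases hq : i / 20
    exacts [fTenB_ok0, fTenB_ok1, fTenB_ok2, fTenB_ok3, fTenB_ok4]
  have h := List.all_eq_true.1 hb (i % 20) (List.mem_range.2 (Nat.mod_lt _ (by norm_num)))
  rw [show i / 20 * 20 + i % 20 = i by omega, Nat.beq_eq] at h
  rw [← pv_wpow]
  exact eq_of_key (lw_wpow (fElt_lw hi) 10) rfl h

theorem pow_eq_one_of_odd {M : Type*} [Group M] {g : M} (h10 : g ^ 10 = 1) (ho : Odd (orderOf g)) :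
    g ^ 5 = 1 := by
  refine orderOf_dvd_iff_pow_eq_one.1 ((Nat.Coprime.dvd_mul_left ?_).1
    (show orderOf g ∣ 2 * 5 from orderOf_dvd_iff_pow_eq_one.2 h10))
  exact Nat.coprime_two_right.2 ho

/-- Elements of odd order centralising `f`. -/
theorem f_cent_odd {g : PS} (hg : Commute g fE) (ho : Odd (orderOf g)) :
    ∃ a b, g = fE ^ a * zE ^ b := by
  have h5 := pow_eq_one_of_odd (f_cent_ten hg) ho
  obtain ⟨i, hi, rfl⟩ := f_cent hg
  have hb : fFiveB (i / 20 * 20) = true := by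
    have : i / 20 < 5 := by omega
    interval_cases hq : i / 20
    exacts [fFiveB_ok0, fFiveB_ok1, fFiveB_ok2, fFiveB_ok3, fFiveB_ok4]
  have h := List.all_eq_true.1 hb (i % 20) (List.mem_range.2 (Nat.mod_lt _ (by norm_num)))
  rw [show i / 20 * 20 + i % 20 = i by omega] at h
  simp only [Bool.and_eq_true, Bool.or_eq_true, Bool.not_eq_true', Nat.beq_eq] at h
  rcases h.symm with h' | ⟨h1, h2⟩
  · rw [Bool.eq_false_iff, ne_eq, Nat.beq_eq] at h'
    exact absurd (key_eq_of_val (b := []) (lw_wpow (fElt_lw hi) 5) rfl ((pv_wpow _ 5).trans h5)) h'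
  · exact ⟨_, _, by rw [pv_fElt, h1, h2, pow_zero, pow_zero, mul_one, mul_one]⟩

/-- An element of 5-power order normalising a group of order five centralises it. -/
theorem commute_of_normalizes {M : Type*} [Group M] {q a : M} {k m : ℕ}
    (ha : orderOf a = 5) (hq : q ^ 5 ^ m = 1) (h : q * a * q⁻¹ = a ^ k) : Commute q a := by
  haveI : Fact (Nat.Prime 5) := ⟨by norm_num⟩
  have hi : ∀ i : ℕ, q ^ i * a * (q ^ i)⁻¹ = a ^ (k ^ i) := by
    intro i
    induction i with
    | zero => simp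
    | succ i ih =>
      calc q ^ (i + 1) * a * (q ^ (i + 1))⁻¹ = q * (q ^ i * a * (q ^ i)⁻¹) * q⁻¹ := by
            rw [pow_succ']; group
        _ = a ^ (k ^ (i + 1)) := by rw [ih, ← conj_pow, h, ← pow_mul, pow_succ']
  have h1 := hi (5 ^ m)
  rw [hq, one_mul, inv_one, mul_one] at h1
  have hk : k ^ 5 ^ m ≡ 1 [MOD 5] := by
    have := pow_eq_pow_iff_modEq.1 (show a ^ (k ^ 5 ^ m) = a ^ 1 by rw [pow_one]; exact h1.symm)
    rwa [ha] at this
  have h2 : ((k : ZMod 5)) ^ 5 ^ m = 1 := by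
    have := (ZMod.natCast_eq_natCast_iff _ _ _).2 hk
    simpa using this
  rw [ZMod.pow_card_pow] at h2
  have hk1 : k ≡ 1 [MOD 5] := (ZMod.natCast_eq_natCast_iff _ _ _).1 (by simpa using h2)
  refine commute_of_conj ?_
  rw [h]
  conv_rhs => rw [← pow_one a]
  exact pow_eq_pow_iff_modEq.2 (by rw [ha]; exact hk1)

theorem exists_normalizer_pow {M : Type*} [Group M] [Finite M] {q a : M}
    (hq : q ∈ normalizer (zpowers a : Set M)) : ∃ k : ℕ, q * a * q⁻¹ = a ^ k := by
  obtain ⟨k, hk⟩ := mem_powers_iff_mem_zpowers.2 ((mem_normalizer_iff.1 hq a).1 (mem_zpowers a))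
  exact ⟨k, hk.symm⟩

theorem isPGroup_pow {M : Type*} [Group M] {q : M} {p : ℕ} (h : IsPGroup p (zpowers q)) :
    ∃ m, q ^ p ^ m = 1 := by
  obtain ⟨m, hm⟩ := h ⟨q, mem_zpowers q⟩
  exact ⟨m, congrArg Subtype.val hm⟩

/-- Elements of order five centralising `d` are conjugate to powers of `f` there. -/
theorem d_sylow {p : PS} (hp : Commute p dE) (h5 : orderOf p = 5) :
    ∃ c : PS, Commute c dE ∧ ∃ j : ℕ, 0 < j ∧ j < 5 ∧ c * p * c⁻¹ = fE ^ j := by
  haveI : Fact (Nat.Prime 5) := ⟨by norm_num⟩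
  set CD := centralizer ({dE} : Set PS)
  set fC : CD := ⟨fE, mem_centralizer_singleton_iff.2 rels.fd.eq⟩ with hfC
  have ho : orderOf fC = 5 := by rw [← Subgroup.orderOf_coe]; exact orderOf_fE
  obtain ⟨S, hS⟩ := sylow_of_normalizer (p := 5) (zpowers fC)
    (IsPGroup.of_card (n := 1) (by rw [Nat.card_zpowers, ho, pow_one])) (by
      intro q hq h
      obtain ⟨m, hm⟩ := isPGroup_pow h
      obtain ⟨k, hk⟩ := exists_normalizer_pow hq
      have hqf : Commute (q : PS) fE :=
        congrArg Subtype.val (commute_of_normalizes ho hm hk).eq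
      have hodd : Odd (orderOf (q : PS)) := by
        refine Odd.of_dvd_nat ((by decide : Odd 5).pow (n := m)) ?_
        rw [Subgroup.orderOf_coe]
        exact orderOf_dvd_iff_pow_eq_one.2 hm
      obtain ⟨a, b, hab⟩ := f_cent_odd hqf hodd
      have hqd : Commute (q : PS) dE := mem_centralizer_singleton_iff.1 q.2
      have hb : Commute (zE ^ b) dE := by
        have := ((rels.fd.pow_left a).inv_left).mul_left hqd
        rwa [hab, inv_mul_cancel_left] at this
      have hb1 : zE ^ b = 1 := by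
        have h1 : dE * zE ^ b * dE = (zE ^ b)⁻¹ := by
          have : dE * zE ^ b * dE⁻¹ = (dE * zE * dE⁻¹) ^ b := (conj_pow).symm
          rw [dd_inv, rels.dzd, inv_pow] at this
          exact this
        rw [← hb.eq, mul_assoc, rels.dd, mul_one] at h1
        have h2 : (zE ^ b) ^ 2 = 1 := by rw [pow_two]; nth_rewrite 2 [h1]; rw [mul_inv_cancel]
        have h5' : (zE ^ b) ^ 5 = 1 := by rw [← pow_mul, mul_comm, pow_mul, rels.z5, one_pow]
        calc zE ^ b = (zE ^ b) ^ 5 * ((zE ^ b) ^ 2)⁻¹ * ((zE ^ b) ^ 2)⁻¹ := by group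
          _ = 1 := by rw [h2, h5']; simp
      refine mem_zpowers_iff.2 ⟨a, Subtype.ext ?_⟩
      rw [hab, hb1, mul_one]
      simp [hfC])
  obtain ⟨S', hS'⟩ := (IsPGroup.of_card (n := 1) (show Nat.card (zpowers (⟨p,
      mem_centralizer_singleton_iff.2 hp.eq⟩ : CD)) = 5 ^ 1 by
    rw [Nat.card_zpowers, ← Subgroup.orderOf_coe, pow_one]; exact h5)).exists_le_sylow
  obtain ⟨c, hc⟩ := MulAction.exists_smul_eq CD S' S
  have hmem : (MulAut.conj c) ⟨p, mem_centralizer_singleton_iff.2 hp.eq⟩ ∈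
      ((c • S' : Sylow 5 CD) : Subgroup CD) :=
    Subgroup.smul_mem_pointwise_smul _ _ _ (hS' (mem_zpowers _))
  rw [hc, hS] at hmem
  obtain ⟨j, hj⟩ := mem_powers_iff_mem_zpowers.2 hmem
  have hj' : fE ^ j = c * p * (c : PS)⁻¹ := by simpa [hfC] using congrArg Subtype.val hj
  refine ⟨c, mem_centralizer_singleton_iff.1 c.2, j % 5, Nat.pos_of_ne_zero fun h0 => ?_,
    Nat.mod_lt _ (by norm_num), ?_⟩
  · rw [pow_eq_pow_mod j rels.f5, h0, pow_zero, eq_comm, conj_eq_one_iff] at hj'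
    rw [hj', orderOf_one] at h5
    norm_num at h5
  · rw [← hj', ← pow_eq_pow_mod j rels.f5]

/-- The Sylow 3-subgroup and elements of order five centralising its elements. -/
theorem three_cent {p : PS} (h3 : orderOf p = 3) :
    ∃ y : PS, orderOf y = 5 ∧ Commute y p := by
  haveI : Fact (Nat.Prime 3) := ⟨by norm_num⟩
  haveI : Fact (Nat.Prime 5) := ⟨by norm_num⟩
  have h := three_ok
  simp only [Bool.and_eq_true] at h
  obtain ⟨⟨⟨⟨a1, a2⟩, a3⟩, a4⟩, a5⟩ := h
  have c1 := eqW_spec a1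
  have c2 := eqW_spec a2
  have c3 := eqW_spec a3
  rw [pv_wpow] at c1 c2
  simp only [pv_append] at c3
  set s1 := pv KData.s1W
  set s2 := pv KData.s2W
  have hs : Commute s1 s2 := c3
  have hel : ∀ i, pv (tElt i) = s1 ^ (i / 3) * s2 ^ (i % 3) := fun i => by
    rw [tElt, pv_append, pv_wpow, pv_wpow]
  have hlt : ∀ i, lw (tElt i) = true := fun i =>
    lw_append.2 ⟨lw_wpow names_lw.2.2.2.2.2.2.2.2.2.1 _, lw_wpow names_lw.2.2.2.2.2.2.2.2.2.2.1 _⟩
  let U : Subgroup PS :=
    { carrier := {g | ∃ a b : ℕ, g = s1 ^ a * s2 ^ b}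
      one_mem' := ⟨0, 0, by simp⟩
      mul_mem' := by
        rintro _ _ ⟨a, b, rfl⟩ ⟨a', b', rfl⟩
        refine ⟨a + a', b + b', ?_⟩
        rw [pow_add, pow_add, (hs.pow_pow a' b).mul_mul_mul_comm]
      inv_mem' := by
        rintro _ ⟨a, b, rfl⟩
        refine ⟨2 * a, 2 * b, inv_eq_of_mul_eq_one_right ?_⟩
        rw [(hs.pow_pow (2 * a) b).symm.mul_mul_mul_comm, ← pow_add, ← pow_add,
          show a + 2 * a = 3 * a by omega, show b + 2 * b = 3 * b by omega, pow_mul, pow_mul,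
          show s1 ^ 3 = 1 from c1, show s2 ^ 3 = 1 from c2, one_pow, one_pow, one_mul] }
  have hU : ∀ g ∈ U, ∃ i < 9, g = pv (tElt i) := by
    rintro g ⟨a, b, rfl⟩
    refine ⟨a % 3 * 3 + b % 3, by omega, ?_⟩
    rw [hel, show (a % 3 * 3 + b % 3) / 3 = a % 3 by omega, show (a % 3 * 3 + b % 3) % 3 = b % 3 by omega,
      ← pow_eq_pow_mod a c1, ← pow_eq_pow_mod b c2]
  have hcard : Nat.card U = 9 := by
    rw [← Nat.card_fin 9]
    refine (Nat.card_congr (Equiv.ofBijective
      (fun i : Fin 9 => (⟨pv (tElt i.1), i.1 / 3, i.1 % 3, hel _⟩ : U)) ⟨fun i j e => ?_, fun g => ?_⟩)).symm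
    · have e' := key_eq_of_val (hlt _) (hlt _) (congrArg Subtype.val e)
      have := (distinctB_nodup a4).getElem_inj_iff (i := i.1) (j := j.1)
        (hi := by simp) (hj := by simp)
      exact Fin.ext (this.1 (by simpa using e'))
    · obtain ⟨i, hi, he⟩ := hU g g.2
      exact ⟨⟨i, hi⟩, Subtype.ext he.symm⟩
  have hS : Nat.card U = 3 ^ (Nat.card PS).factorization 3 := by
    rw [hcard, PS_base.1, show (177408000 : ℕ) = 3 ^ 2 * 19712000 by norm_num,
      Nat.factorization_mul (by norm_num) (by norm_num), Nat.Prime.factorization_pow (by norm_num),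
      Finsupp.add_apply, Finsupp.single_eq_same, Nat.factorization_eq_zero_of_not_dvd (by norm_num)]
    norm_num
  obtain ⟨Q, hQ⟩ := (IsPGroup.of_card (n := 1) (show Nat.card (zpowers p) = 3 ^ 1 by
    rw [Nat.card_zpowers, h3, pow_one])).exists_le_sylow
  obtain ⟨c, hc⟩ := MulAction.exists_smul_eq PS Q (Sylow.ofCard U hS)
  have hmem : (MulAut.conj c) p ∈ ((c • Q : Sylow 3 PS) : Subgroup PS) :=
    Subgroup.smul_mem_pointwise_smul _ _ _ (hQ (mem_zpowers _))
  rw [hc, Sylow.coe_ofCard] at hmem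
  obtain ⟨i, hi, he⟩ := hU _ hmem
  obtain ⟨i, rfl⟩ : ∃ k, i = k + 1 := by
    refine Nat.exists_eq_add_one.2 (Nat.pos_of_ne_zero ?_)
    rintro rfl
    rw [hel] at he
    simp only [Nat.zero_div, Nat.zero_mod, pow_zero, mul_one, MulAut.conj_apply] at he
    rw [conj_eq_one_iff] at he
    rw [he, orderOf_one] at h3
    norm_num at h3
  have h5 := List.all_eq_true.1 a5 i (List.mem_range.2 (by omega))
  simp only [Bool.and_eq_true] at h5
  obtain ⟨⟨⟨-, w5⟩, wne⟩, wc⟩ := h5
  have wl : lw (KData.w3.getD i []) = true := by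
    have := wc
    simp only [eqW, Bool.and_eq_true, lw_append] at this
    exact this.1.1.2
  have d5 := eqW_spec w5
  have dc := eqW_spec wc
  rw [pv_wpow] at d5
  simp only [pv_append] at dc
  refine ⟨c⁻¹ * pv (KData.w3.getD i []) * c, ?_, ?_⟩
  · have := MulEquiv.orderOf_eq (MulAut.conj c⁻¹) (pv (KData.w3.getD i []))
    simp only [MulAut.conj_apply, inv_inv] at this
    rw [this]
    exact orderOf_eq_prime d5 (neW_spec wl rfl wne)
  · have := (Commute.conj_iff c⁻¹).2 (show Commute (pv (KData.w3.getD i [])) (pv (tElt (i + 1))) from dc.symm)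
    rw [← he, MulAut.conj_apply, inv_inv,
      show c⁻¹ * (c * p * c⁻¹) * c = p by group] at this
    exact this

/-- The Sylow 5-subgroup. -/
noncomputable def P5 : Subgroup PS := closure {fE, zE, xE}

theorem pElt_lw {i : ℕ} (hi : i < 125) : lw (pElt i) = true := by
  have := List.all_eq_true.1 pKeys_ok.2.2 i (List.mem_range.2 hi)
  simp only [Bool.and_eq_true] at this
  exact this.1.1

theorem mem_P5 {g : PS} (hg : g ∈ P5) : ∃ i < 125, g = pv (pElt i) := by
  have hpk := pKeys_ok.2.2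
  have hg' : g ∈ Submonoid.closure ({fE, zE, xE} : Set PS) := by
    rw [← Subgroup.closure_toSubmonoid_of_finite]
    exact hg
  induction hg' using Submonoid.closure_induction_left with
  | one => exact ⟨0, by norm_num, by simp [pElt, wpow, pv]⟩
  | mul_left a ha b hb ih =>
    obtain ⟨i, hi, rfl⟩ := ih (by
      rw [← Subgroup.mem_toSubmonoid, P5, Subgroup.closure_toSubmonoid_of_finite]; exact hb)
    have h1 := List.all_eq_true.1 hpk i (List.mem_range.2 hi)
    simp only [Bool.and_eq_true, List.all_eq_true, force_eq] at h1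
    have key : ∀ gw ∈ [KData.fW, KData.zW, KData.xW], lw gw = true →
        ∃ j < 125, pv gw * pv (pElt i) = pv (pElt j) := by
      intro gw hgw hl
      obtain ⟨j, hj, he⟩ := index_of_any (h1.2 gw hgw)
      rw [pKeys_ok.1] at hj
      have h2 := List.all_eq_true.1 hpk j (List.mem_range.2 hj)
      simp only [Bool.and_eq_true, Nat.beq_eq] at h2
      refine ⟨j, hj, ?_⟩
      rw [← pv_append]
      exact eq_of_key (lw_append.2 ⟨hl, h1.1.1⟩) h2.1.1 (he.symm.trans h2.1.2)
    obtain ⟨lf, lz, lx, -⟩ := names_lw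
    simp only [Set.mem_insert_iff, Set.mem_singleton_iff] at ha
    rcases ha with rfl | rfl | rfl
    · exact key _ (by simp) lf
    · exact key _ (by simp) lz
    · exact key _ (by simp) lx

theorem card_P5 : Nat.card P5 = 125 := by
  have hm : ∀ i, pv (pElt i) ∈ P5 := fun i => by
    rw [pElt, pv_append, pv_append, pv_wpow, pv_wpow, pv_wpow]
    exact P5.mul_mem (P5.mul_mem (P5.pow_mem (subset_closure (by simp)) _)
      (P5.pow_mem (subset_closure (by simp)) _)) (P5.pow_mem (subset_closure (by simp)) _)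
  rw [← Nat.card_fin 125]
  refine (Nat.card_congr (Equiv.ofBijective
    (fun i : Fin 125 => (⟨pv (pElt i.1), hm _⟩ : P5)) ⟨fun i j e => ?_, fun g => ?_⟩)).symm
  · obtain ⟨hlen, hnd, hk⟩ := pKeys_ok
    have h1 := List.all_eq_true.1 hk i.1 (List.mem_range.2 i.2)
    have h2 := List.all_eq_true.1 hk j.1 (List.mem_range.2 j.2)
    simp only [Bool.and_eq_true, Nat.beq_eq] at h1 h2
    have h3 := key_eq_of_val h1.1.1 h2.1.1 (congrArg Subtype.val e)
    rw [← h1.1.2, ← h2.1.2, List.getD_eq_getElem _ _ (by omega), List.getD_eq_getElem _ _ (by omega)] at h3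
    exact Fin.ext ((distinctB_nodup hnd).getElem_inj_iff.1 h3)
  · obtain ⟨i, hi, he⟩ := mem_P5 g.2
    exact ⟨⟨i, hi⟩, Subtype.ext he.symm⟩

/-- There is no abelian subgroup of order 125. -/
theorem no_abelian_125 (U : Subgroup PS) (hc : Nat.card U = 125)
    (hab : ∀ a ∈ U, ∀ b ∈ U, Commute a b) : False := by
  haveI : Fact (Nat.Prime 5) := ⟨by norm_num⟩
  have hf : (Nat.card PS).factorization 5 = 3 := by
    rw [PS_base.1, show (177408000 : ℕ) = 5 ^ 3 * 1419264 by norm_num,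
      Nat.factorization_mul (by norm_num) (by norm_num), Nat.Prime.factorization_pow (by norm_num),
      Finsupp.add_apply, Finsupp.single_eq_same, Nat.factorization_eq_zero_of_not_dvd (by norm_num)]
  have h1 : Nat.card U = 5 ^ (Nat.card PS).factorization 5 := by rw [hf, hc]; norm_num
  have h2 : Nat.card P5 = 5 ^ (Nat.card PS).factorization 5 := by rw [hf, card_P5]; norm_num
  obtain ⟨c, hc⟩ := MulAction.exists_smul_eq PS (Sylow.ofCard U h1) (Sylow.ofCard P5 h2)
  have hsub : ∀ g ∈ P5, c⁻¹ * g * c ∈ U := fun g hg => by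
    have : g ∈ ((c • Sylow.ofCard U h1 : Sylow 5 PS) : Subgroup PS) := by
      rw [hc, Sylow.coe_ofCard]; exact hg
    rw [Sylow.coe_subgroup_smul, Subgroup.mem_pointwise_smul_iff_inv_smul_mem, Sylow.coe_ofCard,
      ← map_inv, MulAut.smul_def, MulAut.conj_apply, inv_inv] at this
    exact this
  refine rels.xf ?_
  have := hab _ (hsub xE (subset_closure (by simp))) _ (hsub fE (subset_closure (by simp)))
  have h3 := (Commute.conj_iff c).2 this
  rwa [show c * (c⁻¹ * xE * c) * c⁻¹ = xE by group, show c * (c⁻¹ * fE * c) * c⁻¹ = fE by group] at h3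

end Cfsg.Lib.HNType
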