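import Cfsg.Agent.Lib.HNType.EmbChecks
import Cfsg.Agent.Lib.HNType.EmbExtra
import Cfsg.Agent.Lib.HNType.EmbOrbitsA
import Cfsg.Agent.Lib.HNType.EmbOrbitsS
import Cfsg.Agent.Lib.HNType.EmbStabs
import Cfsg.Agent.Lib.HNType.EmbLists
import Cfsg.Agent.Lib.HNType.KillBase

/-!
# The centraliser of `A` in the double cover of `HS:2`
-/

set_option autoImplicit false
set_option linter.style.haveILetI false
set_option maxRecDepth 100000

namespace Cfsg.Lib.HNType

open Cfsg.Lib.HN Cfsg.Lib.HN.Sub100 Subgroup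
open Cfsg.Lib.CosetEnum (force force_eq)

/-- The involution `A`. -/
noncomputable abbrev repAE : PS := pv Data.repA

/-- The first generator. -/
noncomputable abbrev uY : PS := pv EData.uW

/-- The second generator. -/
noncomputable abbrev bY : PS := pv EData.bW

/-- The third generator. -/
noncomputable abbrev vY : PS := pv EData.vW

theorem eqE_spec {a b : List ℕ} (h : eqE a b = true) : pv a = pv b := by
  simp only [eqE, Bool.and_eq_true, Nat.beq_eq] at h
  exact eq_of_key h.1.1 h.1.2 h.2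

theorem eqE_lw {a b : List ℕ} (h : eqE a b = true) : lw a = true ∧ lw b = true := by
  simp only [eqE, Bool.and_eq_true] at h
  exact h.1

theorem eqE_ne {a b : List ℕ} (ha : lw a = true) (hb : lw b = true) (h : (!eqE a b) = true) :
    pv a ≠ pv b := fun e => by
  simp [eqE, ha, hb, key_eq_of_val ha hb e] at h

/-- The value of one of three elements or their inverses. -/
def letV {M : Type*} [Group M] (a b c : M) : ℕ → M
  | 0 => a
  | 1 => a⁻¹
  | 2 => b
  | 3 => b⁻¹
  | 4 => c
  | _ => c⁻¹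

/-- The value of a path. -/
def pe {M : Type*} [Group M] (a b c : M) : List ℕ → M
  | [] => 1
  | k :: p => letV a b c k * pe a b c p

theorem map_pe {M N : Type*} [Group M] [Group N] (f : M →* N) (a b c : M) :
    ∀ p, f (pe a b c p) = pe (f a) (f b) (f c) p
  | [] => map_one f
  | k :: p => by
    rw [pe, pe, map_mul, map_pe f a b c p]
    match k with
    | 0 | 1 | 2 | 3 | 4 | _ + 5 => simp [letV]

theorem pv_pathW (a b c : List ℕ) : ∀ p, pv (pathW a b c p) = pe (pv a) (pv b) (pv c) p
  | [] => rfl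
  | k :: p => by
    rw [pathW, pv_append, pe, pv_pathW a b c p]
    match k with
    | 0 | 1 | 2 | 3 | 4 | _ + 5 => simp [letW, letV, pv_winv]

theorem pe_mem {M : Type*} [Group M] {H : Subgroup M} {a b c : M} (ha : a ∈ H) (hb : b ∈ H) (hc : c ∈ H) :
    ∀ p, pe a b c p ∈ H
  | [] => H.one_mem
  | k :: p => by
    refine H.mul_mem ?_ (pe_mem ha hb hc p)
    match k with
    | 0 | 1 | 2 | 3 | 4 | _ + 5 => simp [letV, ha, hb, hc, H.inv_mem]

/-- The facts about the generators. -/
structure Src : Prop where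
  u5 : uY ^ 5 = 1
  u_ne : uY ≠ 1
  bb : bY * bY = repAE
  vv : vY * vY = zc
  comm : ∀ g ∈ [uY, bY, vY], Commute g repAE
  bT : ∀ p ∈ EData.bTests, pe uY bY 1 p = 1
  vT : ∀ l ∈ EData.vTests, ∀ p ∈ l, pe uY bY vY p = 1
  cc : ∀ g ∈ EData.ccW, lw g = true ∧ Commute (pv g) repAE ∧ Commute (pv g) uY
  nrm : ∀ j, 0 < j → j < 5 → ∃ n : PS, Commute n repAE ∧ n * uY ^ j * n⁻¹ = uY
  syl : ∀ k < 4, pe uY bY vY (EData.sylP.getD k []) = pv (Data.gens.getD k [])
  three : pe uY bY vY EData.threeP ^ 3 = 1 ∧ pe uY bY vY EData.threeP ≠ 1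
  src : ∀ i < 7, pe uY bY vY (EData.srcP.getD i []) = pv (EData.srcW.getD i [])

theorem src : Src := by
  have h := src_ok
  simp only [srcOK, Bool.and_eq_true, List.all_eq_true] at h
  obtain ⟨⟨⟨⟨⟨⟨⟨⟨⟨⟨⟨⟨h1, h2⟩, h3⟩, h4⟩, h5⟩, h6⟩, h7⟩, h8⟩, h9⟩, h10⟩, h11⟩, h12⟩, h13⟩ := h
  have hl : lw EData.uW = true := by
    have := (eqE_lw (h5 EData.uW (by simp))).1
    exact (lw_append.1 this).1
  refine
    { u5 := by rw [← pv_wpow]; exact eqE_spec h1
      u_ne := eqE_ne hl rfl h2
      bb := by rw [← pv_append]; exact eqE_spec h3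
      vv := by rw [← pv_append, ← zc_val]; exact eqE_spec h4
      comm := ?_
      bT := fun p hp => ?_
      vT := fun l hl p hp => ?_
      cc := fun g hg => ?_
      nrm := ?_
      syl := fun k hk => by rw [← pv_pathW]; exact eqE_spec (h10 k (List.mem_range.2 hk))
      three := ⟨by rw [← pv_pathW, ← pv_wpow]; exact eqE_spec h11, ?_⟩
      src := fun i hi => by rw [← pv_pathW]; exact eqE_spec (h13 i (List.mem_range.2 hi)) }
  · intro g hg
    have key : ∀ w ∈ [EData.uW, EData.bW, EData.vW], Commute (pv w) repAE := fun w hw => by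
      have := eqE_spec (h5 w hw)
      simp only [pv_append] at this
      exact this
    simp only [List.mem_cons, List.not_mem_nil, or_false] at hg
    rcases hg with rfl | rfl | rfl <;> exact key _ (by simp)
  · have := eqE_spec (h6 p hp)
    rwa [pv_pathW] at this
  · rw [← pv_pathW]
    exact eqE_spec (h7 l hl p hp)
  · obtain ⟨e1, e2⟩ := h8 g hg
    have c1 := eqE_spec e1
    have c2 := eqE_spec e2
    simp only [pv_append] at c1 c2
    exact ⟨(lw_append.1 (eqE_lw e1).1).1, c1, c2⟩
  · intro j hj hj'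
    obtain ⟨i, rfl⟩ : ∃ i, j = i + 1 := ⟨j - 1, by omega⟩
    obtain ⟨e1, e2⟩ := h9 i (List.mem_range.2 (by omega))
    have c1 := eqE_spec e1
    have c2 := eqE_spec e2
    simp only [pv_append, pv_winv, pv_wpow] at c1 c2
    exact ⟨_, c2, c1⟩
  · rw [← pv_pathW]
    refine eqE_ne ?_ rfl h12
    refine lw_of_lw_wpow (eqE_lw h11).1
where
  lw_of_lw_wpow {w : List ℕ} (h : lw (wpow w 3) = true) : lw w = true := by
    simp only [wpow] at h
    exact (lw_append.1 h).1

theorem repAE_el : el 1331 = repAE := by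
  have h := idx_ok
  simp only [Bool.and_eq_true, Nat.beq_eq] at h
  exact el_of_key (by norm_num) (by decide) h.1.2

theorem el_comm_A {i : ℕ} (hi : i < 2048) : Commute (el i) repAE := by
  have h := List.all_eq_true.1 central_A.1 i (List.mem_range.2 hi)
  rw [← repAE_el]
  show _ * _ = _ * _
  rw [(el_mul hi (by norm_num)).2, (el_mul (by norm_num) hi).2, Nat.beq_eq.mp h]

theorem zc_comm' (g : PS) : Commute g zc := (zc_comm g).symm

/-- The Sylow 2-subgroup. -/
noncomputable def sylPS : Subgroup PS where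
  carrier := {x | ∃ i < 2048, el i = x}
  one_mem' := ⟨0, by norm_num, el_zero⟩
  mul_mem' := by
    rintro _ _ ⟨i, hi, rfl⟩ ⟨j, hj, rfl⟩
    obtain ⟨h1, h2⟩ := el_mul hi hj
    exact ⟨_, h1, h2.symm⟩
  inv_mem' := by
    rintro x hx
    have key : ∀ n : ℕ, x ^ n ∈ {x | ∃ i < 2048, el i = x} := by
      intro n
      induction n with
      | zero => exact ⟨0, by norm_num, by rw [el_zero, pow_zero]⟩
      | succ n ih =>
        obtain ⟨i, hi, hi'⟩ := ih
        obtain ⟨j, hj, hj'⟩ := hx
        obtain ⟨h1, h2⟩ := el_mul hi hj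
        exact ⟨_, h1, by rw [pow_succ, ← hi', ← hj', h2]⟩
    rw [show x⁻¹ = x ^ (orderOf x - 1) from inv_eq_of_mul_eq_one_right (by
      rw [← pow_succ', Nat.sub_add_cancel (orderOf_pos x), pow_orderOf_eq_one])]
    exact key _

theorem card_sylPS : Nat.card sylPS = 2048 := by
  rw [← Nat.card_fin 2048]
  refine (Nat.card_congr (Equiv.ofBijective
    (fun i : Fin 2048 => (⟨el i.1, i.1, i.2, rfl⟩ : sylPS))
    ⟨fun i j h => Fin.ext (el_inj i.2 j.2 (congrArg Subtype.val h)), fun x => ?_⟩)).symm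
  obtain ⟨i, hi, hx⟩ := x.2
  exact ⟨⟨i, hi⟩, Subtype.ext hx⟩

/-- The centraliser of `A`. -/
noncomputable abbrev CA : Subgroup PS := centralizer ({repAE} : Set PS)

theorem mem_CA {g : PS} : g ∈ CA ↔ Commute g repAE := mem_centralizer_singleton_iff

theorem cData_len : EData.cT0.length = 1408 ∧ (∀ i ∈ EData.cReps, i < 1408) ∧ EData.cReps.length = 1 := by
  decide +kernel

theorem card_CA_le : Nat.card CA ≤ 30720 := by
  have h := cLive_ok
  simp only [Bool.and_eq_true, Nat.beq_eq, List.all_eq_true] at h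
  obtain ⟨⟨h1, h2⟩, h3⟩ := h
  have hsurj : ∀ g : CA, ∃ p : Fin cLive.length × Fin (EData.cStab.getD 0 []).length,
      (g : PS) = pv (unpackW 200 (entry EData.cOrb cLive[p.1.1] / 16) ++ (EData.cStab.getD 0 [])[p.2.1]) := by
    intro g
    obtain ⟨lc, hrc, hlen⟩ := cData_len
    obtain ⟨j, hj, hne, s, hs, -, -, hg⟩ := cent_complete (w := Data.repA) cFirst.2
      (T0 := dec EData.cT0) (T1 := dec EData.cT1) (p1 := 681)
      (rest := [(4, dec EData.cT2), (6, dec EData.cT3)]) cLevels_ok
      (Nat.beq_eq.mp cLevels_size) cFirst.1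
      (reps := repsOf EData.cT0 EData.cReps) (stabs := EData.cStab)
      (repsOf_mem (by rw [lc]; exact hrc)) (beqN_eq cPts1_ok)
      (orb := entry EData.cOrb)
      (fun j hj => by
        rw [dec, List.length_map, lc] at hj
        rw [dec_getD _ (by rw [lc]; exact hj)]
        refine blocks (p := orbBlock Data.repA EData.cT0 EData.cPts1 EData.cOrb EData.cReps)
          (q := fun j => orbOK Data.repA (unpackW 200 (EData.cT0.getD j 0)) EData.cPts1
            (repsOf EData.cT0 EData.cReps) (entry EData.cOrb j) = true) (fun b hb => ?_)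
          (fun lo h k hk => by
            have := List.all_eq_true.1 h k (List.mem_range.2 hk)
            simpa [force_eq] using this) hj
        interval_cases b
        exacts [cOrb_ok0, cOrb_ok1, cOrb_ok2, cOrb_ok3, cOrb_ok4, cOrb_ok5, cOrb_ok6, cOrb_ok7,
          cOrb_ok8, cOrb_ok9, cOrb_ok10])
      (fun i hi => by
        rw [repsOf, List.length_map, hlen] at hi
        interval_cases i
        exact cStab_ok0) (mem_CA.1 g.2)
    rw [dec, List.length_map, lc] at hj
    have hmem : j ∈ cLive := by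
      simp only [cLive, List.mem_filter, List.mem_range, Bool.not_eq_true']
      exact ⟨hj, by simpa [Bool.eq_false_iff, Nat.beq_eq] using hne⟩
    have hmod := h3 j hmem
    rw [hmod] at hs
    obtain ⟨a, ha, rfl⟩ := List.getElem_of_mem hmem
    obtain ⟨b, hb, rfl⟩ := List.getElem_of_mem hs
    exact ⟨(⟨a, ha⟩, ⟨b, hb⟩), hg⟩
  choose f hf using hsurj
  refine (Nat.card_le_card_of_injective f fun a b e => Subtype.ext (by rw [hf a, hf b, e])).trans ?_
  rw [Nat.card_prod, Nat.card_fin, Nat.card_fin, h1, h2]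

/-- The group generated by the three elements. -/
noncomputable abbrev genY : Subgroup PS := closure {uY, bY, vY}

theorem genY_le : genY ≤ CA := by
  rw [closure_le]
  intro g hg
  simp only [Set.mem_insert_iff, Set.mem_singleton_iff] at hg
  exact mem_CA.2 (src.comm g (by simpa using hg))

theorem pe_gen (p : List ℕ) : pe uY bY vY p ∈ genY :=
  pe_mem (subset_closure (by simp)) (subset_closure (by simp)) (subset_closure (by simp)) p

theorem el_mem_genY {i : ℕ} (hi : i < 2048) : el i ∈ genY := by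
  have key : ∀ l : List ℕ, (∀ j ∈ l, j < 4) → pv (pword l) ∈ genY := by
    intro l hl
    induction l with
    | nil => exact genY.one_mem
    | cons j l ih =>
      rw [pword_cons, pv_append, ← src.syl j (hl j (List.mem_cons_self ..))]
      exact genY.mul_mem (pe_gen _) (ih fun k hk => hl k (List.mem_cons_of_mem _ hk))
  exact key _ (row_basic hi).1

theorem orderOf_uY : orderOf uY = 5 :=
  haveI : Fact (Nat.Prime 5) := ⟨by norm_num⟩
  orderOf_eq_prime src.u5 src.u_ne

theorem coprime_three {n : ℕ} (h2 : 2048 ∣ n) (h3 : 3 ∣ n) (h5 : 5 ∣ n) : 30720 ∣ n := by omega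

theorem card_genY_two : 2048 ∣ Nat.card genY := by
    rw [← card_sylPS]
    exact Subgroup.card_dvd_of_le (fun x ⟨i, hi, hx⟩ => hx ▸ el_mem_genY hi)
theorem card_genY_three : 3 ∣ Nat.card genY := by
    haveI : Fact (Nat.Prime 3) := ⟨by norm_num⟩
    rw [← orderOf_eq_prime src.three.1 src.three.2]
    exact Subgroup.orderOf_dvd_natCard _ (pe_gen _)
theorem card_genY_five : 5 ∣ Nat.card genY := by
    rw [← orderOf_uY]
    exact Subgroup.orderOf_dvd_natCard _ (subset_closure (by simp))
theorem genY_eq : genY = CA ∧ Nat.card CA = 30720 := by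
  have hle := Subgroup.card_le_of_le genY_le
  have h1 := Nat.le_of_dvd Nat.card_pos (coprime_three card_genY_two card_genY_three card_genY_five)
  have h4 := card_CA_le
  exact ⟨Subgroup.eq_of_le_of_card_ge genY_le (by omega), by omega⟩


theorem sylPS_le : sylPS ≤ CA := fun x ⟨i, hi, hx⟩ => hx ▸ mem_CA.2 (el_comm_A hi)

/-- Elements of order five are conjugate to the first generator. -/
theorem five_conj {g : PS} (hg : Commute g repAE) (h5 : g ^ 5 = 1) (h1 : g ≠ 1) :
    ∃ c : PS, Commute c repAE ∧ c * g * c⁻¹ = uY := by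
  haveI : Fact (Nat.Prime 5) := ⟨by norm_num⟩
  have hfac : (Nat.card CA).factorization 5 = 1 := by
    rw [genY_eq.2, show (30720 : ℕ) = 5 ^ 1 * 6144 by norm_num, Nat.factorization_mul (by norm_num)
      (by norm_num), Nat.Prime.factorization_pow (by norm_num), Finsupp.add_apply,
      Finsupp.single_eq_same, Nat.factorization_eq_zero_of_not_dvd (by norm_num)]
  set g' : CA := ⟨g, mem_CA.2 hg⟩
  set u' : CA := ⟨uY, mem_CA.2 (src.comm uY (by simp))⟩
  have hgo : Nat.card (zpowers g') = 5 ^ (Nat.card CA).factorization 5 := by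
    rw [hfac, pow_one, Nat.card_zpowers, ← Subgroup.orderOf_coe]
    exact orderOf_eq_prime h5 h1
  have huo : Nat.card (zpowers u') = 5 ^ (Nat.card CA).factorization 5 := by
    rw [hfac, pow_one, Nat.card_zpowers, ← Subgroup.orderOf_coe]
    exact orderOf_uY
  obtain ⟨c, hc⟩ := MulAction.exists_smul_eq CA (Sylow.ofCard _ hgo) (Sylow.ofCard _ huo)
  have hmem : (MulAut.conj c) g' ∈ ((c • Sylow.ofCard _ hgo : Sylow 5 CA) : Subgroup CA) :=
    Subgroup.smul_mem_pointwise_smul _ _ _ (mem_zpowers g')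
  rw [hc] at hmem
  obtain ⟨j, hj⟩ := mem_powers_iff_mem_zpowers.2 (show _ ∈ zpowers u' from hmem)
  have hj' : uY ^ j = c.1 * g * c.1⁻¹ := by simpa [u', g'] using congrArg Subtype.val hj
  rw [pow_eq_pow_mod j src.u5] at hj'
  obtain ⟨n, hn, hnu⟩ := src.nrm (j % 5) (Nat.pos_of_ne_zero fun h0 => by
    rw [h0, pow_zero, eq_comm, conj_eq_one_iff] at hj'
    exact h1 hj') (Nat.mod_lt _ (by norm_num))
  refine ⟨n * c.1, hn.mul_left (mem_CA.1 c.2), ?_⟩
  rw [show n * c.1 * g * (n * c.1)⁻¹ = n * (c.1 * g * c.1⁻¹) * n⁻¹ by group, ← hj', hnu]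

/-- A list of square roots is complete. -/
theorem roots_complete {L : ℕ → List ℕ} {clo : List ℕ} {tgt : List ℕ} {syl : List (ℕ × ℕ)} {t : ℕ}
    (ht : t < 2048) (het : el t = pv tgt) (hc : ∀ c : PS, Commute c repAE → Commute c (pv tgt))
    (hroots : ∀ b < 8, rootsOK L clo tgt (50 * b) 50 = true) (hsyl : rootSylOK L syl t = true)
    (h2 : (pv tgt) ^ 2 = 1)
    {g : PS} (hg : Commute g repAE) (hsq : g * g = pv tgt) : ∃ j < 400, g = pv (L j) := by
  haveI : Fact (Nat.Prime 2) := ⟨Nat.prime_two⟩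
  have hL : ∀ j < 400, ∀ k < 3, ∃ m < 400,
      pv (letW EData.uW EData.bW EData.vW (2 * k)) * pv (L j) *
        (pv (letW EData.uW EData.bW EData.vW (2 * k)))⁻¹ = pv (L m) := by
    intro j hj k hk
    have h := List.all_eq_true.1 (hroots (j / 50) (by omega)) (j % 50) (List.mem_range.2 (by omega))
    rw [force_eq, show 50 * (j / 50) + j % 50 = j by omega] at h
    simp only [force_eq, Bool.and_eq_true, List.all_eq_true, Nat.blt_eq] at h
    obtain ⟨hm, he⟩ := h.2 k (List.mem_range.2 hk)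
    refine ⟨_, hm, ?_⟩
    have := eqE_spec he
    simpa only [pv_append, pv_winv] using this
  have hcl : ∀ c ∈ genY, ∀ j < 400, ∃ m < 400, c * pv (L j) * c⁻¹ = pv (L m) := by
    intro c hc
    rw [← Subgroup.mem_toSubmonoid, Subgroup.closure_toSubmonoid_of_finite] at hc
    induction hc using Submonoid.closure_induction with
    | mem y hy =>
      intro j hj
      simp only [Set.mem_insert_iff, Set.mem_singleton_iff] at hy
      rcases hy with rfl | rfl | rfl
      · exact hL j hj 0 (by norm_num)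
      · exact hL j hj 1 (by norm_num)
      · exact hL j hj 2 (by norm_num)
    | one => exact fun j hj => ⟨j, hj, by simp⟩
    | mul a b _ _ ha hb =>
      intro j hj
      obtain ⟨m, hm, e1⟩ := hb j hj
      obtain ⟨m', hm', e2⟩ := ha m hm
      exact ⟨m', hm', by rw [← e2, ← e1]; group⟩
  set g' : CA := ⟨g, mem_CA.2 hg⟩
  have hg4 : g ^ 2 ^ 2 = 1 := by
    rw [show g ^ 2 ^ 2 = (g * g) ^ 2 from (congrArg (g ^ ·) (by norm_num : 2 ^ 2 = 2 * 2)).trans
      ((pow_mul g 2 2).trans (by rw [pow_two g])), hsq, h2]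
  have hP : IsPGroup 2 (zpowers g') := by
    intro x
    obtain ⟨k, hk⟩ := mem_powers_iff_mem_zpowers.2 x.2
    refine ⟨2, Subtype.ext ?_⟩
    show (x : CA) ^ 2 ^ 2 = 1
    rw [← hk]
    show (g' ^ k) ^ 2 ^ 2 = 1
    rw [← pow_mul, mul_comm, pow_mul, show g' ^ 2 ^ 2 = 1 from Subtype.ext (by simpa [g'] using hg4),
      one_pow]
  obtain ⟨Q, hQ⟩ := hP.exists_le_sylow
  have hS : Nat.card (sylPS.subgroupOf CA) = 2 ^ (Nat.card CA).factorization 2 := by
    rw [Nat.card_congr (Subgroup.subgroupOfEquivOfLe sylPS_le).toEquiv, card_sylPS, genY_eq.2,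
      show (30720 : ℕ).factorization 2 = 11 by
        rw [show (30720 : ℕ) = 2 ^ 11 * 15 by norm_num, Nat.factorization_mul (by norm_num)
          (by norm_num), Nat.Prime.factorization_pow Nat.prime_two, Finsupp.add_apply,
          Finsupp.single_eq_same, Nat.factorization_eq_zero_of_not_dvd (by norm_num)]]
    norm_num
  obtain ⟨c, hc'⟩ := MulAction.exists_smul_eq CA Q (Sylow.ofCard _ hS)
  have hmem : (MulAut.conj c) g' ∈ ((c • Q : Sylow 2 CA) : Subgroup CA) :=
    Subgroup.smul_mem_pointwise_smul _ _ _ (hQ (mem_zpowers g'))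
  rw [hc'] at hmem
  obtain ⟨i, hi, hie⟩ : ∃ i < 2048, el i = c.1 * g * c.1⁻¹ := hmem
  have hsi : el (sqIdx false i) = el t := by
    rw [(sqIdx_spec false hi).2, cor, if_neg (fun h => Bool.false_ne_true h.1), mul_one, hie,
      show c.1 * g * c.1⁻¹ * (c.1 * g * c.1⁻¹) = c.1 * (g * g) * c.1⁻¹ by group, hsq, het,
      conj_eq_self (hc _ (mem_CA.1 c.2))]
  have hidx := el_inj (sqIdx_spec false hi).1 ht hsi
  simp only [rootSylOK, Bool.and_eq_true, List.all_eq_true, force_eq, Bool.or_eq_true,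
    Bool.not_eq_true', List.any_eq_true, Nat.beq_eq, Nat.blt_eq] at hsyl
  rcases hsyl.1 i (List.mem_range.2 hi) with hne | ⟨e, he, hei⟩
  · rw [hidx] at hne
    simp at hne
  · obtain ⟨⟨he1, he2⟩, hl, hk⟩ := hsyl.2 e he
    rw [hei] at hk
    have hel : el i = pv (L e.2) := el_of_key hi hl hk
    obtain ⟨m, hm, hm'⟩ := hcl c.1⁻¹ (genY.inv_mem (genY_eq.1.symm ▸ c.2)) e.2 he2
    refine ⟨m, hm, ?_⟩
    rw [← hm', ← hel, hie]
    group

theorem t4_complete {g : PS} (hg : Commute g repAE) (hsq : g * g = zc) : ∃ j < 400, g = pv (t4 j) := by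
  refine roots_complete (clo := EData.t4Clo) (tgt := [0, 0]) (syl := EData.t4Syl) zIdx_lt
    (by rw [el_zIdx, zc_val]) (fun c _ => by rw [zc_val]; exact zc_comm' c) (fun b hb => ?_) t4Syl_ok
    (by rw [zc_val, pow_two, zc_sq]) hg (by rw [hsq, zc_val])
  interval_cases b
  exacts [t4Roots_ok0, t4Roots_ok1, t4Roots_ok2, t4Roots_ok3, t4Roots_ok4, t4Roots_ok5, t4Roots_ok6,
    t4Roots_ok7]

theorem repAE_sq : repAE * repAE = 1 := by
  rw [← pv_append]
  exact eq_of_key (a := Data.repA ++ Data.repA) (b := []) (by decide) rfl (by decide +kernel)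

theorem a4_complete {g : PS} (hg : Commute g repAE) (hsq : g * g = repAE) :
    ∃ j < 400, g = pv (a4 j) := by
  refine roots_complete (clo := EData.a4Clo) (tgt := Data.repA) (syl := EData.a4Syl) (t := 1331)
    (by norm_num) repAE_el (fun c h => h) (fun b hb => ?_) a4Syl_ok
    (by rw [pow_two]; exact repAE_sq) hg hsq
  interval_cases b
  exacts [a4Roots_ok0, a4Roots_ok1, a4Roots_ok2, a4Roots_ok3, a4Roots_ok4, a4Roots_ok5, a4Roots_ok6,
    a4Roots_ok7]

/-- The images of the generators, up to conjugation. -/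
theorem search {u b v : PS} (hu : Commute u repAE) (hb : Commute b repAE) (hv : Commute v repAE)
    (u5 : u ^ 5 = 1) (u1 : u ≠ 1) (b2 : b * b = zc) (v2 : v * v = repAE)
    (h2 : ∀ p, pe uY bY 1 p = 1 → pe u b 1 p = 1) (h3 : ∀ p, pe uY bY vY p = 1 → pe u b v p = 1) :
    ∃ c : PS, Commute c repAE ∧ ∃ q < 8,
      c * u * c⁻¹ = uY ∧ c * b * c⁻¹ = pv (repB2 (EData.caseIx.getD q (0, 0)).1) ∧
        c * v * c⁻¹ = pv (a4 (EData.caseIx.getD q (0, 0)).2) := by
  obtain ⟨c1, hc1, hcu⟩ := five_conj hu u5 u1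
  have hpe : ∀ (c a b w : PS) (p : List ℕ),
      pe (c * a * c⁻¹) (c * b * c⁻¹) (c * w * c⁻¹) p = c * pe a b w p * c⁻¹ :=
    fun c a b w p => ((map_pe (MulAut.conj c).toMonoidHom a b w p).trans rfl).symm
  have hcomm : ∀ (c g : PS), Commute c repAE → Commute g repAE → Commute (c * g * c⁻¹) repAE :=
    fun c g h1 h2 => (h1.mul_left h2).mul_left h1.inv_left
  obtain ⟨j, hj, hbj⟩ := t4_complete (hcomm c1 b hc1 hb) (by
    rw [← cjm, b2, conj_eq_self (zc_comm' c1)])
  -- the second generator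
  have hB := List.all_eq_true.1 (show bOK (j / 100 * 100) 100 = true by
    have : j / 100 < 4 := by omega
    interval_cases hq : j / 100
    exacts [bSearch_ok0, bSearch_ok1, bSearch_ok2, bSearch_ok3]) (j % 100) (List.mem_range.2 (by omega))
  rw [force_eq, force_eq, show j / 100 * 100 + j % 100 = j by omega] at hB
  by_cases hlt : EData.bCert.getD j 0 < 2
  · exfalso
    rw [show Nat.blt (EData.bCert.getD j 0) 2 = true by rw [Nat.blt_eq]; exact hlt, cond_true, force_eq, Bool.not_eq_true', Bool.eq_false_iff, ne_eq,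
      Nat.beq_eq] at hB
    refine hB ?_
    have hp : ∀ {n : ℕ}, n < 2 → EData.bTests.getD n [] ∈ EData.bTests := fun {n} hn => by
      interval_cases n <;> simp [EData.bTests]
    have h := h2 _ (src.bT _ (hp hlt))
    have h' : pv (pathW EData.uW (t4 j) [] (EData.bTests.getD (EData.bCert.getD j 0) [])) = pv [] := by
      rw [pv_pathW, ← hbj, show pv EData.uW = c1 * u * c1⁻¹ from hcu.symm, show pv [] = c1 * 1 * c1⁻¹ by simp, hpe, h]
    refine key_eq_of_val ?_ rfl h'
    exact lw_pathW (eqE_lw_u) (t4_lw hj) rfl _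
  · rw [show Nat.blt (EData.bCert.getD j 0) 2 = false by
      rw [Bool.eq_false_iff, ne_eq, Nat.blt_eq]; exact hlt, cond_false] at hB
    simp only [force_eq, Bool.and_eq_true, Nat.blt_eq] at hB
    obtain ⟨hg, hcj⟩ := hB
    set r := (EData.bCert.getD j 0 - 2) % 2
    set G := EData.ccW.getD ((EData.bCert.getD j 0 - 2) / 2) []
    have hG : G ∈ EData.ccW := by
      have hlen : EData.ccW.length = 80 := by decide +kernel
      show EData.ccW.getD _ [] ∈ EData.ccW
      rw [List.getD_eq_getElem _ _ (by omega)]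
      exact List.getElem_mem _
    obtain ⟨-, hGA, hGu⟩ := src.cc G hG
    set c2 := pv G * c1
    have hc2 : Commute c2 repAE := hGA.mul_left hc1
    have e1 : c2 * u * c2⁻¹ = uY := by
      rw [show c2 * u * c2⁻¹ = pv G * (c1 * u * c1⁻¹) * (pv G)⁻¹ by simp [c2, mul_assoc], hcu,
        conj_eq_self hGu]
    have e2 : c2 * b * c2⁻¹ = pv (repB2 r) := by
      rw [show c2 * b * c2⁻¹ = pv G * (c1 * b * c1⁻¹) * (pv G)⁻¹ by simp [c2, mul_assoc], hbj,
        ← eqE_spec hcj]
      simp only [pv_append, pv_winv]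
      group
    obtain ⟨i, hi, hvi⟩ := a4_complete (hcomm c2 v hc2 hv) (by
      rw [← cjm, v2, conj_eq_self hc2])
    have hr : r < 2 := Nat.mod_lt _ (by norm_num)
    have hV := List.all_eq_true.1 (show vOK r (i / 100 * 100) 100 = true by
      have : i / 100 < 4 := by omega
      interval_cases r <;> interval_cases hq : i / 100
      exacts [vSearch_ok00, vSearch_ok01, vSearch_ok02, vSearch_ok03, vSearch_ok10, vSearch_ok11,
        vSearch_ok12, vSearch_ok13]) (i % 100) (List.mem_range.2 (by omega))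
    rw [force_eq, force_eq, show i / 100 * 100 + i % 100 = i by omega] at hV
    by_cases hlt' : (vCertOf r).getD i 0 < 2
    · exfalso
      rw [show Nat.blt ((vCertOf r).getD i 0) 2 = true by rw [Nat.blt_eq]; exact hlt', cond_true, force_eq, Bool.not_eq_true', Bool.eq_false_iff, ne_eq,
        Nat.beq_eq] at hV
      refine hV ?_
      have hp : ∀ {r n : ℕ}, r < 2 → n < 2 →
          EData.vTests.getD r [] ∈ EData.vTests ∧ (EData.vTests.getD r []).getD n [] ∈ EData.vTests.getD r [] :=
        fun {r n} hr hn => by interval_cases r <;> interval_cases n <;> simp [EData.vTests]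
      have h := h3 _ (src.vT _ (hp hr hlt').1 _ (hp hr hlt').2)
      have h' : pv (pathW EData.uW (repB2 r) (a4 i)
          ((EData.vTests.getD r []).getD ((vCertOf r).getD i 0) [])) = pv [] := by
        rw [pv_pathW, ← hvi, ← e2, show pv EData.uW = c2 * u * c2⁻¹ from e1.symm, hpe, h]
        simp
      refine key_eq_of_val ?_ rfl h'
      exact lw_pathW eqE_lw_u (lw_append.1 (lw_append.1 (eqE_lw hcj).1).1).2 (a4_lw hi) _
    · rw [show Nat.blt ((vCertOf r).getD i 0) 2 = false by
        rw [Bool.eq_false_iff, ne_eq, Nat.blt_eq]; exact hlt', cond_false] at hV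
      simp only [force_eq, Bool.and_eq_true, Nat.blt_eq, Nat.beq_eq] at hV
      obtain ⟨⟨hq, hqr⟩, hqi⟩ := hV
      exact ⟨c2, hc2, _, hq, e1, by rw [hqr]; exact e2, by rw [hqi]; exact hvi⟩
where
  eqE_lw_u : lw EData.uW = true := by
    have h := src_ok
    simp only [srcOK, Bool.and_eq_true] at h
    have := (eqE_lw h.1.1.1.1.1.1.1.1.1.1.1.1).1
    simp only [wpow] at this
    exact (lw_append.1 this).1
  t4_lw {j : ℕ} (hj : j < 400) : lw (t4 j) = true := by
    have h := List.all_eq_true.1 (show rootsOK t4 EData.t4Clo [0, 0] (50 * (j / 50)) 50 = true by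
      have : j / 50 < 8 := by omega
      interval_cases hq : j / 50
      exacts [t4Roots_ok0, t4Roots_ok1, t4Roots_ok2, t4Roots_ok3, t4Roots_ok4, t4Roots_ok5,
        t4Roots_ok6, t4Roots_ok7]) (j % 50) (List.mem_range.2 (by omega))
    rw [force_eq, show 50 * (j / 50) + j % 50 = j by omega] at h
    simp only [force_eq, Bool.and_eq_true] at h
    exact (lw_append.1 (eqE_lw h.1.1).1).1
  a4_lw {j : ℕ} (hj : j < 400) : lw (a4 j) = true := by
    have h := List.all_eq_true.1 (show rootsOK a4 EData.a4Clo Data.repA (50 * (j / 50)) 50 = true by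
      have : j / 50 < 8 := by omega
      interval_cases hq : j / 50
      exacts [a4Roots_ok0, a4Roots_ok1, a4Roots_ok2, a4Roots_ok3, a4Roots_ok4, a4Roots_ok5,
        a4Roots_ok6, a4Roots_ok7]) (j % 50) (List.mem_range.2 (by omega))
    rw [force_eq, show 50 * (j / 50) + j % 50 = j by omega] at h
    simp only [force_eq, Bool.and_eq_true] at h
    exact (lw_append.1 (eqE_lw h.1.1).1).1
  lw_pathW {a b c : List ℕ} (ha : lw a = true) (hb : lw b = true) (hc : lw c = true) :
      ∀ p, lw (pathW a b c p) = true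
    | [] => rfl
    | k :: p => by
      refine lw_append.2 ⟨?_, lw_pathW ha hb hc p⟩
      match k with
      | 0 | 1 | 2 | 3 | 4 | _ + 5 => simp [letW, ha, hb, hc, lw_winv]

end Cfsg.Lib.HNType
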