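import Cfsg.Agent.Lib.HNType.KillCaseY
import Cfsg.Agent.Lib.HNType.EmbY

/-!
# The swap of `t` with a conjugate, and an element of order five
-/

set_option autoImplicit false
set_option linter.style.haveILetI false
set_option maxRecDepth 100000

namespace Cfsg.Lib.HNType

open Cfsg.Lib.HN Cfsg.Lib.HN.Sub100 Subgroup
open Cfsg.Lib.CosetEnum (force force_eq)

variable {G : Type*} [Group G] {t : G}

theorem triC_facts : ∃ u v : PS, Commute (pv Data.repC) (u⁻¹ * pv Data.repC * u) ∧
    pv Data.repC * (u⁻¹ * pv Data.repC * u) = v⁻¹ * pv Data.repB * v ∧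
    pv Data.repC * pv Data.repC = 1 ∧ pv Data.repB ≠ 1 := by
  have h := triC_ok
  simp only [Bool.and_eq_true] at h
  obtain ⟨⟨⟨h1, h2⟩, h3⟩, h4⟩ := h
  have e1 := eqE_spec h1
  have e2 := eqE_spec h2
  simp only [pv_append, pv_winv] at e1 e2
  exact ⟨pv triCU, pv triCV, e1, e2, by rw [← pv_append]; exact eqE_spec h3,
    eqE_ne (by decide) rfl h4⟩

/-- An element commuting with the Sylow subgroup, of 2-power order, is inner. -/
theorem χ_of_central {p : PS} (hp : p * p = 1) (hc : ∀ i < 2048, Commute p (el i)) : χ p = 1 := by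
  haveI : Fact (Nat.Prime 2) := ⟨Nat.prime_two⟩
  have hmem : p ∈ sylPS := by
    set Q := sylPS ⊔ zpowers p
    have h1 : IsPGroup 2 sylPS := IsPGroup.of_card (n := 11) (by rw [card_sylPS]; norm_num)
    have h2 : IsPGroup 2 (zpowers p) := by
      intro x
      obtain ⟨k, hk⟩ := mem_powers_iff_mem_zpowers.2 x.2
      refine ⟨1, Subtype.ext ?_⟩
      show (x : PS) ^ 2 ^ 1 = 1
      rw [← hk]
      show (p ^ k) ^ 2 ^ 1 = 1
      rw [← pow_mul, mul_comm, pow_mul, pow_one, pow_two, hp, one_pow]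
    have hn : zpowers p ≤ normalizer (sylPS : Set PS) := by
      rw [zpowers_le, mem_normalizer_iff]
      intro x
      constructor
      · rintro ⟨i, hi, rfl⟩
        exact ⟨i, hi, (conj_eq_self (hc i hi)).symm⟩
      · rintro ⟨i, hi, hx⟩
        refine ⟨i, hi, ?_⟩
        rw [show x = p⁻¹ * (p * x * p⁻¹) * p by group, ← hx, mul_assoc, ← (hc i hi).eq, inv_mul_cancel_left]
    have hQ : IsPGroup 2 Q := h1.to_sup_of_normal_left' h2 hn
    obtain ⟨n, hn'⟩ := hQ.exists_card_eq
    have hle : sylPS ≤ Q := le_sup_left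
    have hdvd : 2 ^ n ∣ 177408000 := by
      rw [← PS_base.1, ← hn']
      exact Subgroup.card_subgroup_dvd_card Q
    have hn11 : n ≤ 11 := by
      by_contra hlt
      have : 2 ^ 12 ∣ (177408000 : ℕ) := (pow_dvd_pow 2 (by omega : 12 ≤ n)).trans hdvd
      norm_num at this
    have hQeq : sylPS = Q := Subgroup.eq_of_le_of_card_ge hle (by
      rw [hn', card_sylPS, show (2048 : ℕ) = 2 ^ 11 by norm_num]
      exact Nat.pow_le_pow_right (by norm_num) hn11)
    rw [hQeq]
    exact (le_sup_right : zpowers p ≤ Q) (mem_zpowers p)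
  obtain ⟨i, hi, rfl⟩ := hmem
  have h := List.all_eq_true.1 outer_ok i (List.mem_range.2 hi)
  simp only [outerOK, force_eq, Bool.or_eq_true, Bool.not_eq_true', List.any_eq_true, Bool.and_eq_true,
    Nat.blt_eq] at h
  rcases h with h | ⟨k, -, hg, hne⟩
  · rw [χ_el hi, h]; rfl
  · exfalso
    have h1 := (hc _ hg).eq
    rw [(el_mul hi hg).2, (el_mul hg hi).2] at h1
    rw [el_inj (el_mul hi hg).1 (el_mul hg hi).1 h1, Nat.beq_refl] at hne
    simp at hne

namespace CMap

variable [Finite G] (C : CMap t false)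

theorem rg_zero : C.rg 0 = C.hom repAE := rfl

theorem rg_el' {i : ℕ} : C.hom (el i) = C.e (el i) := rfl

/-- `A` is fused to `t`. -/
theorem A_fused_of_simple [IsSimpleGroup G] : ∃ g : G, g * C.rg 0 * g⁻¹ = t := by
  obtain ⟨k, hk, -, g, hg⟩ := C.exists_fused
  interval_cases k
  · exact ⟨g, hg⟩
  · exact absurd hg (C.not_fused_B g)
  · obtain ⟨u, v, hcm, hprod, hcc, hB1⟩ := triC_facts
    set cE := pv Data.repC
    set y := u⁻¹ * cE * u with hy
    have hyy : y * y = 1 := by
      rw [hy, show u⁻¹ * cE * u * (u⁻¹ * cE * u) = u⁻¹ * (cE * cE) * u by group, hcc, mul_one,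
        inv_mul_cancel]
    set w := g * C.hom y * g⁻¹ with hw
    have hgc : g * C.hom cE * g⁻¹ = t := hg
    have hwt : Commute w t := by
      have := (Commute.conj_iff g).2 (C.commute_hom_iff.2 hcm.symm)
      rwa [hgc] at this
    have hww : w * w = 1 := by rw [hw, ← cjm, ← _root_.map_mul, hyy, _root_.map_one]; group
    have hw1 : w ≠ 1 := by
      intro h
      have hy1 : y = 1 := by
        refine C.hom_inj ?_
        rw [_root_.map_one]
        rw [hw, conj_eq_one_iff] at h
        exact h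
      have hc1 : cE = 1 := by rw [show cE = u * y * u⁻¹ by rw [hy]; group, hy1]; group
      rw [hy1, hc1, one_mul] at hprod
      exact hB1 (by rw [show pv Data.repB = v * (v⁻¹ * pv Data.repB * v) * v⁻¹ by group, ← hprod]; group)
    obtain ⟨c, hct, j, hj, -, hcu⟩ := C.inv_cover hww hw1 hwt
    have hconj : ∃ e : G, e * C.rg j * e⁻¹ = t := by
      refine ⟨g * C.hom u * (g⁻¹ * c⁻¹), Eq.trans ?_ hg⟩
      rw [← hcu, hw, C.rg_eq, hy]
      simp only [_root_.map_mul, _root_.map_inv]
      show _ = g * C.hom cE * g⁻¹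
      group
    obtain ⟨e, he⟩ := hconj
    interval_cases j
    · exact ⟨e, he⟩
    · exact absurd he (C.not_fused_B e)
    · exfalso
      obtain ⟨r, hr⟩ := rels.wC
      have hBc : (c * g) * C.hom (v⁻¹ * pv Data.repB * v) * (c * g)⁻¹ = t * C.rg 2 := by
        rw [← hprod, _root_.map_mul, cjm, ← hcu, hw]
        congr 1
        · rw [mul_inv_rev, show c * g * C.hom cE * (g⁻¹ * c⁻¹) = c * (g * C.hom cE * g⁻¹) * c⁻¹ by group,
            hgc, conj_eq_self hct]
        · group
      have h2 : t * C.rg 2 = (C.hom r)⁻¹ * C.rg 2 * C.hom r := by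
        rw [C.rg_eq, show rep 2 = Data.repC from rfl, ← _root_.map_inv, ← _root_.map_mul,
          ← _root_.map_mul, hr, _root_.map_mul, C.hom_zc]
        exact ((C.hom_comm_t _).eq).symm
      refine C.not_fused_B (e * C.hom r * (c * g) * (C.hom v)⁻¹) (Eq.trans ?_ he)
      rw [h2] at hBc
      rw [show e * C.hom r * (c * g) * (C.hom v)⁻¹ * C.rg 1 * (e * C.hom r * (c * g) * (C.hom v)⁻¹)⁻¹ =
        e * (C.hom r * ((c * g) * ((C.hom v)⁻¹ * C.rg 1 * C.hom v) * (c * g)⁻¹) * (C.hom r)⁻¹) * e⁻¹ by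
          group,
        show (C.hom v)⁻¹ * C.rg 1 * C.hom v = C.hom (v⁻¹ * pv Data.repB * v) by
          rw [_root_.map_mul, _root_.map_mul, _root_.map_inv]; rfl,
        hBc]
      group
    · exact absurd he (C.not_fused_D e)
    · exfalso
      rw [C.rg_four] at hcu
      have hwT : w = t := by
        calc w = c⁻¹ * (c * w * c⁻¹) * c := by group
          _ = t := by rw [hcu, mul_assoc, ← hct.eq, inv_mul_cancel_left]
      have hyd : y = cE := by
        refine C.hom_inj ?_
        have h := hwT.trans hgc.symm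
        rw [hw] at h
        simpa using h
      rw [hyd, hcc] at hprod
      exact hB1 (by rw [show pv Data.repB = v * (v⁻¹ * pv Data.repB * v) * v⁻¹ by group, ← hprod]; group)
  · exact absurd hg (C.not_fused_D g)

/-- The swap of `t` and `A`. -/
theorem exists_swapA [IsSimpleGroup G] :
    ∃ h : G, h * C.hom repAE * h⁻¹ = t ∧ h * t * h⁻¹ = C.hom repAE := by
  obtain ⟨g, hg⟩ := C.A_fused_of_simple
  rw [C.rg_zero] at hg
  have hAt : Commute (C.hom repAE) t := C.hom_comm_t repAE
  set w := g * t * g⁻¹ with hw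
  have hwt : Commute w t := by
    have := (Commute.conj_iff g).2 hAt.symm
    rwa [hg] at this
  have hww : w * w = 1 := by rw [hw, ← cjm, C.tt]; group
  have hw1 : w ≠ 1 := by
    rw [hw, Ne, conj_eq_one_iff]
    intro h
    have := C.ord_t
    rw [h, orderOf_one] at this
    norm_num at this
  obtain ⟨c, hct, k, hk, -, hcu⟩ := C.inv_cover hww hw1 hwt
  set h := c * g with hh
  have hA : h * C.hom repAE * h⁻¹ = t := by
    rw [hh, show c * g * C.hom repAE * (c * g)⁻¹ = c * (g * C.hom repAE * g⁻¹) * c⁻¹ by group, hg,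
      conj_eq_self hct]
  have hT : h * t * h⁻¹ = C.rg k := by
    rw [← hcu, hw, hh]
    group
  have hconj : h⁻¹ * C.rg k * h⁻¹⁻¹ = t := by rw [← hT]; group
  have houter : ∀ j, j < 5 → χ (pv (rep j)) = -1 → C.rg k ≠ C.rg j := by
    intro j hj hχ he
    haveI : Fact (Nat.Prime 2) := ⟨Nat.prime_two⟩
    -- the conjugate of the Sylow subgroup centralises the image of `t`
    set P := (C.syl).map (MulAut.conj h).toMonoidHom with hPdef
    have hP2 : IsPGroup 2 P := C.syl_two.map _
    have hPle : P ≤ centralizer ({t} : Set G) := by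
      rintro _ ⟨x, ⟨i, rfl⟩, rfl⟩
      have h1 := (Commute.conj_iff h).2 (C.commute_hom_iff.2 (el_comm_A i.2))
      rw [hA] at h1
      exact mem_centralizer_singleton_iff.2 h1.eq
    obtain ⟨c', hc't, hc'⟩ := C.exists_conj_le P hP2 hPle
    set h' := c' * h
    have hmem : ∀ x : C.syl, h' * x * h'⁻¹ ∈ C.syl := fun x => by
      have := hc' _ ⟨x.1, x.2, rfl⟩
      simpa [h', mul_assoc] using this
    have hb : Function.Bijective (fun x : C.syl => (⟨h' * x * h'⁻¹, hmem x⟩ : C.syl)) :=
      Finite.injective_iff_bijective.1 fun a b e => Subtype.ext (by simpa using congrArg Subtype.val e)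
    obtain ⟨p, hp⟩ := C.hom_pre (u := c' * C.rg k * c'⁻¹) (by
      have h1 : Commute (C.rg k) t := C.hom_comm_t _
      exact (hc't.mul_left h1).mul_left hc't.inv_left)
    have hpk : c' * C.rg k * c'⁻¹ = h' * t * h'⁻¹ := by rw [← hT]; simp [h', mul_assoc]
    have hpc : ∀ i < 2048, Commute p (el i) := by
      intro i hi
      refine C.commute_hom_iff.1 ?_
      obtain ⟨⟨x, ⟨l, rfl⟩⟩, hx⟩ := hb.2 ⟨C.e (el i), ⟨⟨i, hi⟩, rfl⟩⟩
      have hx' : h' * C.hom (el l.1) * h'⁻¹ = C.hom (el i) := congrArg Subtype.val hx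
      rw [hp, ← hx', hpk]
      exact (Commute.conj_iff h').2 (C.hom_comm_t _).symm
    obtain ⟨q, hq⟩ := C.hom_pre (u := c') hc't
    have hpq : p = q * pv (rep j) * q⁻¹ := by
      refine C.hom_inj ?_
      rw [hp, he, _root_.map_mul, _root_.map_mul, _root_.map_inv, hq, C.rg_eq]
    have hpp : p * p = 1 := by
      refine C.hom_inj ?_
      rw [_root_.map_mul, hp, hpk, ← cjm, C.tt, _root_.map_one]
      group
    have := χ_of_central hpp hpc
    rw [hpq, _root_.map_mul, _root_.map_mul, _root_.map_inv, hχ] at this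
    rw [mul_comm (χ q), mul_inv_cancel_right] at this
    exact absurd this (by decide)
  interval_cases k
  · exact ⟨h, hA, hT⟩
  · exact absurd hconj (C.not_fused_B h⁻¹)
  · exact absurd rfl (houter 2 (by norm_num) (by rw [χ_word (rep_lw 2 (by norm_num))]; decide +kernel))
  · exact absurd hconj (C.not_fused_D h⁻¹)
  · exfalso
    rw [C.rg_four] at hT
    have h1 := hA.trans hT.symm
    have h2 : C.hom repAE = t := by simpa using h1
    have h3 := C.hom_inj (h2.trans C.hom_zc.symm)
    rw [← zc_val] at h3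
    have h4 := key_eq_of_val (a := Data.repA) (b := [0, 0]) (by decide) rfl h3
    revert h4
    decide +kernel

end CMap

end Cfsg.Lib.HNType
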