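import Cfsg.Agent.Lib.HNType.EmbG
import Cfsg.Agent.Lib.HN.Simple

/-!
# The Harada–Norton group embeds
-/

set_option autoImplicit false
set_option linter.style.haveILetI false
set_option maxRecDepth 100000

namespace Cfsg.Lib.HNType

open Cfsg.Lib.HN Cfsg.Lib.HN.Sub100 Subgroup
open Cfsg.Lib.CosetEnum (force force_eq)

variable {G : Type*} [Group G] {t : G}

/-- The facts in a case with fusion of the outer class. -/
theorem bad_spec {e : ℕ × Bool × List ℕ × List ℕ × List ℕ} (he : e ∈ EData.bad) :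
    ∃ r1 r2 : PS, pe uY bY vY e.2.2.1 = r1⁻¹ * pv (cond e.2.1 Data.repA Data.repD) * r1 ∧
      pv (imgW e.1 e.2.2.1) = r2⁻¹ * pv (cond e.2.1 Data.repD Data.repA) * r2 := by
  have h := List.all_eq_true.1 bad_ok e he
  simp only [badOK, Bool.and_eq_true] at h
  have h1 := eqE_spec h.1
  have h2 := eqE_spec h.2
  rw [pv_pathW] at h1
  simp only [pv_append, pv_winv] at h1 h2
  exact ⟨_, _, h1, h2⟩

/-- The facts in the remaining cases. -/
structure Good (q : ℕ) (k k2 : PS) : Prop where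
  k5 : k ^ 5 = 1
  k_ne : k ≠ 1
  kA : repAE * k * repAE = k⁻¹
  k25 : k2 ^ 5 = 1
  k2A : repAE * k2 * repAE = k2⁻¹
  k2_ne : ∀ i < 5, k2 ≠ k ^ i
  comm : ∀ i < 5, Commute (pv (imgW q (EData.srcP.getD i []))) k
  xrel : (pv (imgW q (EData.srcP.getD 5 [])))⁻¹ * k * pv (imgW q (EData.srcP.getD 5 [])) = k ^ 3
  zrel : (pv (imgW q (EData.srcP.getD 6 [])) * k) ^ 3 = 1
  sig : pv (imgW q (EData.srcP.getD 3 [])) = pv EData.sigW
  comm4 : Commute (pv (imgW q (EData.srcP.getD 4 []))) k2
  sig2 : Commute (pv EData.sigW) k2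
  listed : ∀ g : PS, g ^ 5 = 1 → repAE * g * repAE = g⁻¹ → Commute g (pv EData.sigW) →
    ∃ i < 5, g = k ^ i ∨ g = k2 ^ i

theorem sData_len : EData.sT0.length = 1408 ∧ (∀ i ∈ EData.sReps, i < 1408) ∧ EData.sReps.length = 3 := by
  decide +kernel

theorem good_spec {e : ℕ × List ℕ × List ℕ} (he : e ∈ EData.good) : Good e.1 (pv e.2.1) (pv e.2.2) := by
  have h := List.all_eq_true.1 good_ok e he
  simp only [goodOK, invFive, Bool.and_eq_true, List.all_eq_true] at h
  obtain ⟨⟨⟨⟨⟨⟨⟨⟨⟨⟨a1, a2⟩, b1, b2⟩, h3⟩, h4⟩, h5⟩, h6⟩, h7⟩, h8⟩, h9⟩, h10⟩ := h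
  have hk : lw e.2.1 = true := by
    have := (eqE_lw a1).1
    simp only [wpow] at this
    exact (lw_append.1 this).1
  have hk2 : lw e.2.2 = true := by
    have := (eqE_lw b1).1
    simp only [wpow] at this
    exact (lw_append.1 this).1
  have e2 := eqE_spec a2
  have f2 := eqE_spec b2
  have e6 := eqE_spec h6
  have e7 := eqE_spec h7
  have e9 := eqE_spec h9
  have e10 := eqE_spec h10
  simp only [pv_append, pv_winv, pv_wpow] at e2 f2 e6 e7 e9 e10
  refine
    { k5 := by rw [← pv_wpow]; exact eqE_spec a1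
      k_ne := eqE_ne hk rfl h4
      kA := e2
      k25 := by rw [← pv_wpow]; exact eqE_spec b1
      k2A := f2
      k2_ne := fun i hi => by
        rw [← pv_wpow]
        exact eqE_ne hk2 (lw_wpow hk i) (h3 i (List.mem_range.2 hi))
      comm := fun i hi => by
        have := eqE_spec (h5 i (List.mem_range.2 hi))
        simp only [pv_append] at this
        exact this
      xrel := e6
      zrel := e7
      sig := eqE_spec h8
      comm4 := e9
      sig2 := e10
      listed := fun g g5 gA gs => ?_ }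
  obtain ⟨lc, hrc, hlen⟩ := sData_len
  obtain ⟨j, hj, hne, s, hs, hlh, hls, rfl⟩ := cent_complete (w := EData.sigW) sFirst.2
    (T0 := dec EData.sT0) (T1 := dec EData.sT1) (p1 := 658)
    (rest := [(878, dec EData.sT2), (6, dec EData.sT3)]) sLevels_ok
    (Nat.beq_eq.mp sLevels_size) sFirst.1
    (reps := repsOf EData.sT0 EData.sReps) (stabs := EData.sStab)
    (repsOf_mem (by rw [lc]; exact hrc)) (beqN_eq sPts1_ok)
    (orb := entry EData.sOrb)
    (fun j hj => by
      rw [dec, List.length_map, lc] at hj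
      rw [dec_getD _ (by rw [lc]; exact hj)]
      refine blocks (p := orbBlock EData.sigW EData.sT0 EData.sPts1 EData.sOrb EData.sReps)
        (q := fun j => orbOK EData.sigW (unpackW 200 (EData.sT0.getD j 0)) EData.sPts1
          (repsOf EData.sT0 EData.sReps) (entry EData.sOrb j) = true) (fun b hb => ?_)
        (fun lo h k hk => by
          have := List.all_eq_true.1 h k (List.mem_range.2 hk)
          simpa [force_eq] using this) hj
      interval_cases b
      exacts [sOrb_ok0, sOrb_ok1, sOrb_ok2, sOrb_ok3, sOrb_ok4, sOrb_ok5, sOrb_ok6, sOrb_ok7,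
        sOrb_ok8, sOrb_ok9, sOrb_ok10])
    (fun i hi => by
      rw [repsOf, List.length_map, hlen] at hi
      interval_cases i
      exacts [sStab_ok0, sStab_ok1, sStab_ok2]) gs
  rw [dec, List.length_map, lc] at hj
  set w := unpackW 200 (entry EData.sOrb j / 16) ++ s
  have hw : lw w = true := lw_append.2 ⟨hlh, hls⟩
  have hl : fiveListed w = true := by
    refine blocks (p := allListed EData.sOrb EData.sStab fiveListed)
      (q := fun j => ∀ s ∈ EData.sStab.getD (entry EData.sOrb j % 16 - 1) [],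
        entry EData.sOrb j ≠ 0 → fiveListed (unpackW 200 (entry EData.sOrb j / 16) ++ s) = true)
      (fun b hb => ?_) (fun lo h k hk s hs hne => ?_) hj s hs hne
    · interval_cases b
      exacts [fiveListed_ok0, fiveListed_ok1, fiveListed_ok2, fiveListed_ok3, fiveListed_ok4,
        fiveListed_ok5, fiveListed_ok6, fiveListed_ok7, fiveListed_ok8, fiveListed_ok9, fiveListed_ok10]
    · have h1 := List.all_eq_true.1 h k (List.mem_range.2 hk)
      simp only [force_eq, Bool.or_eq_true, Nat.beq_eq, List.all_eq_true] at h1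
      exact (h1.resolve_left hne) s hs
  simp only [fiveListed, force_eq, Bool.or_eq_true, Bool.not_eq_true', List.all_eq_true,
    List.any_eq_true] at hl
  rcases hl with (hl | hl) | hl
  · rw [← pv_wpow] at g5
    rw [key_eq_of_val (b := []) (lw_wpow hw 5) rfl g5, Nat.beq_refl] at hl
    simp at hl
  · have hA : lw Data.repA = true := by decide
    rw [key_eq_of_val (a := Data.repA ++ w ++ Data.repA) (b := winv w)
      (lw_append.2 ⟨lw_append.2 ⟨hA, hw⟩, hA⟩) (lw_winv hw)
      (by simp only [pv_append, pv_winv]; exact gA), Nat.beq_refl] at hl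
    simp at hl
  · obtain ⟨x, hx, hxk⟩ := hl e he
    rw [Nat.beq_eq] at hxk
    simp only [kKeys, List.mem_append, List.mem_map, List.mem_range] at hx
    rcases hx with ⟨i, hi, rfl⟩ | ⟨i, hi, rfl⟩
    · exact ⟨i, hi, Or.inl (by rw [← pv_wpow]; exact eq_of_key hw (lw_wpow hk i) hxk)⟩
    · exact ⟨i, hi, Or.inr (by rw [← pv_wpow]; exact eq_of_key hw (lw_wpow hk2 i) hxk)⟩

/-- The facts about the change of frame and the element of order three. -/
theorem frame_spec :
    pv (EData.srcW.getD 5 []) = (pv EData.g0W)⁻¹ * wgen relP 0 * pv EData.g0W ∧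
    pv (EData.srcW.getD 6 []) = (pv EData.g0W)⁻¹ * wgen relP 2 * pv EData.g0W ∧
    pv (path4 EData.yP) = (pv EData.g0W)⁻¹ * wgen relP 1 * pv EData.g0W ∧
    pv EData.gW ^ 3 = 1 ∧ Commute (pv EData.gW) zc ∧
    pv (EData.srcW.getD 4 []) = (pv EData.gW)⁻¹ * repAE * pv EData.gW ∧
    ((pv EData.gW)⁻¹ * pv (EData.srcW.getD 3 []) * pv EData.gW = pv (EData.srcW.getD 3 []) ∨
      (pv EData.gW)⁻¹ * pv (EData.srcW.getD 3 []) * pv EData.gW =
        pv (EData.srcW.getD 3 []) * pv (EData.srcW.getD 3 [])) := by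
  have h := frame_ok
  simp only [frameOK, Bool.and_eq_true, Bool.or_eq_true] at h
  obtain ⟨⟨⟨⟨⟨⟨h1, h2⟩, h3⟩, h4⟩, h5⟩, h6⟩, h7⟩ := h
  have e1 := eqE_spec h1
  have e2 := eqE_spec h2
  have e3 := eqE_spec h3
  have e5 := eqE_spec h5
  have e6 := eqE_spec h6
  have hsing : ∀ k, pv [k] = wgen relP k := fun k => by simp [pv]
  simp only [frW, pv_append, pv_winv, hsing] at e1 e2 e3
  simp only [pv_append, pv_winv, zc_val] at e5 e6
  refine ⟨e1, e2, e3, by rw [← pv_wpow]; exact eqE_spec h4, e5, e6, ?_⟩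
  rcases h7 with h | h
  · left; have := eqE_spec h; simpa only [pv_append, pv_winv] using this
  · right; have := eqE_spec h; simpa only [pv_append, pv_winv] using this

theorem path4_comm {M : Type*} [Group M] (f : PS →* M) {d : M}
    (h : ∀ i < 3, Commute d (f (pv (EData.srcW.getD i [])))) (hg : Commute d (f (pv EData.gW))) :
    ∀ p, Commute d (f (pv (path4 p)))
  | [] => by
    rw [path4, show pv ([] : List ℕ) = 1 from rfl, map_one]
    exact Commute.one_right d
  | k :: p => by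
    rw [path4, pv_append, map_mul]
    refine Commute.mul_right ?_ (path4_comm f h hg p)
    match k with
    | 0 => exact h 0 (by norm_num)
    | 1 => exact h 1 (by norm_num)
    | 2 => exact h 2 (by norm_num)
    | 3 => exact hg
    | _ + 4 => simp [pv]

/-- An element of order three preserving two subgroups of order five centralises the first. -/
theorem three_fix_five {M : Type*} [Group M] [Finite M] {g d e : M} (g3 : g ^ 3 = 1) (d5 : d ^ 5 = 1)
    (d1 : d ≠ 1) (e5 : e ^ 5 = 1) (hde : ∀ i < 5, e ≠ d ^ i)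
    (hd : ∃ i < 5, g * d * g⁻¹ = d ^ i ∨ g * d * g⁻¹ = e ^ i)
    (he : ∃ i < 5, g * e * g⁻¹ = d ^ i ∨ g * e * g⁻¹ = e ^ i) : Commute g d := by
  have h3 : g * (g * (g * d * g⁻¹) * g⁻¹) * g⁻¹ = d := by
    calc g * (g * (g * d * g⁻¹) * g⁻¹) * g⁻¹ = g ^ 3 * d * (g ^ 3)⁻¹ := by
          simp [pow_succ, mul_assoc]
      _ = d := by rw [g3]; group
  have hpow : ∀ m, d ≠ e ^ m := by
    intro m hm
    have hm0 : e ^ (m % 5) = d := by rw [← pow_eq_pow_mod m e5]; exact hm.symm
    have hm5 : m % 5 < 5 := Nat.mod_lt _ (by norm_num)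
    have key : ∀ a b, a < 5 → (a * b) % 5 = 1 → e ^ a = d → False := by
      intro a b _ hab h
      refine hde (b % 5) (Nat.mod_lt _ (by norm_num)) ?_
      rw [← pow_eq_pow_mod b d5, ← h, ← pow_mul, pow_eq_pow_mod _ e5, hab, pow_one]
    interval_cases hq : m % 5
    · exact d1 (by rw [← hm0, pow_zero])
    · exact key 1 1 (by norm_num) rfl hm0
    · exact key 2 3 (by norm_num) rfl hm0
    · exact key 3 2 (by norm_num) rfl hm0
    · exact key 4 4 (by norm_num) rfl hm0
  obtain ⟨i, hi, hdi | hdi⟩ := hd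
  · have : d ^ (i ^ 3) = d := by
      calc d ^ (i ^ 3) = ((d ^ i) ^ i) ^ i := by rw [← pow_mul, ← pow_mul]; congr 1; ring
        _ = g * (g * (g * d * g⁻¹) * g⁻¹) * g⁻¹ := by
          simp only [hdi, ← conj_pow, ← pow_mul]
          rw [mul_assoc]
        _ = d := h3
    rw [pow_eq_pow_mod _ d5] at this
    refine commute_of_conj ?_
    rw [hdi]
    interval_cases i
    · rw [show (0 : ℕ) ^ 3 % 5 = 0 by norm_num, pow_zero] at this
      exact absurd this.symm d1
    · rw [pow_one]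
    · rw [show (2 : ℕ) ^ 3 % 5 = 3 by norm_num] at this
      exact absurd (show d = 1 by
        calc d = (d ^ 3 * d⁻¹) ^ 3 * (d ^ 5)⁻¹ := by group
          _ = 1 := by rw [this, d5]; simp) d1
    · rw [show (3 : ℕ) ^ 3 % 5 = 2 by norm_num] at this
      exact absurd (show d = 1 by
        calc d = d ^ 2 * d⁻¹ := by group
          _ = 1 := by rw [this]; simp) d1
    · rw [show (4 : ℕ) ^ 3 % 5 = 4 by norm_num] at this
      exact absurd (show d = 1 by
        calc d = (d ^ 4 * d⁻¹) ^ 2 * (d ^ 5)⁻¹ := by group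
          _ = 1 := by rw [this, d5]; simp) d1
  · exfalso
    obtain ⟨j, hj, hej | hej⟩ := he
    · refine hpow (i * j * i) ?_
      calc d = g * (g * (g * d * g⁻¹) * g⁻¹) * g⁻¹ := h3.symm
        _ = e ^ (i * j * i) := by
          simp only [hdi, hej, ← conj_pow, ← pow_mul]
          congr 1
          ring
    · refine hpow (i * j * j) ?_
      calc d = g * (g * (g * d * g⁻¹) * g⁻¹) * g⁻¹ := h3.symm
        _ = e ^ (i * j * j) := by
          simp only [hdi, hej, ← conj_pow, ← pow_mul]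
          congr 1
          ring

namespace CMap

variable [Finite G] (C : CMap t false)

/-- A swap of `t` and `A` acting as in one of the cases without fusion of the outer class. -/
theorem exists_good [IsSimpleGroup G] : ∃ (h' : G), ∃ e ∈ EData.good,
    h' * C.hom repAE * h'⁻¹ = t ∧ h' * t * h'⁻¹ = C.hom repAE ∧
      ∀ p, h' * C.hom (pe uY bY vY p) * h'⁻¹ = C.hom (pv (imgW e.1 p)) := by
  obtain ⟨h, hA, hT⟩ := C.exists_swapA
  have hex : ∀ p : PS, Commute p repAE →
      ∃ q : PS, Commute q repAE ∧ C.hom q = h * C.hom p * h⁻¹ := by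
    intro p hp
    have h1 : Commute (h * C.hom p * h⁻¹) t := by
      have := (Commute.conj_iff h).2 (C.commute_hom_iff.2 hp)
      rwa [hA] at this
    obtain ⟨q, hq⟩ := C.hom_pre h1
    refine ⟨q, C.commute_hom_iff.1 ?_, hq⟩
    rw [hq]
    have := (Commute.conj_iff h).2 (C.hom_comm_t p)
    rwa [hT] at this
  obtain ⟨u, hu, hu'⟩ := hex uY (src.comm _ (by simp))
  obtain ⟨b, hb, hb'⟩ := hex bY (src.comm _ (by simp))
  obtain ⟨v, hv, hv'⟩ := hex vY (src.comm _ (by simp))
  have hmap : ∀ (a b' c : PS) (p : List ℕ) (x y w : PS), C.hom a = h * C.hom x * h⁻¹ →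
      C.hom b' = h * C.hom y * h⁻¹ → C.hom c = h * C.hom w * h⁻¹ →
      C.hom (pe a b' c p) = h * C.hom (pe x y w p) * h⁻¹ := by
    intro a b' c p x y w ha hb hc
    rw [map_pe, ha, hb, hc, map_pe C.hom x y w]
    exact (map_pe (MulAut.conj h).toMonoidHom (C.hom x) (C.hom y) (C.hom w) p).symm
  have hone : C.hom 1 = h * C.hom 1 * h⁻¹ := by rw [_root_.map_one]; group
  have h2 : ∀ p, pe uY bY 1 p = 1 → pe u b 1 p = 1 := fun p hp => C.hom_inj (by
    rw [hmap _ _ _ p _ _ _ hu' hb' hone, hp, ← hone])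
  have h3 : ∀ p, pe uY bY vY p = 1 → pe u b v p = 1 := fun p hp => C.hom_inj (by
    rw [hmap _ _ _ p _ _ _ hu' hb' hv', hp, ← hone])
  have u5 : u ^ 5 = 1 := C.hom_inj (by
    rw [_root_.map_pow, hu', conj_pow, ← _root_.map_pow, src.u5, ← hone])
  have u1 : u ≠ 1 := fun e => src.u_ne (C.hom_inj (by
    rw [e, _root_.map_one] at hu'
    rw [_root_.map_one]
    exact conj_eq_one_iff.1 hu'.symm))
  have b2 : b * b = zc := C.hom_inj (by
    rw [_root_.map_mul, hb', ← cjm, ← _root_.map_mul, src.bb, hA, C.hom_zc])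
  have v2 : v * v = repAE := C.hom_inj (by
    rw [_root_.map_mul, hv', ← cjm, ← _root_.map_mul, src.vv, C.hom_zc, hT])
  obtain ⟨c, hc, q, hq, e1, e2, e3⟩ := search hu hb hv u5 u1 b2 v2 h2 h3
  -- adjust the swap
  set K := C.hom c with hKdef
  set h' := K * h with hh'
  have hKt : Commute K t := C.hom_comm_t c
  have hA' : h' * C.hom repAE * h'⁻¹ = t := by
    rw [hh', show K * h * C.hom repAE * (K * h)⁻¹ = K * (h * C.hom repAE * h⁻¹) * K⁻¹ by group, hA,
      conj_eq_self hKt]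
  have hT' : h' * t * h'⁻¹ = C.hom repAE := by
    rw [hh', show K * h * t * (K * h)⁻¹ = K * (h * t * h⁻¹) * K⁻¹ by group, hT,
      conj_eq_self (C.commute_hom_iff.2 hc)]
  have hsrc : ∀ p, h' * C.hom (pe uY bY vY p) * h'⁻¹ = C.hom (pv (imgW q p)) := by
    intro p
    have hpe : pe (c * u * c⁻¹) (c * b * c⁻¹) (c * v * c⁻¹) p = c * pe u b v p * c⁻¹ :=
      ((map_pe (MulAut.conj c).toMonoidHom u b v p).trans rfl).symm
    rw [imgW, pv_pathW]
    conv_rhs => rw [show pv EData.uW = c * u * c⁻¹ from e1.symm, ← e2, ← e3, hpe]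
    rw [_root_.map_mul, _root_.map_mul, _root_.map_inv, hmap _ _ _ p _ _ _ hu' hb' hv', hh', hKdef]
    group
  have hcases := List.all_eq_true.1 cases_ok q (List.mem_range.2 hq)
  simp only [Bool.or_eq_true, List.any_eq_true, Nat.beq_eq] at hcases
  rcases hcases with ⟨e, he, rfl⟩ | ⟨e, he, rfl⟩
  swap
  · exact ⟨h', e, he, hA', hT', hsrc⟩
  · exfalso
    obtain ⟨r1, r2, hr1, hr2⟩ := bad_spec he
    have hconj : h' * C.hom (r1⁻¹ * pv (cond e.2.1 Data.repA Data.repD) * r1) * h'⁻¹ =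
        C.hom (r2⁻¹ * pv (cond e.2.1 Data.repD Data.repA) * r2) := by
      rw [← hr1, hsrc, hr2]
    obtain ⟨gA, hgA⟩ := C.A_fused_of_simple
    rw [C.rg_zero] at hgA
    simp only [_root_.map_mul, _root_.map_inv] at hconj
    cases hbool : e.2.1
    · rw [hbool, cond_false, cond_false] at hconj
      refine C.not_fused_D (gA * C.hom r2 * h' * (C.hom r1)⁻¹) (Eq.trans ?_ hgA)
      rw [C.rg_eq, show rep 3 = Data.repD from rfl,
        show C.hom repAE = C.hom r2 * ((C.hom r2)⁻¹ * C.hom (pv Data.repA) * C.hom r2) * (C.hom r2)⁻¹ by group,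
        ← hconj]
      group
    · rw [hbool, cond_true, cond_true] at hconj
      refine C.not_fused_D (gA * C.hom r1 * h'⁻¹ * (C.hom r2)⁻¹) (Eq.trans ?_ hgA)
      rw [C.rg_eq, show rep 3 = Data.repD from rfl,
        show C.hom (pv Data.repD) = C.hom r2 * ((C.hom r2)⁻¹ * C.hom (pv Data.repD) * C.hom r2) * (C.hom r2)⁻¹ by group,
        ← hconj]
      group

/-- An element satisfying the relations of the fourth generator. -/
theorem exists_fourth [IsSimpleGroup G] : ∃ d : G, d ^ 5 = 1 ∧ d ≠ 1 ∧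
    (C.hom (wgen relP 0))⁻¹ * d * C.hom (wgen relP 0) * d ^ 2 = 1 ∧
    Commute d (C.hom (wgen relP 1)) ∧ (C.hom (wgen relP 2) * d) ^ 3 = 1 := by
  obtain ⟨h', e, he, hA', hT', hsrc⟩ := C.exists_good
  -- the element
  have Gd := good_spec he
  set k := pv e.2.1
  set k2 := pv e.2.2
  set g := C.hom (pv EData.gW) with hgdef
  obtain ⟨fx, fz, fy, g3', gz, gA, gs⟩ := frame_spec
  have hback : ∀ p : PS, h'⁻¹ * C.hom p * h'⁻¹⁻¹ = h'⁻¹ * C.hom p * h' := fun p => by rw [inv_inv]
  set d := h'⁻¹ * C.hom k * h' with hd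
  set d2 := h'⁻¹ * C.hom k2 * h' with hd2
  have himg : ∀ i < 7, h' * C.hom (pv (EData.srcW.getD i [])) * h'⁻¹ =
      C.hom (pv (imgW e.1 (EData.srcP.getD i []))) := fun i hi => by rw [← src.src i hi, hsrc]
  have hto : ∀ (x : PS) (w : G), h' * w * h'⁻¹ = C.hom x → w = h'⁻¹ * C.hom x * h'⁻¹⁻¹ := fun x w e => by
    rw [← e]; group
  have ht_eq : t = h'⁻¹ * C.hom repAE * h'⁻¹⁻¹ := by
    calc t = h'⁻¹ * (h' * t * h'⁻¹) * h'⁻¹⁻¹ := by group
      _ = _ := by rw [hT']
  have hinv : ∀ x : PS, repAE * x * repAE = x⁻¹ →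
      t * (h'⁻¹ * C.hom x * h'⁻¹⁻¹) * t⁻¹ = (h'⁻¹ * C.hom x * h'⁻¹⁻¹)⁻¹ := by
    intro x hx
    rw [C.t_inv]
    refine (congrArg (fun s => s * (h'⁻¹ * C.hom x * h'⁻¹⁻¹) * s) ht_eq).trans ?_
    rw [← cjm, ← cjm, ← _root_.map_mul, ← _root_.map_mul, hx, conj_inv, _root_.map_inv]
  have five : ∀ x : PS, x ^ 5 = 1 → (h'⁻¹ * C.hom x * h'⁻¹⁻¹) ^ 5 = 1 := fun x hx => by
    rw [conj_pow, ← _root_.map_pow, hx, _root_.map_one, mul_one, mul_inv_cancel]
  have hd' : d = h'⁻¹ * C.hom k * h'⁻¹⁻¹ := by rw [hd, inv_inv]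
  have hd2' : d2 = h'⁻¹ * C.hom k2 * h'⁻¹⁻¹ := by rw [hd2, inv_inv]
  have hcom : ∀ (i : ℕ) (x : PS), i < 7 → Commute (pv (imgW e.1 (EData.srcP.getD i []))) x →
      Commute (h'⁻¹ * C.hom x * h'⁻¹⁻¹) (C.hom (pv (EData.srcW.getD i []))) := by
    intro i x hi hx
    rw [hto _ _ (himg i hi)]
    exact (Commute.conj_iff h'⁻¹).2 (C.commute_hom_iff.2 hx.symm)
  have hcs : ∀ i < 5, Commute d (C.hom (pv (EData.srcW.getD i []))) := fun i hi => by
    rw [hd']; exact hcom i k (by omega) (Gd.comm i hi)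
  have g3 : g ^ 3 = 1 := by rw [hgdef, ← _root_.map_pow, g3', _root_.map_one]
  have hgt : Commute g t := C.hom_comm_t _
  -- the conjugates by the element of order three
  have hcl : ∀ w : G, w ^ 5 = 1 → t * w * t⁻¹ = w⁻¹ →
      Commute w (C.hom (pv (EData.srcW.getD 4 []))) → Commute w (C.hom (pv (EData.srcW.getD 3 []))) →
      ∃ i < 5, g * w * g⁻¹ = d ^ i ∨ g * w * g⁻¹ = d2 ^ i := by
    intro w w5 wt w4 w3
    set s := C.hom (pv (EData.srcW.getD 3 [])) with hs
    have hwA : Commute (g * w * g⁻¹) (C.hom repAE) := by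
      have := (Commute.conj_iff g).2 w4
      rw [gA, _root_.map_mul, _root_.map_mul, _root_.map_inv, ← hgdef,
        show g * (g⁻¹ * C.hom repAE * g) * g⁻¹ = C.hom repAE by group] at this
      exact this
    have hws : Commute (g * w * g⁻¹) s := by
      have hgs : Commute w (g⁻¹ * s * g) := by
        rcases gs with e | e
        · have := congrArg C.hom e
          rw [_root_.map_mul, _root_.map_mul, _root_.map_inv, ← hgdef, ← hs] at this
          rw [this]; exact w3
        · have := congrArg C.hom e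
          rw [_root_.map_mul, _root_.map_mul, _root_.map_inv, _root_.map_mul, ← hgdef, ← hs] at this
          rw [this]; exact w3.mul_right w3
      have := (Commute.conj_iff g).2 hgs
      rwa [show g * (g⁻¹ * s * g) * g⁻¹ = s by group] at this
    have hk : Commute (h' * (g * w * g⁻¹) * h'⁻¹) t := by
      have := (Commute.conj_iff h').2 hwA
      rwa [hA'] at this
    obtain ⟨p, hp⟩ := C.hom_pre hk
    have p5 : p ^ 5 = 1 := C.hom_inj (by
      rw [_root_.map_pow, hp, conj_pow, conj_pow, w5, _root_.map_one]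
      group)
    have pA : repAE * p * repAE = p⁻¹ := C.hom_inj (by
      have h1 : t * (g * w * g⁻¹) * t = g * w⁻¹ * g⁻¹ := by
        rw [← wt, C.t_inv]
        calc t * (g * w * g⁻¹) * t = (t * g) * w * (g⁻¹ * t) := by group
          _ = g * (t * w * t) * g⁻¹ := by rw [← hgt.eq, hgt.inv_left.eq]; group
      rw [_root_.map_mul, _root_.map_mul, _root_.map_inv, hp, ← hT', ← cjm, ← cjm, h1]
      group)
    have ps : Commute p (pv EData.sigW) := C.commute_hom_iff.1 (by
      rw [hp, ← Gd.sig, ← himg 3 (by norm_num)]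
      exact (Commute.conj_iff h').2 hws)
    obtain ⟨i, hi, hpi⟩ := Gd.listed p p5 pA ps
    refine ⟨i, hi, ?_⟩
    have hgw : g * w * g⁻¹ = h'⁻¹ * C.hom p * h'⁻¹⁻¹ := hto p _ hp.symm
    rcases hpi with e | e <;> rw [hgw, e, _root_.map_pow, hd', hd2', conj_pow, conj_pow]
    · exact Or.inl rfl
    · exact Or.inr rfl
  have hd5 : d ^ 5 = 1 := by rw [hd']; exact five k Gd.k5
  have hd1 : d ≠ 1 := by
    rw [hd', Ne, conj_eq_one_iff, ← C.hom.map_one]
    exact fun e => Gd.k_ne (C.hom_inj e)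
  have hgd : Commute g d := by
    refine three_fix_five g3 hd5 hd1 (by rw [hd2']; exact five k2 Gd.k25) (fun i hi hii => ?_)
      (hcl d hd5 (by rw [hd']; exact hinv k Gd.kA) (hcs 4 (by norm_num)) (hcs 3 (by norm_num)))
      (hcl d2 (by rw [hd2']; exact five k2 Gd.k25) (by rw [hd2']; exact hinv k2 Gd.k2A)
        (by rw [hd2']; exact hcom 4 k2 (by norm_num) Gd.comm4)
        (by rw [hd2']; exact hcom 3 k2 (by norm_num) (by rw [Gd.sig]; exact Gd.sig2)))
    rw [hd', hd2', conj_pow, ← _root_.map_pow] at hii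
    exact Gd.k2_ne i hi (C.hom_inj (mul_left_cancel (mul_right_cancel hii)))
  have hy := path4_comm C.hom (fun i hi => hcs i (by omega)) hgd.symm EData.yP
  -- back to the original frame
  set R := C.hom (pv EData.g0W) with hR
  refine ⟨R * d * R⁻¹, by rw [conj_pow, hd5, mul_one, mul_inv_cancel],
    by rw [Ne, conj_eq_one_iff]; exact hd1, ?_, ?_, ?_⟩
  · have hX : (C.hom (pv (EData.srcW.getD 5 [])))⁻¹ * d * C.hom (pv (EData.srcW.getD 5 [])) = d ^ 3 := by
      rw [hto _ _ (himg 5 (by norm_num)), hd', conj_inv, ← cjm, ← cjm, conj_pow, ← _root_.map_inv,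
        ← _root_.map_mul, ← _root_.map_mul, ← _root_.map_pow, Gd.xrel]
    rw [fx, _root_.map_mul, _root_.map_mul, _root_.map_inv, ← hR] at hX
    set X := C.hom (wgen relP 0)
    rw [conj_pow]
    calc X⁻¹ * (R * d * R⁻¹) * X * (R * d ^ 2 * R⁻¹) =
        R * ((R⁻¹ * X * R)⁻¹ * d * (R⁻¹ * X * R) * d ^ 2) * R⁻¹ := by group
      _ = 1 := by rw [hX, ← pow_add, hd5]; group
  · rw [fy, _root_.map_mul, _root_.map_mul, _root_.map_inv, ← hR] at hy
    have := (Commute.conj_iff R).2 hy
    rwa [show R * (R⁻¹ * C.hom (wgen relP 1) * R) * R⁻¹ = C.hom (wgen relP 1) by group] at this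
  · have hZ : (C.hom (pv (EData.srcW.getD 6 [])) * d) ^ 3 = 1 := by
      rw [hto _ _ (himg 6 (by norm_num)), hd', ← cjm, conj_pow, ← _root_.map_mul, ← _root_.map_pow,
        Gd.zrel, _root_.map_one]
      group
    rw [fz, _root_.map_mul, _root_.map_mul, _root_.map_inv, ← hR] at hZ
    set Z := C.hom (wgen relP 2)
    rw [show Z * (R * d * R⁻¹) = R * (R⁻¹ * Z * R * d) * R⁻¹ by group, conj_pow, hZ]
    group

end CMap

end Cfsg.Lib.HNType
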