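import Cfsg.Agent.Lib.HNType.Sylow
import Cfsg.Agent.Lib.Invol.Isolated
import Cfsg.Agent.Lib.ZStar.Main

/-!
# Involution classes of the centraliser and first steps of the fusion
-/

set_option autoImplicit false
set_option maxRecDepth 100000

namespace Cfsg.Lib.HNType

open Cfsg.Lib.HN Cfsg.Lib.HN.Sub100 Subgroup

variable {G : Type*} [Group G] {t : G} {tw : Bool}

namespace CMap

variable (C : CMap t tw)

theorem mul_of_inner_right {a b : PS} (h : χ b = 1) : C.e a * C.e b = C.e (a * b) := by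
  rw [C.map_mul, cor, if_neg, mul_one]
  rintro ⟨-, -, h'⟩
  rw [h] at h'
  exact absurd h' (by decide)

theorem mul_of_inner_left {a b : PS} (h : χ a = 1) : C.e a * C.e b = C.e (a * b) := by
  rw [C.map_mul, cor, if_neg, mul_one]
  rintro ⟨-, h', -⟩
  rw [h] at h'
  exact absurd h' (by decide)

theorem map_one : C.e 1 = 1 := by
  have h := C.mul_of_inner_right (a := 1) (b := 1) χ.map_one
  rw [one_mul] at h
  exact mul_eq_left.1 h

theorem mul_false {a b : PS} (C : CMap t false) : C.e a * C.e b = C.e (a * b) := by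
  rw [C.map_mul, cor, if_neg (fun h => Bool.false_ne_true h.1), mul_one]

/-- Conjugates of an element with the same parity rule. -/
theorem conj_eq {a r : PS} (h : tw = false ∨ χ r = 1) :
    C.e (a⁻¹ * r * a) = (C.e a)⁻¹ * C.e r * C.e a := by
  have h1 : C.e a * C.e (a⁻¹ * r * a) = C.e (r * a) ∧ C.e r * C.e a = C.e (r * a) := by
    rcases h with rfl | h
    · exact ⟨by rw [C.mul_false]; congr 1; group, C.mul_false⟩
    · refine ⟨?_, C.mul_of_inner_left h⟩
      have hχ : χ (a⁻¹ * r * a) = 1 := by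
        rw [_root_.map_mul, _root_.map_mul, _root_.map_inv, h, mul_one, inv_mul_cancel]
      rw [C.mul_of_inner_right hχ]
      congr 1; group
  rw [mul_assoc ((C.e a)⁻¹), h1.2, ← h1.1, inv_mul_cancel_left]

theorem pres_card [Finite G] (C : CMap t tw) : Nat.card (centralizer ({t} : Set G)) = 177408000 := by
  rw [← PS_base.1]
  refine (Nat.card_congr (Equiv.ofBijective
    (fun a : PS => (⟨C.e a, mem_centralizer_singleton_iff.2 (C.mem a).eq⟩ : centralizer ({t} : Set G)))
    ⟨fun a b h => C.inj (congrArg Subtype.val h), fun g => ?_⟩)).symm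
  obtain ⟨a, ha⟩ := C.surj g.1 (mem_centralizer_singleton_iff.1 g.2)
  exact ⟨a, Subtype.ext ha⟩

theorem el_mem_range {x : G} {i : ℕ} (hi : i < 2048) (h : C.e (el i) = x) :
    ∃ j : Fin 2048, C.e (el j.1) = x := ⟨⟨i, hi⟩, h⟩

/-- The Sylow 2-subgroup. -/
noncomputable def syl [Finite G] (C : CMap t tw) : Subgroup G where
  carrier := {x | ∃ i : Fin 2048, C.e (el i.1) = x}
  one_mem' := ⟨⟨0, by norm_num⟩, by rw [el_zero, C.map_one]⟩
  mul_mem' := by
    rintro _ _ ⟨i, rfl⟩ ⟨j, rfl⟩
    obtain ⟨h1, h2⟩ := el_mul i.2 j.2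
    rw [C.map_mul, h2, cor]
    split_ifs
    · obtain ⟨h3, h4⟩ := el_mul zIdx_lt h1
      refine C.el_mem_range h3 ?_
      rw [← h4, el_zIdx, (zc_comm _).eq]
    · exact C.el_mem_range h1 (by rw [mul_one])
  inv_mem' := by
    rintro x hx
    have key : ∀ n : ℕ, x ^ n ∈ {x | ∃ i : Fin 2048, C.e (el i.1) = x} := by
      intro n
      induction n with
      | zero => exact ⟨⟨0, by norm_num⟩, by rw [el_zero, C.map_one, pow_zero]⟩
      | succ n ih =>
        obtain ⟨i, hi⟩ := ih
        obtain ⟨j, hj⟩ := hx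
        obtain ⟨h1, h2⟩ := el_mul i.2 j.2
        rw [pow_succ, ← hi, ← hj, C.map_mul, h2, cor]
        split_ifs
        · obtain ⟨h3, h4⟩ := el_mul zIdx_lt h1
          refine C.el_mem_range h3 ?_
          rw [← h4, el_zIdx, (zc_comm _).eq]
        · exact C.el_mem_range h1 (by rw [mul_one])
    rw [show x⁻¹ = x ^ (orderOf x - 1) from ?_]
    · exact key _
    · refine inv_eq_of_mul_eq_one_right ?_
      rw [← pow_succ', Nat.sub_add_cancel (orderOf_pos x), pow_orderOf_eq_one]

theorem mem_syl [Finite G] {x : G} : x ∈ C.syl ↔ ∃ i : Fin 2048, C.e (el i.1) = x := Iff.rfl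

theorem card_syl [Finite G] : Nat.card C.syl = 2048 := by
  rw [← Nat.card_fin 2048]
  refine (Nat.card_congr (Equiv.ofBijective
    (fun i : Fin 2048 => (⟨C.e (el i.1), i, rfl⟩ : C.syl))
    ⟨fun i j h => Fin.ext (el_inj i.2 j.2 (C.inj (congrArg Subtype.val h))), fun x => ?_⟩)).symm
  obtain ⟨i, hi⟩ := x.2
  exact ⟨i, Subtype.ext hi⟩

theorem syl_le [Finite G] : C.syl ≤ centralizer ({t} : Set G) := by
  rintro _ ⟨i, rfl⟩
  exact mem_centralizer_singleton_iff.2 (C.mem _).eq

/-- A 2-subgroup of the centraliser is conjugate into the Sylow subgroup. -/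
theorem exists_conj_le [Finite G] (P : Subgroup G) (hP : IsPGroup 2 P)
    (hle : P ≤ centralizer ({t} : Set G)) : ∃ c : G, Commute c t ∧ ∀ x ∈ P, c * x * c⁻¹ ∈ C.syl := by
  haveI : Fact (Nat.Prime 2) := ⟨Nat.prime_two⟩
  set CC := centralizer ({t} : Set G)
  have hS : Nat.card (C.syl.subgroupOf CC) = 2 ^ (Nat.card CC).factorization 2 := by
    rw [Nat.card_congr (Subgroup.subgroupOfEquivOfLe C.syl_le).toEquiv, C.card_syl, C.pres_card,
      show (177408000 : ℕ).factorization 2 = 11 by
        rw [show (177408000 : ℕ) = 2 ^ 11 * 86625 by norm_num, Nat.factorization_mul (by norm_num)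
          (by norm_num), Nat.Prime.factorization_pow Nat.prime_two, Finsupp.add_apply,
          Finsupp.single_eq_same, Nat.factorization_eq_zero_of_not_dvd (by norm_num)]]
    norm_num
  obtain ⟨Q, hQ⟩ := (hP.comap_of_injective CC.subtype CC.subtype_injective).exists_le_sylow
  obtain ⟨g, hg⟩ := MulAction.exists_smul_eq CC Q (Sylow.ofCard _ hS)
  refine ⟨g.1, mem_centralizer_singleton_iff.1 g.2, fun x hx => ?_⟩
  have h1 : (MulAut.conj g) ⟨x, hle hx⟩ ∈ ((g • Q : Sylow 2 CC) : Subgroup CC) :=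
    Subgroup.smul_mem_pointwise_smul _ _ _ (hQ (show (⟨x, hle hx⟩ : CC) ∈ P.comap CC.subtype from hx))
  rw [hg] at h1
  exact h1

theorem syl_two [Finite G] : IsPGroup 2 C.syl :=
  IsPGroup.of_card (n := 11) (by rw [C.card_syl]; norm_num)

/-- The five named involutions. -/
noncomputable def rg (k : ℕ) : G := C.e (pv (rep k))

theorem rep_lw : ∀ k, k < 5 → lw (rep k) = true := by decide +kernel

theorem inv_cover [Finite G] {u : G} (hu : u * u = 1) (hu1 : u ≠ 1) (hut : Commute u t) :
    ∃ c : G, Commute c t ∧ ∃ k, k < 5 ∧ (tw = true → k < 2 ∨ k = 4) ∧ c * u * c⁻¹ = C.rg k := by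
  haveI : Fact (Nat.Prime 2) := ⟨Nat.prime_two⟩
  have hord : orderOf u = 2 := orderOf_eq_prime (by rw [pow_two, hu]) hu1
  obtain ⟨c, hc, hcm⟩ := C.exists_conj_le (zpowers u)
    (IsPGroup.of_card (n := 1) (by rw [Nat.card_zpowers, hord, pow_one]))
    (zpowers_le.2 (mem_centralizer_singleton_iff.2 hut.eq))
  obtain ⟨i, hi⟩ := hcm u (mem_zpowers u)
  obtain ⟨h1, h2⟩ := sqIdx_spec tw i.2
  have hsq : el (sqIdx tw i.1) = el 0 := by
    refine C.inj ?_
    rw [h2, el_zero, C.map_one, ← C.map_mul, hi,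
      show c * u * c⁻¹ * (c * u * c⁻¹) = c * (u * u) * c⁻¹ by group, hu]
    group
  have hsq0 : sqIdx tw i.1 = 0 := el_inj h1 (by norm_num) hsq
  have hcv := List.all_eq_true.1 cover_ok i.1 (List.mem_range.2 i.2)
  simp only [Bool.and_eq_true] at hcv
  have hcv' : invCoverOK tw i.1 = true := by cases tw; exacts [hcv.2, hcv.1]
  simp only [invCoverOK, Cfsg.Lib.CosetEnum.force_eq, hsq0, Bool.or_eq_true, Bool.not_eq_true',
    Nat.beq_eq, List.any_eq_true] at hcv'
  rcases hcv' with (hcv' | hcv') | ⟨e, he, hei⟩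
  · simp at hcv'
  · exfalso
    rw [hcv', el_zero, C.map_one] at hi
    exact hu1 (by rw [show u = c⁻¹ * (c * u * c⁻¹) * c by group, ← hi]; group)
  · have hok := List.all_eq_true.1 invs_ok e he
    simp only [invEntryOK, Bool.and_eq_true, Nat.beq_eq, Nat.blt_eq] at hok
    obtain ⟨⟨⟨he1, he2⟩, hew⟩, hkey⟩ := hok
    rw [hei] at hkey he1
    have hel : el i.1 = (pv e.2.2)⁻¹ * pv (rep e.2.1) * pv e.2.2 := by
      rw [el_of_key he1 (lw_append.2 ⟨lw_append.2 ⟨lw_winv hew, rep_lw _ he2⟩, hew⟩) hkey.symm,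
        pv_append, pv_append, pv, val_winv (wgen_inv relP)]
    have hpar : tw = true → χ (pv (rep e.2.1)) = 1 := by
      intro htw
      have h3 := List.all_eq_true.1 invs_inner e he
      simp only [hei, beq_iff_eq] at h3
      have h4 := List.all_eq_true.1 twInner_ok i.1 (List.mem_range.2 i.2)
      subst htw
      simp only [twInnerOK, hsq0, Nat.beq_eq, Bool.or_eq_true, Bool.not_eq_true'] at h4
      rw [χ_word (rep_lw _ he2), h3, h4.resolve_left (by simp)]
      rfl
    have hr : tw = false ∨ χ (pv (rep e.2.1)) = 1 := by cases tw; exacts [Or.inl rfl, Or.inr (hpar rfl)]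
    refine ⟨C.e (pv e.2.2) * c, (C.mem _).mul_left hc, e.2.1, he2, fun htw => ?_, ?_⟩
    · have h5 := hpar htw
      by_contra hne
      have : e.2.1 = 2 ∨ e.2.1 = 3 := by omega
      rcases this with h6 | h6 <;> rw [h6, χ_word (rep_lw _ (by norm_num))] at h5 <;>
        exact absurd h5 (by decide +kernel)
    · rw [rg, mul_inv_rev, show C.e (pv e.2.2) * c * u * (c⁻¹ * (C.e (pv e.2.2))⁻¹) =
        C.e (pv e.2.2) * (c * u * c⁻¹) * (C.e (pv e.2.2))⁻¹ by group, ← hi, hel, C.conj_eq hr]
      group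

theorem rg_four : C.rg 4 = t := by
  rw [rg, show rep 4 = [0, 0] from rfl, zc_val, C.map_zc]

theorem rg_el : C.rg 0 = C.e (el 1331) ∧ C.rg 1 = C.e (el 2014) := by
  have h := idx_ok
  simp only [Bool.and_eq_true, Nat.beq_eq, decide_eq_true_eq] at h
  exact ⟨by rw [el_of_key (by norm_num) (by decide) h.1.2]; rfl,
    by rw [el_of_key (by norm_num) (by decide) h.2]; rfl⟩

theorem roots_card [Finite G] {j : ℕ} (hj : j < 2048) :
    Nat.card {x : C.syl // (x : G) * x = C.e (el j)} = roots tw j := by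
  classical
  rw [roots, ← List.toFinset_card_of_nodup (List.Nodup.filter _ List.nodup_range),
    ← Nat.card_eq_finsetCard]
  symm
  refine Nat.card_congr (Equiv.ofBijective (fun i => ⟨⟨C.e (el i.1), ⟨i.1, ?_⟩, rfl⟩, ?_⟩) ⟨?_, ?_⟩)
  · have := i.2
    simp only [List.mem_toFinset, List.mem_filter, List.mem_range] at this
    exact this.1
  · have := i.2
    simp only [List.mem_toFinset, List.mem_filter, List.mem_range, Nat.beq_eq] at this
    show C.e (el i.1) * C.e (el i.1) = _
    rw [C.map_mul, ← (sqIdx_spec tw this.1).2, this.2]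
  · intro a b hab
    have ha := a.2
    have hb := b.2
    simp only [List.mem_toFinset, List.mem_filter, List.mem_range] at ha hb
    exact Subtype.ext (el_inj ha.1 hb.1 (C.inj (congrArg (fun x => (x.1.1 : G)) hab)))
  · rintro ⟨⟨x, i, hix⟩, hx⟩
    refine ⟨⟨i.1, ?_⟩, Subtype.ext (Subtype.ext hix)⟩
    simp only [List.mem_toFinset, List.mem_filter, List.mem_range, Nat.beq_eq]
    refine ⟨i.2, el_inj (sqIdx_spec tw i.2).1 hj (C.inj ?_)⟩
    rw [(sqIdx_spec tw i.2).2, ← C.map_mul, hix]
    exact hx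

theorem central_of_check {j : ℕ} (hj : j < 2048) (hχ : χ (el j) = 1)
    (h : ((List.range 2048).all fun i =>
      Nat.beq (mulPath (row j).2.1 i) (mulPath (row i).2.1 j)) = true) (i : Fin 2048) :
    Commute (C.e (el j)) (C.e (el i.1)) := by
  show _ * _ = _ * _
  have := List.all_eq_true.1 h i.1 (List.mem_range.2 i.2)
  rw [C.mul_of_inner_left hχ, C.mul_of_inner_right hχ, (el_mul hj i.2).2, (el_mul i.2 hj).2,
    Nat.beq_eq.mp this]

/-- A central element of the Sylow subgroup with another number of square roots is not fused to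
`t`. -/
theorem not_fused [Finite G] {j : ℕ} (hj : j < 2048)
    (hc : ∀ i : Fin 2048, Commute (C.e (el j)) (C.e (el i.1)))
    (hr : roots tw j ≠ roots tw zIdx) (g : G) : g * C.e (el j) * g⁻¹ ≠ t := by
  intro hg
  haveI : Fact (Nat.Prime 2) := ⟨Nat.prime_two⟩
  set P := C.syl.map (MulAut.conj g).toMonoidHom
  have hP : IsPGroup 2 P := C.syl_two.map _
  have hle : P ≤ centralizer ({t} : Set G) := by
    rintro _ ⟨x, ⟨i, rfl⟩, rfl⟩
    have h := (Commute.conj_iff g).2 (hc i)
    rw [hg] at h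
    exact mem_centralizer_singleton_iff.2 h.symm.eq
  obtain ⟨c, hct, hcm⟩ := C.exists_conj_le P hP hle
  set h := c * g
  have hmem : ∀ x : C.syl, h * x * h⁻¹ ∈ C.syl := fun x => by
    have := hcm _ ⟨x.1, x.2, rfl⟩
    simpa [h, mul_assoc] using this
  have hht : h * C.e (el j) * h⁻¹ = C.e (el zIdx) := by
    rw [el_zIdx, C.map_zc, show h * C.e (el j) * h⁻¹ = c * (g * C.e (el j) * g⁻¹) * c⁻¹ by
      simp [h, mul_assoc], hg, hct.eq, mul_inv_cancel_right]
  refine hr ?_
  rw [← C.roots_card hj, ← C.roots_card zIdx_lt]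
  have hb : Function.Bijective (fun x : C.syl => (⟨h * x * h⁻¹, hmem x⟩ : C.syl)) :=
    Finite.injective_iff_bijective.1 fun a b e =>
      Subtype.ext (by simpa using congrArg Subtype.val e)
  refine Nat.card_congr ((Equiv.ofBijective _ hb).subtypeEquiv fun x => ?_)
  simp only [Equiv.ofBijective_apply]
  rw [show h * x.1 * h⁻¹ * (h * x.1 * h⁻¹) = h * (x.1 * x.1) * h⁻¹ by group, ← hht]
  simp

end CMap

theorem central_A : ((List.range 2048).all fun i =>
    Nat.beq (mulPath (row 1331).2.1 i) (mulPath (row i).2.1 1331)) = true ∧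
    pOuter (row 1331).2.1 = false := by decide +kernel

theorem central_B : ((List.range 2048).all fun i =>
    Nat.beq (mulPath (row 2014).2.1 i) (mulPath (row i).2.1 2014)) = true ∧
    pOuter (row 2014).2.1 = false := by decide +kernel

namespace CMap

variable (C : CMap t tw)

theorem not_fused_B [Finite G] (g : G) : g * C.rg 1 * g⁻¹ ≠ t := by
  rw [C.rg_el.2]
  refine C.not_fused (by norm_num)
    (C.central_of_check (by norm_num) (by rw [χ_el (by norm_num), central_B.2]; rfl) central_B.1) ?_ g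
  have h1 := roots_true
  have h2 := roots_false
  simp only [Prod.mk.injEq] at h1 h2
  cases tw <;> omega

theorem not_fused_A_twin [Finite G] (C : CMap t true) (g : G) : g * C.rg 0 * g⁻¹ ≠ t := by
  rw [C.rg_el.1]
  refine C.not_fused (by norm_num)
    (C.central_of_check (by norm_num) (by rw [χ_el (by norm_num), central_A.2]; rfl) central_A.1) ?_ g
  have h1 := roots_true
  simp only [Prod.mk.injEq] at h1
  omega

theorem ord_t (C : CMap t tw) : orderOf t = 2 := by
  refine orderOf_eq_prime ?_ fun h => zc_ne (C.inj (C.map_zc.trans (h.trans C.map_one.symm)))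
  have h2 := C.mul_of_inner_right (a := zc) zc_mem
  rw [C.map_zc] at h2
  rw [pow_two, h2, ← C.map_one]
  congr 1
  have h : keyOf [0, 0, 0, 0] = keyOf [] := by decide +kernel
  have h' := eq_of_key (a := [0, 0, 0, 0]) (b := []) (by decide) (by decide) h
  simpa [zc, mul_assoc] using h'

/-- Some involution other than `t` in the centraliser is conjugate to `t`. -/
theorem exists_fused [Finite G] [IsSimpleGroup G] :
    ∃ k, k < 4 ∧ (tw = true → k < 2) ∧ ∃ g : G, g * C.rg k * g⁻¹ = t := by
  by_contra hno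
  have hiso : IsIsolatedInvolution t := by
    refine ⟨C.ord_t, fun g hc => ?_⟩
    by_contra hne
    have hu : g * t * g⁻¹ * (g * t * g⁻¹) = 1 := by
      rw [show g * t * g⁻¹ * (g * t * g⁻¹) = g * (t * t) * g⁻¹ by group,
        show t * t = 1 by rw [← pow_two, ← C.ord_t, pow_orderOf_eq_one]]
      group
    have hu1 : g * t * g⁻¹ ≠ 1 := by
      intro h
      have : orderOf (g * t * g⁻¹) = 2 := by rw [Cfsg.Lib.Invol.orderOf_conj_eq, C.ord_t]
      rw [h, orderOf_one] at this
      norm_num at this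
    obtain ⟨c, hct, k, hk, htw, hcu⟩ := C.inv_cover hu hu1 hc.symm
    by_cases h4 : k = 4
    · refine hne ?_
      rw [h4, C.rg_four] at hcu
      calc g * t * g⁻¹ = c⁻¹ * (c * (g * t * g⁻¹) * c⁻¹) * c := by group
        _ = t := by rw [hcu, mul_assoc, ← hct.eq, inv_mul_cancel_left]
    · refine hno ⟨k, by omega, fun h => (htw h).resolve_right h4, (c * g)⁻¹, ?_⟩
      rw [← hcu]
      group
  have hO : Cfsg.oddCore G = ⊥ :=
    (inferInstance : (Cfsg.oddCore G).Normal).eq_bot_or_eq_top.resolve_right fun h =>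
      ZStar.notMem_oddCore C.ord_t (h ▸ mem_top t)
  have hcen := ZStar.mem_center_of_isolated hO hiso
  rcases (inferInstance : (center G).Normal).eq_bot_or_eq_top with e | e
  · have h1 : t = 1 := mem_bot.1 (e ▸ hcen)
    have := C.ord_t
    rw [h1, orderOf_one] at this
    norm_num at this
  · have h : el 1331 * el zIdx = el zIdx * el 1331 := by rw [el_zIdx]; exact (zc_comm _).symm.eq
    have hab : ∀ a b : G, a * b = b * a := fun a b => mem_center_iff.1 (e ▸ mem_top b) a
    have hk : ∀ a b : PS, a ∈ Kχ → b ∈ Kχ → a * b = b * a := fun a b ha hb => C.inj (by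
      rw [← C.mul_of_inner_left ha, ← C.mul_of_inner_left hb]; exact hab _ _)
    haveI : Finite ↥Spor.HS := Nat.finite_of_card_ne_zero (by
      rw [PermAut.Hs.card_hs_spor]; norm_num)
    have hc : center Kχ = ⊤ := eq_top_iff.2 fun a _ => mem_center_iff.2 fun b =>
      Subtype.ext (hk _ _ b.2 a.2)
    have := double_cover.2.2.1
    rw [hc, card_top, card_Kχ] at this
    norm_num at this

/-- The twin does not occur. -/
theorem not_twin [Finite G] [IsSimpleGroup G] (C : CMap t true) : False := by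
  obtain ⟨k, hk, htw, g, hg⟩ := C.exists_fused
  have := htw rfl
  interval_cases k
  · exact C.not_fused_A_twin g hg
  · exact C.not_fused_B g hg

end CMap

end Cfsg.Lib.HNType
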