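import Cfsg.Agent.Lib.HNType.Embedding

/-!
# The homomorphism from the presented group
-/

set_option autoImplicit false
set_option maxRecDepth 100000

namespace Cfsg.Lib.HNType

open Cfsg.Lib.HN Cfsg.Lib.HN.Sub100

variable {G : Type*} [Group G] {t : G}

/-- The images of the generators. -/
noncomputable def gen4 (f : PS →* G) (d : G) : Spor.HN.Gen → G
  | .x => f (wgen relP 0)
  | .y => f (wgen relP 1)
  | .z => f (wgen relP 2)
  | .t => d

theorem lift_rel4 (f : PS →* G) {d : G} (d5 : d ^ 5 = 1)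
    (dx : (f (wgen relP 0))⁻¹ * d * f (wgen relP 0) * d ^ 2 = 1)
    (dy : Commute d (f (wgen relP 1))) (dz : (f (wgen relP 2) * d) ^ 3 = 1) :
    ∀ r ∈ Spor.coxRelators Spor.HN.edges ∪ {r | r ∈ Spor.HN.extra},
      FreeGroup.lift (gen4 f d) r = 1 := by
  rintro r (⟨a, ha, -⟩ | hr)
  · simp [Spor.HN.edges, Spor.coxNodes] at ha
  set a := wgen relP 0
  set b := wgen relP 1
  set c := wgen relP 2
  have hxi : LettersInv (wgen relP) := wgen_inv relP
  have i4 : wgen relP 4 = a⁻¹ := rfl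
  have i5 : wgen relP 5 = b⁻¹ := rfl
  have hcc : c⁻¹ = c := (hxi 2).symm
  have h := shift_eq_one hxi (R0 := relP) (R := [[1, 1, 1, 1, 1, 1], [0, 0, 1, 0, 0, 5],
    [4, 5, 0, 1, 4, 5, 0, 1, 4, 5, 0, 1],
    [4, 1, 1, 0, 1, 1, 1, 4, 1, 1, 0, 1, 1, 1, 4, 1, 1, 0, 1, 1, 1],
    [0, 1, 0, 1, 0, 1, 0, 1, 0, 1, 0, 1, 0, 1, 0, 1],
    [0, 1, 0, 1, 1, 1, 0, 1, 0, 1, 1, 1, 0, 1, 0, 1, 1, 1, 0, 1, 0, 1, 1, 1],
    [2, 2], [2, 0, 2, 0],
    [2, 1, 4, 5, 5, 4, 5, 4, 5, 2, 1, 0, 1, 0, 1, 1, 0, 5, 4, 4],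
    [2, 5, 4, 5, 4, 5, 5, 5, 2, 1, 1, 1, 0, 1, 0, 1, 0, 5, 4, 5, 4, 5, 5, 5, 2, 1, 1, 1, 0, 1, 0, 1,
      0, 5, 4, 5, 4, 5, 5, 5, 2, 1, 1, 1, 0, 1, 0, 1, 0]]) (by decide +kernel) (wgen_rel relP)
  simp only [List.mem_cons, forall_eq_or_imp, List.not_mem_nil, false_implies, imp_true_iff,
    and_true, val_cons, val_nil, mul_one, i4, i5] at h
  obtain ⟨h1, h2, h3, h4, h5, h6, h7, h8, h9, h10⟩ := h
  have hP : ∀ e : PS, e = 1 → f e = 1 := fun e he => by rw [he, map_one]
  have hr' : List.Forall (fun r => FreeGroup.lift (gen4 f d) r = 1) Spor.HN.extra := by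
    simp only [Spor.HN.extra, List.Forall, Spor.HN.x, Spor.HN.y, Spor.HN.z, Spor.HN.t, map_mul,
      map_pow, map_inv, FreeGroup.lift_apply_of, gen4]
    refine ⟨?_, ?_, ?_, ?_, ?_, ?_, ?_, ?_, ?_, ?_, ?_, ?_, ?_, ?_⟩
    case refine_11 => exact d5
    case refine_12 => exact dx
    case refine_13 =>
      rw [mul_assoc (d⁻¹ * (f (wgen relP 1))⁻¹), dy.eq]
      simp only [b]
      group
    case refine_14 => exact dz
    all_goals
      simp only [← map_mul, ← map_pow, ← map_inv]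
      refine hP _ ?_
      simp only [a, b, c] at h1 h2 h3 h4 h5 h6 h7 h8 h9 h10 hcc
      simp only [pow_succ, pow_zero, one_mul, mul_inv_rev, inv_inv, mul_assoc, hcc] at *
      assumption
  exact List.forall_iff_forall_mem.1 hr' r hr

namespace CMap

variable [Finite G] [IsSimpleGroup G] (C : CMap t false)

/-- The presented group embeds, extending the given map. -/
theorem exists_embedding :
    ∃ φ : Spor.HN →* G, Function.Injective φ ∧ ∀ a, φ (φP a) = C.e a := by
  obtain ⟨d, d5, d1, dx, dy, dz⟩ := C.exists_fourth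
  set φ : Spor.HN →* G := PresentedGroup.toGroup (lift_rel4 C.hom d5 dx dy dz)
  have hof : ∀ g, φ (PresentedGroup.of g) = gen4 C.hom d g := fun g => PresentedGroup.toGroup.of _
  have hcomp : φ.comp φP = C.hom := by
    refine PresentedGroup.ext fun i => ?_
    have hg : PresentedGroup.of i = wgen relP i.1 := by fin_cases i <;> rfl
    rw [hg, MonoidHom.comp_apply]
    have h : ∀ g ∈ [0, 1, 2], φP (wgen relP g) = hx g := fun g hg' => by
      have := φP_val (w := [g]) (fun a ha => by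
        simp only [List.mem_cons, List.not_mem_nil, or_false] at ha hg' ⊢; omega)
      simpa using this
    fin_cases i
    · rw [h 0 (by simp)]; exact hof _
    · rw [h 1 (by simp)]; exact hof _
    · rw [h 2 (by simp)]; exact hof _
    · have h3 : wgen relP 3 = 1 := by
        have := wgen_rel relP [3] (by simp)
        simpa using this
      show φ (φP (wgen relP 3)) = C.hom (wgen relP 3)
      rw [h3, _root_.map_one, _root_.map_one, _root_.map_one]
  haveI : IsSimpleGroup Spor.HN := Top.isSimple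
  refine ⟨φ, ?_, fun a => DFunLike.congr_fun hcomp a⟩
  rcases (inferInstance : φ.ker.Normal).eq_bot_or_eq_top with e | e
  · exact (MonoidHom.ker_eq_bot_iff φ).1 e
  · refine absurd ?_ d1
    have hm : PresentedGroup.of Spor.HN.Gen.t ∈ φ.ker := e ▸ Subgroup.mem_top _
    rw [MonoidHom.mem_ker, hof] at hm
    exact hm

end CMap

end Cfsg.Lib.HNType
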