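import Cfsg.Agent.Lib.HNType.Auto

/-!
# The centraliser is one of two extensions of the double cover of `HS`
-/

set_option autoImplicit false

namespace Cfsg.Lib.HNType

open Cfsg.Lib.HN Cfsg.Lib.HN.Sub100 Subgroup

/-- The correction of the twisted product. -/
noncomputable def cor (tw : Bool) (a b : PS) : PS :=
  if tw = true ∧ χ a = -1 ∧ χ b = -1 then zc else 1

theorem χ_mul_zP {a : PS} (h : χ a = -1) : χ (zP * a) = 1 := by rw [map_mul, χ_zP, h]; decide

theorem χ_one_or (a : PS) : χ a = 1 ∨ χ a = -1 := Int.units_eq_one_or _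

/-- A group with the structure of the centraliser, placed on the points of `PS`. -/
structure CMap {G : Type*} [Group G] (t : G) (tw : Bool) where
  /-- The element with the given name. -/
  e : PS → G
  inj : Function.Injective e
  mem : ∀ a, Commute (e a) t
  surj : ∀ g : G, Commute g t → ∃ a, e a = g
  map_zc : e zc = t
  map_mul : ∀ a b, e a * e b = e (a * b * cor tw a b)

theorem cover_central {M : Type*} [Group M] [Finite M] (hcov : IsNonsplitDoubleCover M Spor.HS)
    (ψ : Kχ ≃* M) (x : M) (hx : x ∈ center M) : x = 1 ∨ x = ψ ⟨zc, zc_mem⟩ := by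
  obtain ⟨u, v, huv, hu⟩ := Nat.card_eq_two_iff.1 hcov.1
  have hall : ∀ y : center M, y = u ∨ y = v := fun y => by
    have : y ∈ ({u, v} : Set (center M)) := hu ▸ Set.mem_univ y
    simpa using this
  have hzmem : ψ ⟨zc, zc_mem⟩ ∈ center M := mem_center_iff.2 fun g => by
    obtain ⟨g, rfl⟩ := ψ.surjective g
    rw [← map_mul, ← map_mul, show g * ⟨zc, zc_mem⟩ = ⟨zc, zc_mem⟩ * g from
      Subtype.ext (zc_comm g.1).symm.eq]
  have hne : (1 : center M) ≠ ⟨_, hzmem⟩ := fun e => zc_ne (congrArg Subtype.val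
    (ψ.injective ((map_one ψ).trans (congrArg Subtype.val e))).symm)
  rcases hall 1 with h1 | h1 <;> rcases hall ⟨_, hzmem⟩ with h2 | h2 <;> rcases hall ⟨x, hx⟩ with h3 | h3
  all_goals first
    | exact absurd (h1.trans h2.symm) hne
    | exact Or.inl (congrArg Subtype.val (h3.trans h1.symm))
    | exact Or.inr (congrArg Subtype.val (h3.trans h2.symm))

/-- The centraliser is one of the two groups. -/
theorem exists_cmap {G : Type*} [Group G] [Finite G] (t : G) (ht : orderOf t = 2)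
    (M : Subgroup (centralizer ({t} : Set G))) [M.Normal] (hM : M.index = 2)
    (hout : centralizer (M : Set (centralizer ({t} : Set G))) ≤ M)
    (hcov : IsNonsplitDoubleCover M Spor.HS) : ∃ tw, Nonempty (CMap t tw) := by
  classical
  obtain ⟨ψ⟩ := cover_iso_HS double_cover.2.2 hcov
  have hidx : ∀ a b : centralizer ({t} : Set G), a * b ∈ M ↔ (a ∈ M ↔ b ∈ M) :=
    fun a b => Subgroup.mul_mem_iff_of_index_two hM
  obtain ⟨c0, hc0⟩ : ∃ c, c ∉ M := by
    by_contra h
    simp only [not_exists, not_not] at h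
    rw [(eq_top_iff' M).2 h, index_top] at hM
    norm_num at hM
  obtain ⟨a, ha⟩ := conjK_surjective (ψ.trans ((MulAut.conjNormal c0).trans ψ.symm))
  have hconj : ∀ k : Kχ, (ψ (conjK a k) : centralizer ({t} : Set G)) = c0 * ψ k * c0⁻¹ := fun k => by
    rw [ha]
    simp [MulAut.conjNormal_apply]
  -- the element is outer
  have haz : zP * a ∈ Kχ := by
    refine (cases_PS a).resolve_left fun hk => hc0 ?_
    set A := ψ ⟨a, hk⟩
    have hcm : c0⁻¹ * (A : centralizer ({t} : Set G)) ∈ centralizer (M : Set (centralizer ({t} : Set G))) := by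
      rw [mem_centralizer_iff]
      intro m hm
      obtain ⟨k, hk'⟩ := ψ.surjective ⟨m, hm⟩
      have h := hconj k
      rw [show conjK a k = ⟨a, hk⟩ * k * ⟨a, hk⟩⁻¹ from Subtype.ext (by rw [conjK_apply]; rfl),
        map_mul, map_mul, map_inv, Subgroup.coe_mul, Subgroup.coe_mul, Subgroup.coe_inv, hk'] at h
      calc m * (c0⁻¹ * A) = c0⁻¹ * (c0 * m * c0⁻¹) * A := by group
        _ = c0⁻¹ * ((A : centralizer ({t} : Set G)) * m * (A : centralizer ({t} : Set G))⁻¹) * A := by rw [h]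
        _ = c0⁻¹ * A * m := by group
    have := M.mul_mem (hout hcm) (M.inv_mem A.2)
    simpa using M.inv_mem this
  set k0 : Kχ := ⟨zP * a, haz⟩
  set c := c0 * ((ψ k0)⁻¹ : M)
  have hcM : c ∉ M := fun h => hc0 (by
    simpa [c] using M.mul_mem h (ψ k0).2)
  -- conjugation by the new element
  have hcact : ∀ k : Kχ, ∀ hm : zP * k.1 * zP ∈ Kχ,
      c * ψ k * c⁻¹ = (ψ ⟨zP * k.1 * zP, hm⟩ : centralizer ({t} : Set G)) := by
    intro k hm
    have h := hconj (k0⁻¹ * k * k0)
    rw [show conjK a (k0⁻¹ * k * k0) = ⟨zP * k.1 * zP, hm⟩ from Subtype.ext (by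
      rw [conjK_apply]
      show a * ((zP * a)⁻¹ * k.1 * (zP * a)) * a⁻¹ = _
      rw [mul_inv_rev, inv_eq_of_mul_eq_one_right zP_sq]
      group)] at h
    rw [h]
    simp only [c, map_mul, map_inv, Subgroup.coe_mul, Subgroup.coe_inv, mul_inv_rev, inv_inv]
    group
  have hzk : ∀ k : Kχ, zP * k.1 * zP ∈ Kχ := fun k => by
    rw [MonoidHom.mem_ker, map_mul, map_mul, χ_zP, MonoidHom.mem_ker.1 k.2]; decide
  have hctr : c * c ∈ M := by rw [hidx]
  have hcc : ∀ k : Kχ, c * c * ψ k = ψ k * (c * c) := fun k => by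
    have h1 := hcact k (hzk k)
    have h2 := hcact ⟨_, hzk k⟩ (hzk ⟨_, hzk k⟩)
    rw [show (⟨zP * (zP * k.1 * zP) * zP, hzk ⟨_, hzk k⟩⟩ : Kχ) = k from Subtype.ext (by
      show zP * (zP * k.1 * zP) * zP = k.1
      rw [show zP * (zP * k.1 * zP) * zP = zP * zP * k.1 * (zP * zP) by group, zP_sq, one_mul, mul_one])] at h2
    rw [← h1] at h2
    calc c * c * ψ k = c * (c * ψ k * c⁻¹) * c⁻¹ * (c * c) := by group
      _ = ψ k * (c * c) := by rw [h2]
  have htC : t ∈ centralizer ({t} : Set G) := mem_centralizer_singleton_iff.2 rfl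
  set tC : centralizer ({t} : Set G) := ⟨t, htC⟩
  have htc : ∀ g : centralizer ({t} : Set G), g * tC = tC * g := fun g =>
    Subtype.ext (mem_centralizer_singleton_iff.1 g.2)
  have htM : tC ∈ M := hout (mem_centralizer_iff.2 fun m _ => htc m)
  have htψ : (ψ ⟨zc, zc_mem⟩ : centralizer ({t} : Set G)) = tC := by
    rcases cover_central hcov ψ ⟨tC, htM⟩ (mem_center_iff.2 fun g => Subtype.ext (htc g.1)) with e | e
    · exfalso
      have : t = 1 := congrArg (fun x : M => (x.1.1 : G)) e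
      rw [this, orderOf_one] at ht
      norm_num at ht
    · exact (congrArg Subtype.val e).symm
  have hc2 : c * c = 1 ∨ c * c = tC := by
    rcases cover_central hcov ψ ⟨c * c, hctr⟩ (mem_center_iff.2 fun g => by
      obtain ⟨k, rfl⟩ := ψ.surjective g
      exact Subtype.ext (hcc k).symm) with e | e
    · exact Or.inl (congrArg Subtype.val e)
    · exact Or.inr ((congrArg Subtype.val e).trans htψ)
  obtain ⟨tw, htw⟩ : ∃ tw : Bool, c * c = if tw = true then tC else 1 := by
    rcases hc2 with h | h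
    · exact ⟨false, by simpa using h⟩
    · exact ⟨true, by simpa using h⟩
  -- the map
  let E : PS → centralizer ({t} : Set G) := fun x =>
    if h : x ∈ Kχ then ψ ⟨x, h⟩ else c * ψ ⟨zP * x, (cases_PS x).resolve_left h⟩
  have hin : ∀ k : Kχ, E k.1 = ψ k := fun k => dif_pos k.2
  have hno : ∀ k : Kχ, zP * k.1 ∉ Kχ := fun k h => zP_not_mem (by
    simpa using Kχ.mul_mem h (Kχ.inv_mem k.2))
  have hout' : ∀ k : Kχ, E (zP * k.1) = c * ψ k := fun k => by
    show dite _ _ _ = _
    rw [dif_neg (hno k)]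
    have e : ∀ h, (⟨zP * (zP * k.1), h⟩ : Kχ) = k := fun h =>
      Subtype.ext (show zP * (zP * k.1) = k.1 by rw [← mul_assoc, zP_sq, one_mul])
    rw [e]
  have hrep : ∀ x : PS, (∃ k : Kχ, x = k.1 ∧ χ x = 1) ∨ (∃ k : Kχ, x = zP * k.1 ∧ χ x = -1) := fun x => by
    rcases χ_one_or x with h | h
    · exact Or.inl ⟨⟨x, h⟩, rfl, h⟩
    · exact Or.inr ⟨⟨zP * x, χ_mul_zP h⟩, by rw [← mul_assoc, zP_sq, one_mul], h⟩
  have hmulE : ∀ x y, E x * E y = E (x * y * cor tw x y) := by
    intro x y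
    rcases hrep x with ⟨j, rfl, hj⟩ | ⟨j, rfl, hj⟩ <;> rcases hrep y with ⟨k, rfl, hk⟩ | ⟨k, rfl, hk⟩
    · rw [cor, if_neg (fun h => absurd (hj.symm.trans h.2.1) (by decide)), mul_one, hin, hin, ← Kχ.coe_mul, hin, map_mul, Subgroup.coe_mul]
    · rw [cor, if_neg (fun h => absurd (hj.symm.trans h.2.1) (by decide)), mul_one, hin, hout',
        show j.1 * (zP * k.1) = zP * ((⟨_, hzk j⟩ : Kχ) * k).1 from by
          show j.1 * (zP * k.1) = zP * (zP * j.1 * zP * k.1)
          rw [show zP * (zP * j.1 * zP * k.1) = zP * zP * (j.1 * (zP * k.1)) by group, zP_sq, one_mul],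
        hout', map_mul, Subgroup.coe_mul]
      have h2 := hcact ⟨_, hzk j⟩ (hzk ⟨_, hzk j⟩)
      rw [show (⟨zP * (zP * j.1 * zP) * zP, hzk ⟨_, hzk j⟩⟩ : Kχ) = j from Subtype.ext (by
        show zP * (zP * j.1 * zP) * zP = j.1
        rw [show zP * (zP * j.1 * zP) * zP = zP * zP * j.1 * (zP * zP) by group, zP_sq, one_mul, mul_one])] at h2
      rw [← h2]
      group
    · rw [cor, if_neg (fun h => absurd (hk.symm.trans h.2.2) (by decide)), mul_one, hout', hin, mul_assoc zP, ← Kχ.coe_mul, hout',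
        map_mul, Subgroup.coe_mul, mul_assoc]
    · have hp : zP * j.1 * (zP * k.1) = ((⟨_, hzk j⟩ : Kχ) * k).1 := by
        show _ = zP * j.1 * zP * k.1
        group
      have h1 := hcact j (hzk j)
      have hprod : E (zP * j.1) * E (zP * k.1) = (c * c) * E (((⟨_, hzk j⟩ : Kχ) * k).1) := by
        rw [hout', hout', hin, map_mul, Subgroup.coe_mul, ← h1,
          show c * c * (c * ψ j * c⁻¹ * ψ k) = c * (c * c) * ψ j * c⁻¹ * ψ k by group,
          mul_assoc c (c * c), hcc j]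
        group
      rw [hprod, cor]
      cases tw with
      | false =>
        rw [if_neg (by simp), mul_one, htw, if_neg (by simp), one_mul, hp]
      | true =>
        rw [if_pos ⟨rfl, hj, hk⟩, htw, if_pos rfl, hp,
          show ((⟨_, hzk j⟩ : Kχ) * k).1 * zc = ((⟨zc, zc_mem⟩ : Kχ) * ((⟨_, hzk j⟩ : Kχ) * k)).1 from
            (zc_comm _).symm.eq, hin, hin, map_mul _ (⟨zc, zc_mem⟩ : Kχ), Subgroup.coe_mul, htψ]
  have hinjE : Function.Injective E := by
    intro x y h
    rcases hrep x with ⟨j, rfl, -⟩ | ⟨j, rfl, -⟩ <;> rcases hrep y with ⟨k, rfl, -⟩ | ⟨k, rfl, -⟩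
    · rw [hin, hin] at h
      exact congrArg Subtype.val (ψ.injective (Subtype.ext h))
    · rw [hin, hout'] at h
      refine absurd ?_ hcM
      rw [eq_mul_inv_of_mul_eq h.symm]
      exact M.mul_mem (ψ j).2 (M.inv_mem (ψ k).2)
    · rw [hin, hout'] at h
      refine absurd ?_ hcM
      rw [eq_mul_inv_of_mul_eq h]
      exact M.mul_mem (ψ k).2 (M.inv_mem (ψ j).2)
    · rw [hout', hout'] at h
      rw [ψ.injective (Subtype.ext (mul_left_cancel h))]
  refine ⟨tw, ⟨⟨fun x => (E x).1, fun x y h => hinjE (Subtype.ext h),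
    fun x => mem_centralizer_singleton_iff.1 (E x).2, fun g hg => ?_, ?_, fun x y => ?_⟩⟩⟩
  · set g' : centralizer ({t} : Set G) := ⟨g, mem_centralizer_singleton_iff.2 hg.eq⟩
    by_cases hgM : g' ∈ M
    · obtain ⟨k, hk⟩ := ψ.surjective ⟨g', hgM⟩
      exact ⟨k.1, by rw [hin, hk]⟩
    · have : c⁻¹ * g' ∈ M := by
        rw [hidx]
        exact iff_of_false (fun h => hcM (by simpa using M.inv_mem h)) hgM
      obtain ⟨k, hk⟩ := ψ.surjective ⟨_, this⟩
      refine ⟨zP * k.1, ?_⟩
      rw [hout', hk]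
      show ((c * (c⁻¹ * g')) : centralizer ({t} : Set G)).1 = g
      rw [mul_inv_cancel_left]
  · show (E ((⟨zc, zc_mem⟩ : Kχ) : PS)).1 = t
    rw [hin, htψ]
  · rw [← hmulE]; rfl

end Cfsg.Lib.HNType
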