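import Cfsg.Agent.Lib.HNType.Ident

/-!
# Elements of the double cover of `HS:2` named by the images of four points
-/

set_option autoImplicit false
set_option maxRecDepth 100000

namespace Cfsg.Lib.HNType

open Cfsg.Lib.HN Cfsg.Lib.HN.Sub100
open Cfsg.Lib.CosetEnum (force force_eq)

/-- The letters. -/
abbrev lw : List ℕ → Bool := lettersIn [0, 1, 2, 4, 5]

/-- Images of a list of points under a word, as the model reads it. -/
noncomputable def imgs (w : List ℕ) (ps : List ℕ) : List ℕ := ps.map (twalk ModelP.tabP (winv w))

/-- The base. -/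
def bpts : List ℕ := [0, 139, 1233, 1258]

/-- Pack four images. -/
def pack : List ℕ → ℕ
  | [a, b, c, d] => a + 2048 * (b + 2048 * (c + 2048 * d))
  | _ => 0

/-- Unpack four images. -/
def unpack (k : ℕ) : List ℕ :=
  [k % 2048, k / 2048 % 2048, k / (2048 * 2048) % 2048, k / (2048 * 2048 * 2048)]

/-- The key of a word. -/
noncomputable def keyOf (w : List ℕ) : ℕ := pack (imgs w bpts)

theorem points_eq : ModelP.chainP.map Level.point = bpts := by decide +kernel

theorem twalk_lt {w : List ℕ} (hw : lw w = true) {p : ℕ} (hp : p < 1408) :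
    twalk ModelP.tabP (winv w) p < 1408 ∧
      ∀ i : Fin 1408, i.1 = p → (ψP (val (wgen relP) w) i).1 = twalk ModelP.tabP (winv w) p := by
  have hw' := mem_of_lettersIn hw
  have h : ∀ i : Fin 1408, i.1 = p →
      (ψP (val (wgen relP) w) i).1 = twalk ModelP.tabP (winv w) p := fun i hi => by
    rw [ψP_val hw', val_pperm ModelP.perm_ok symS_P _ hw', hi]
  exact ⟨h ⟨p, hp⟩ rfl ▸ Fin.isLt _, h⟩

theorem eq_of_key {a b : List ℕ} (ha : lw a = true) (hb : lw b = true) (h : keyOf a = keyOf b) :
    val (wgen relP) a = val (wgen relP) b := by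
  refine eq_of_twalk ha hb ?_
  simp only [List.all_eq_true, Nat.beq_eq]
  intro L hL
  have hmem : L.point ∈ bpts := points_eq ▸ List.mem_map_of_mem hL
  have l1 := fun p hp => (twalk_lt ha (p := p) hp).1
  have l2 := fun p hp => (twalk_lt hb (p := p) hp).1
  have a0 := l1 0 (by norm_num); have a1 := l1 139 (by norm_num)
  have a2 := l1 1233 (by norm_num); have a3 := l1 1258 (by norm_num)
  have b0 := l2 0 (by norm_num); have b1 := l2 139 (by norm_num)
  have b2 := l2 1233 (by norm_num); have b3 := l2 1258 (by norm_num)
  simp only [keyOf, imgs, bpts, List.map_cons, List.map_nil, pack] at h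
  simp only [bpts, List.mem_cons, List.not_mem_nil, or_false] at hmem
  rcases hmem with e | e | e | e <;> rw [e] <;> omega

theorem key_eq_of_val {a b : List ℕ} (ha : lw a = true) (hb : lw b = true)
    (h : val (wgen relP) a = val (wgen relP) b) : keyOf a = keyOf b := by
  have : ∀ p ∈ bpts, twalk ModelP.tabP (winv a) p = twalk ModelP.tabP (winv b) p := fun p hp => by
    have hp' : p < 1408 := by
      simp only [bpts, List.mem_cons, List.not_mem_nil, or_false] at hp
      omega
    rw [← (twalk_lt ha hp').2 ⟨p, hp'⟩ rfl, ← (twalk_lt hb hp').2 ⟨p, hp'⟩ rfl, h]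
  rw [keyOf, keyOf, imgs, imgs, List.map_congr_left this]

theorem unpack_key {w : List ℕ} (hw : lw w = true) : unpack (keyOf w) = imgs w bpts := by
  have l1 := fun p hp => (twalk_lt hw (p := p) hp).1
  have a0 := l1 0 (by norm_num); have a1 := l1 139 (by norm_num)
  have a2 := l1 1233 (by norm_num); have a3 := l1 1258 (by norm_num)
  simp only [keyOf, imgs, bpts, List.map_cons, List.map_nil, pack, unpack, List.cons.injEq, and_true]
  omega

theorem twalk_append (P : CosetEnum.Tab) : ∀ (a b : List ℕ) (i : ℕ),
    twalk P (a ++ b) i = twalk P b (twalk P a i)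
  | [], b, i => rfl
  | g :: a, b, i => by
    show force _ (twalk P (a ++ b)) = twalk P b (force _ (twalk P a))
    rw [force_eq, force_eq, twalk_append P a b]

theorem winv_append (a b : List ℕ) : winv (a ++ b) = winv b ++ winv a := by simp [winv]

theorem lw_append {a b : List ℕ} : lw (a ++ b) = true ↔ lw a = true ∧ lw b = true := by
  simp [lw, lettersIn_append]

theorem lw_winv {a : List ℕ} (h : lw a = true) : lw (winv a) = true := lettersIn_winv symS_P h

/-- The key of a product from the key of the right factor. -/
theorem key_append {a b : List ℕ} (hb : lw b = true) :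
    pack (imgs a (unpack (keyOf b))) = keyOf (a ++ b) := by
  rw [unpack_key hb, keyOf, imgs, imgs, imgs, List.map_map]
  congr 1
  refine List.map_congr_left fun p _ => ?_
  rw [Function.comp_apply, winv_append, twalk_append]

end Cfsg.Lib.HNType
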