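import Cfsg.Agent.Lib.HNType.Three
import Mathlib.GroupTheory.Perm.Cycle.Type

/-!
# The second outer class is not fused to `t`
-/

set_option autoImplicit false
set_option linter.style.haveILetI false
set_option maxRecDepth 100000

namespace Cfsg.Lib.HNType

open Cfsg.Lib.HN Cfsg.Lib.HN.Sub100 Subgroup

variable {G : Type*} [Group G] [Finite G] {t : G}

/-- The situation to be excluded. -/
structure Cfg (C : CMap t false) where
  /-- The element of order three. -/
  n : G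
  n3 : n ^ 3 = 1
  nf : Commute n (C.hom fE)
  nt : n * t * n⁻¹ = C.hom dE
  nd : n * C.hom dE * n⁻¹ = t * C.hom dE
  ntd : n * (t * C.hom dE) * n⁻¹ = t

namespace Cfg

variable {C : CMap t false} (D : Cfg C)

/-- The first element of order five. -/
noncomputable abbrev f (_ : Cfg C) : G := C.hom fE
/-- The second element of order five. -/
noncomputable abbrev z (_ : Cfg C) : G := C.hom zE
/-- The representative of the outer class. -/
noncomputable abbrev d (_ : Cfg C) : G := C.hom dE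
/-- The third element. -/
noncomputable abbrev z2 : G := D.n * D.z * D.n⁻¹
/-- The fourth element. -/
noncomputable abbrev z3 : G := D.n⁻¹ * D.z * D.n

theorem f5 : D.f ^ 5 = 1 := by rw [← map_pow, rels.f5, map_one]

theorem z5 : D.z ^ 5 = 1 := by rw [← map_pow, rels.z5, map_one]

theorem orderOf_f : orderOf D.f = 5 := by
  rw [orderOf_injective C.hom C.hom_inj, orderOf_fE]

theorem fz : Commute D.f D.z := C.commute_hom_iff.2 rels.fz

theorem dd : D.d * D.d = 1 := by rw [← map_mul, rels.dd, map_one]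

theorem d_inv : D.d⁻¹ = D.d := inv_eq_of_mul_eq_one_right D.dd

theorem td : Commute t D.d := (C.hom_comm_t dE).symm

theorem fd : Commute D.f D.d := C.commute_hom_iff.2 rels.fd

theorem dzd : D.d * D.z * D.d⁻¹ = D.z⁻¹ := by
  rw [← map_inv, ← map_mul, ← map_mul, dd_inv, rels.dzd, map_inv]

theorem n_inv_t : D.n⁻¹ * t * D.n = t * D.d := by
  calc D.n⁻¹ * t * D.n = D.n⁻¹ * (D.n * (t * D.d) * D.n⁻¹) * D.n := by rw [D.ntd]
    _ = t * D.d := by group

theorem n_inv_d : D.n⁻¹ * D.d * D.n = t := by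
  calc D.n⁻¹ * D.d * D.n = D.n⁻¹ * (D.n * t * D.n⁻¹) * D.n := by rw [D.nt]
    _ = t := by group

theorem ordn : orderOf D.n = 3 := by
  haveI : Fact (Nat.Prime 3) := ⟨by norm_num⟩
  refine orderOf_eq_prime D.n3 fun h => ?_
  have h1 := D.nt
  rw [h, one_mul, inv_one, mul_one] at h1
  have := χ_dE
  rw [← C.hom_inj (C.hom_zc.trans h1), MonoidHom.mem_ker.1 zc_mem] at this
  exact absurd this (by decide)

/-- The elements centralising `f` and `z` and `t`. -/
theorem pre_tfz {g : G} (hf : Commute g D.f) (hz : Commute g D.z) (ht : Commute g t) :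
    ∃ a b e, e < 2 ∧ g = D.f ^ a * D.z ^ b * t ^ e := by
  obtain ⟨p, rfl⟩ := C.hom_pre ht
  obtain ⟨a, b, e, -, -, he, rfl⟩ := f_cent_z (C.commute_hom_iff.1 hf) (C.commute_hom_iff.1 hz)
  exact ⟨a, b, e, he, by rw [map_mul, map_mul, map_pow, map_pow, map_pow, C.hom_zc]⟩

/-- Elements of odd order centralising `f` and `t`. -/
theorem pre_tf_odd {g : G} (hf : Commute g D.f) (ht : Commute g t) (ho : Odd (orderOf g)) :
    ∃ a b : ℕ, g = D.f ^ a * D.z ^ b := by
  obtain ⟨p, rfl⟩ := C.hom_pre ht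
  rw [orderOf_injective C.hom C.hom_inj] at ho
  obtain ⟨a, b, rfl⟩ := f_cent_odd (C.commute_hom_iff.1 hf) ho
  exact ⟨a, b, by rw [map_mul, map_pow, map_pow]⟩

/-- Elements centralising `f`, `z`. -/
noncomputable abbrev K : Subgroup G := centralizer ({D.f} : Set G) ⊓ centralizer ({D.z} : Set G)

theorem mem_K {g : G} : g ∈ D.K ↔ Commute g D.f ∧ Commute g D.z := by
  rw [Subgroup.mem_inf, mem_centralizer_singleton_iff, mem_centralizer_singleton_iff]
  rfl

/-- The group generated by `f` and `z`. -/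
noncomputable abbrev Z : Subgroup G := closure {D.f, D.z}

theorem mem_Z {g : G} (hg : g ∈ D.Z) : ∃ a b : ℕ, g = D.f ^ a * D.z ^ b := by
  have hg' : g ∈ Submonoid.closure ({D.f, D.z} : Set G) := by
    rw [← Subgroup.closure_toSubmonoid_of_finite]; exact hg
  clear hg
  induction hg' using Submonoid.closure_induction with
  | mem x hx =>
    simp only [Set.mem_insert_iff, Set.mem_singleton_iff] at hx
    rcases hx with rfl | rfl
    · exact ⟨1, 0, by simp⟩
    · exact ⟨0, 1, by simp⟩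
  | one => exact ⟨0, 0, by simp⟩
  | mul x y _ _ hx hy =>
    obtain ⟨a, b, rfl⟩ := hx
    obtain ⟨a', b', rfl⟩ := hy
    exact ⟨a + a', b + b', by rw [pow_add, pow_add, (D.fz.pow_pow a' b).mul_mul_mul_comm]⟩

theorem Z_mem (a b : ℕ) : D.f ^ a * D.z ^ b ∈ D.Z :=
  D.Z.mul_mem (D.Z.pow_mem (subset_closure (by simp)) a) (D.Z.pow_mem (subset_closure (by simp)) b)

/-- Elements of odd order centralising `f` and `z` lie in any subgroup containing the fixed points. -/
theorem odd_K_le {W : Subgroup G} (hZW : D.Z ≤ W)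
    (hW : ∀ v ∈ D.K, Odd (orderOf v) → Commute v D.d → v ∈ W)
    (hW' : ∀ v ∈ D.K, Odd (orderOf v) → Commute v (t * D.d) → v ∈ W)
    {g : G} (hg : g ∈ D.K) (ho : Odd (orderOf g)) : g ∈ W := by
  have htK : t ∈ D.K := D.mem_K.2 ⟨(C.hom_comm_t fE).symm, (C.hom_comm_t zE).symm⟩
  have ht2 : orderOf (⟨t, htK⟩ : D.K) = 2 := by rw [← Subgroup.orderOf_coe]; exact C.ord_t
  obtain ⟨O, -, hodd, hmem⟩ := exists_complement ht2 (by
    intro q hq h2
    obtain ⟨m, hm⟩ := isPGroup_pow h2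
    have hqt : Commute (q : G) t := congrArg Subtype.val hq.eq
    obtain ⟨hqf, hqz⟩ := D.mem_K.1 q.2
    obtain ⟨a, b, e, -, he⟩ := D.pre_tfz hqf hqz hqt
    set r := D.f ^ a * D.z ^ b with hr
    have hr5 : r ^ 5 = 1 := by
      rw [hr, (D.fz.pow_pow a b).mul_pow, ← pow_mul, ← pow_mul, mul_comm a, mul_comm b, pow_mul, pow_mul,
        D.f5, D.z5, one_pow, one_pow, one_mul]
    have hrt : Commute r t := by
      rw [hr]
      exact ((C.hom_comm_t fE).pow_left a).mul_left ((C.hom_comm_t zE).pow_left b)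
    have hr1 : r = 1 := by
      have hq' : r = q * (t ^ e)⁻¹ := by rw [he, mul_inv_cancel_right]
      have h1 : r ^ 2 ^ (m + 1) = 1 := by
        rw [hq', (Commute.inv_right (hqt.pow_right e)).mul_pow, pow_succ, pow_mul,
          congrArg Subtype.val hm |> fun h : (q : G) ^ 2 ^ m = 1 => h, one_pow, one_mul, inv_pow,
          ← pow_mul, mul_comm e, mul_comm (2 ^ m), mul_assoc, pow_mul, pow_two, C.tt, one_pow, inv_one]
      have hco : Nat.Coprime (2 ^ (m + 1)) 5 := Nat.Coprime.pow_left _ (by norm_num)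
      exact orderOf_eq_one_iff.1 (Nat.eq_one_of_dvd_coprimes hco (orderOf_dvd_iff_pow_eq_one.2 h1)
        (orderOf_dvd_iff_pow_eq_one.2 hr5))
    refine mem_zpowers_iff.2 ⟨e, Subtype.ext ?_⟩
    rw [he, hr1, one_mul]
    simp)
  set O' := O.map D.K.subtype
  have hO'K : O' ≤ D.K := Subgroup.map_subtype_le O
  have hO'o : ∀ v ∈ O', Odd (orderOf v) := by
    rintro _ ⟨v, hv, rfl⟩
    rw [Subgroup.subtype_apply, Subgroup.orderOf_coe]
    exact hodd.of_dvd_nat (Subgroup.orderOf_dvd_natCard O hv)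
  have hmem' : ∀ v ∈ D.K, Odd (orderOf v) → v ∈ O' := fun v hv ho =>
    ⟨⟨v, hv⟩, hmem _ (by rw [← Subgroup.orderOf_coe]; exact ho), rfl⟩
  have hK' : ∀ e : G, e * e = 1 → (∀ w ∈ D.K, e * w * e ∈ D.K) → ∀ w ∈ O', e * w * e ∈ O' := by
    intro e he hKe w hw
    refine hmem' _ (hKe w (hO'K hw)) ?_
    rw [show e * w * e = e * w * e⁻¹ by rw [inv_eq_of_mul_eq_one_right he],
      Cfsg.Lib.Invol.orderOf_conj_eq]
    exact hO'o w hw
  have hKd : ∀ w ∈ D.K, D.d * w * D.d ∈ D.K := by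
    intro w hw
    obtain ⟨h1, h2⟩ := D.mem_K.1 hw
    refine D.mem_K.2 ⟨?_, ?_⟩
    · have := (Commute.conj_iff D.d).2 h1
      rwa [conj_eq_self D.fd.symm, D.d_inv] at this
    · have := (Commute.conj_iff D.d).2 h2
      rw [D.dzd, D.d_inv] at this
      simpa using this.inv_right
  have hKt : ∀ w ∈ D.K, t * w * t ∈ D.K := fun w hw => D.K.mul_mem (D.K.mul_mem htK hw) htK
  have hZK : D.Z ≤ D.K := by
    rw [closure_le]
    intro x hx
    simp only [Set.mem_insert_iff, Set.mem_singleton_iff] at hx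
    rcases hx with rfl | rfl
    · exact D.mem_K.2 ⟨Commute.refl _, D.fz⟩
    · exact D.mem_K.2 ⟨D.fz.symm, Commute.refl _⟩
  have hZodd : ∀ v ∈ D.Z, Odd (orderOf v) := by
    intro v hv
    obtain ⟨a, b, rfl⟩ := D.mem_Z hv
    refine Odd.of_dvd_nat (by decide : Odd 5) (orderOf_dvd_iff_pow_eq_one.2 ?_)
    rw [(D.fz.pow_pow a b).mul_pow, ← pow_mul, ← pow_mul, mul_comm a, mul_comm b, pow_mul, pow_mul,
      D.f5, D.z5, one_pow, one_pow, one_mul]
  refine le_of_fixed (O := O') (W := W) (Z := D.Z) (t := t) (d := D.d)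
    (by rw [Subgroup.card_map_of_injective D.K.subtype_injective]; exact hodd) C.tt D.dd D.td
    (hK' t C.tt hKt) (hK' D.d D.dd hKd) (fun v hv => hmem' v (hZK hv) (hZodd v hv)) hZW
    ?_ ?_ ?_ ?_ (fun v hv => hW v (hO'K hv) (hO'o v hv)) (fun v hv => hW' v (hO'K hv) (hO'o v hv))
    (hmem' g hg ho)
  · intro v hv
    obtain ⟨a, b, rfl⟩ := D.mem_Z hv
    have := congrArg (fun x => x) (cjm D.d (D.f ^ a) (D.z ^ b))
    rw [conj_eq_self ((D.fd.pow_left a).symm), ← conj_pow, D.dzd, D.d_inv] at this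
    rw [this]
    exact D.Z.mul_mem (D.Z.pow_mem (subset_closure (by simp)) a)
      (D.Z.pow_mem (D.Z.inv_mem (subset_closure (by simp))) b)
  · intro v hv w hw
    obtain ⟨h1, h2⟩ := D.mem_K.1 (hO'K hw)
    obtain ⟨a, b, rfl⟩ := D.mem_Z hv
    exact (h1.symm.pow_left a).mul_left (h2.symm.pow_left b)
  · intro v hv
    obtain ⟨a, b, rfl⟩ := D.mem_Z hv
    exact ((C.hom_comm_t fE).pow_left a).mul_left ((C.hom_comm_t zE).pow_left b)
  · intro w hw hwt
    obtain ⟨a, b, hab⟩ := D.pre_tf_odd (D.mem_K.1 (hO'K hw)).1 hwt (hO'o w hw)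
    rw [hab]
    exact D.Z_mem a b

/-- Fixed points of `d`. -/
theorem fixed_d {v : G} (hv : v ∈ D.K) (ho : Odd (orderOf v)) (hd : Commute v D.d) :
    ∃ a b : ℕ, v = D.f ^ a * D.z2 ^ b := by
  obtain ⟨hvf, -⟩ := D.mem_K.1 hv
  have h1 : Commute (D.n⁻¹ * v * D.n) D.f := by
    have := (Commute.conj_iff D.n⁻¹).2 hvf
    rwa [conj_eq_self D.nf.inv_left, inv_inv] at this
  have h2 : Commute (D.n⁻¹ * v * D.n) t := by
    have := (Commute.conj_iff D.n⁻¹).2 hd
    rw [inv_inv] at this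
    rwa [D.n_inv_d] at this
  obtain ⟨a, b, hab⟩ := D.pre_tf_odd h1 h2 (by
    rw [show D.n⁻¹ * v * D.n = D.n⁻¹ * v * D.n⁻¹⁻¹ by rw [inv_inv], Cfsg.Lib.Invol.orderOf_conj_eq]; exact ho)
  refine ⟨a, b, ?_⟩
  calc v = D.n * (D.n⁻¹ * v * D.n) * D.n⁻¹ := by group
    _ = D.f ^ a * D.z2 ^ b := by rw [hab, cjm, conj_eq_self (D.nf.pow_right a), conj_pow]

/-- Fixed points of `td`. -/
theorem fixed_td {v : G} (hv : v ∈ D.K) (ho : Odd (orderOf v)) (hd : Commute v (t * D.d)) :
    ∃ a b : ℕ, v = D.f ^ a * D.z3 ^ b := by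
  obtain ⟨hvf, -⟩ := D.mem_K.1 hv
  have h1 : Commute (D.n * v * D.n⁻¹) D.f := by
    have := (Commute.conj_iff D.n).2 hvf
    rwa [conj_eq_self D.nf] at this
  have h2 : Commute (D.n * v * D.n⁻¹) t := by
    have := (Commute.conj_iff D.n).2 hd
    rwa [D.ntd] at this
  obtain ⟨a, b, hab⟩ := D.pre_tf_odd h1 h2 (by rw [Cfsg.Lib.Invol.orderOf_conj_eq]; exact ho)
  refine ⟨a, b, ?_⟩
  calc v = D.n⁻¹ * (D.n * v * D.n⁻¹) * D.n⁻¹⁻¹ := by group
    _ = D.f ^ a * D.z3 ^ b := by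
      rw [hab, cjm, conj_eq_self ((D.nf.pow_right a).inv_left), ← conj_pow, inv_inv]

theorem z_prime {b : ℕ} (hb : D.z ^ b ≠ 1) : ∃ m : ℕ, (D.z ^ b) ^ m = D.z := by
  haveI : Fact (Nat.Prime 5) := ⟨by norm_num⟩
  refine exists_pow_eq_self_of_coprime ?_
  rw [orderOf_eq_prime D.z5 fun h => hb (by rw [h, one_pow]), Nat.coprime_comm]
  refine (Nat.Prime.coprime_iff_not_dvd (by norm_num)).2 fun h => hb ?_
  obtain ⟨c, rfl⟩ := h
  rw [pow_mul, D.z5, one_pow]

/-- If `z` and its conjugate do not commute, the centraliser of `f` and `z` is small. -/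
theorem odd_K_small (hY : ¬ Commute D.z D.z2) {g : G} (hg : g ∈ D.K) (ho : Odd (orderOf g)) : g ∈ D.Z := by
  have hY' : ¬ Commute D.z D.z3 := by
    intro h
    refine hY ?_
    have := (Commute.conj_iff D.n).2 h
    rw [show D.n * D.z3 * D.n⁻¹ = D.z by simp only [z3]; group] at this
    exact this.symm
  refine D.odd_K_le le_rfl (fun v hv ho' hd => ?_) (fun v hv ho' hd => ?_) hg ho
  · obtain ⟨a, b, rfl⟩ := D.fixed_d hv ho' hd
    by_cases hb : D.z ^ b = 1
    · rw [z2, conj_pow, hb, mul_one, mul_inv_cancel, mul_one]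
      exact D.Z.pow_mem (subset_closure (by simp)) a
    · exfalso
      obtain ⟨m, hm⟩ := D.z_prime hb
      have h1 : Commute (D.z2 ^ b) D.z := by
        have := ((D.fz.pow_left a).inv_left).mul_left (D.mem_K.1 hv).2
        rwa [inv_mul_cancel_left] at this
      refine hY ?_
      have h2 := (h1.pow_left m).symm
      rwa [conj_pow, conj_pow, hm] at h2
  · obtain ⟨a, b, rfl⟩ := D.fixed_td hv ho' hd
    by_cases hb : D.z ^ b = 1
    · rw [show D.z3 ^ b = D.n⁻¹ * D.z ^ b * D.n⁻¹⁻¹ by rw [← conj_pow, inv_inv], hb, mul_one,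
        inv_inv, inv_mul_cancel, mul_one]
      exact D.Z.pow_mem (subset_closure (by simp)) a
    · exfalso
      obtain ⟨m, hm⟩ := D.z_prime hb
      have h1 : Commute (D.z3 ^ b) D.z := by
        have := ((D.fz.pow_left a).inv_left).mul_left (D.mem_K.1 hv).2
        rwa [inv_mul_cancel_left] at this
      refine hY' ?_
      have h2 := (h1.pow_left m).symm
      rwa [show D.z3 = D.n⁻¹ * D.z * D.n⁻¹⁻¹ by simp [z3], conj_pow, conj_pow, hm, inv_inv] at h2

end Cfg

end Cfsg.Lib.HNType
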