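import Cfsg.Agent.Lib.HNType.Kill

/-!
# The case in which `z` and its conjugate do not commute
-/

set_option autoImplicit false
set_option linter.style.haveILetI false
set_option maxRecDepth 100000

namespace Cfsg.Lib.HNType

open Cfsg.Lib.HN Cfsg.Lib.HN.Sub100 Subgroup

variable {G : Type*} [Group G] [Finite G] {t : G} {C : CMap t false}

omit [Finite G] in
theorem eq_one_of_sq_five {r : G} (h2 : r * r = 1) (h5 : r ^ 5 = 1) : r = 1 := by
  rw [show r = r ^ 5 * ((r * r)⁻¹ * (r * r)⁻¹) by group, h5, h2]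
  simp

namespace Cfg

variable (D : Cfg C)

/-- An involution centralising `f` and `t` is conjugate to `t` in the centraliser of `f`. -/
theorem inv_conj {u : G} (hu : u * u = 1) (hu1 : u ≠ 1) (huf : Commute u D.f) (hut : Commute u t) :
    ∃ c : G, Commute c D.f ∧ c * u * c⁻¹ = t := by
  obtain ⟨p, rfl⟩ := C.hom_pre hut
  obtain ⟨i, hi, rfl⟩ := f_cent (C.commute_hom_iff.1 huf)
  set a := (fExp i).1
  set b := (fExp i).2.1
  set c := (fExp i).2.2.1 with hc
  set e := (fExp i).2.2.2 with he
  have hlt : c < 2 ∧ e < 2 :=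
    ⟨by show i / 2 % 2 < 2; omega, by show i % 2 < 2; omega⟩
  have hform : C.hom (pv (fElt i)) = D.f ^ a * D.z ^ b * D.d ^ c * t ^ e := by
    rw [pv_fElt, map_mul, map_mul, map_mul, map_pow, map_pow, map_pow, map_pow, C.hom_zc]
  have h5 : (D.f ^ a * D.z ^ b) ^ 5 = 1 := by
    rw [(D.fz.pow_pow a b).mul_pow, ← pow_mul, ← pow_mul, mul_comm a, mul_comm b, pow_mul, pow_mul,
      D.f5, D.z5, one_pow, one_pow, one_mul]
  have hte : Commute (D.f ^ a * D.z ^ b * D.d ^ c) (t ^ e) :=
    ((((C.hom_comm_t fE).pow_left a).mul_left ((C.hom_comm_t zE).pow_left b)).mul_left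
      (D.td.symm.pow_left c)).pow_right e
  have hpe : (t ^ e) * (t ^ e) = 1 := by
    rw [← pow_add, ← two_mul, pow_mul, pow_two, C.tt, one_pow]
  have hs : (D.f ^ a * D.z ^ b * D.d ^ c) * (D.f ^ a * D.z ^ b * D.d ^ c) = 1 := by
    rw [hform, hte.symm.mul_mul_mul_comm, hpe, mul_one] at hu
    exact hu
  rcases Nat.lt_or_ge c 1 with h | h
  · have hc0 : c = 0 := by omega
    rw [hc0, pow_zero, mul_one] at hs hform
    have h1 : D.f ^ a * D.z ^ b = 1 := eq_one_of_sq_five hs h5
    refine ⟨1, Commute.one_left _, ?_⟩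
    rw [one_mul, inv_one, mul_one, hform, h1, one_mul]
    have hel := hlt.2
    interval_cases e
    · rw [hform, h1, pow_zero, one_mul] at hu1; exact absurd rfl hu1
    · exact pow_one t
  · have hc1 : c = 1 := by omega
    rw [hc1, pow_one] at hs hform
    have hzd : D.d * D.z ^ b * D.d = (D.z ^ b)⁻¹ := by
      have := conj_pow (a := D.d) (b := D.z) (i := b)
      rw [D.dzd, inv_pow, D.d_inv] at this
      exact this.symm
    have ha : D.f ^ a = 1 := by
      have h2 : D.f ^ a * D.f ^ a = 1 := by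
        rw [← hs, show D.f ^ a * D.z ^ b * D.d * (D.f ^ a * D.z ^ b * D.d) =
          D.f ^ a * (D.z ^ b * (D.d * D.f ^ a) * D.z ^ b * D.d) by group,
          ← (D.fd.pow_left a).eq, show D.z ^ b * (D.f ^ a * D.d) * D.z ^ b * D.d =
          (D.z ^ b * D.f ^ a) * (D.d * D.z ^ b * D.d) by group, hzd,
          ← (D.fz.pow_pow a b).eq, mul_inv_cancel_right]
      have h3 : (D.f ^ a) ^ 5 = 1 := by rw [← pow_mul, mul_comm, pow_mul, D.f5, one_pow]
      exact eq_one_of_sq_five h2 h3
    rw [ha, one_mul] at hform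
    -- remove the power of `z`
    set k := D.z ^ (3 * b) with hk
    have hkk : k * k = D.z ^ b := by
      rw [hk, ← pow_add, show 3 * b + 3 * b = 5 * b + b by ring, pow_add, pow_mul, D.z5, one_pow, one_mul]
    have hkd : D.d * k * D.d⁻¹ = k⁻¹ := by
      rw [hk, ← conj_pow, D.dzd, inv_pow]
    have hkf : Commute k D.f := (D.fz.pow_right _).symm
    have hkt : Commute k t := (C.hom_comm_t zE).pow_left _
    have hconj : C.hom (pv (fElt i)) = k * (D.d * t ^ e) * k⁻¹ := by
      rw [hform, ← hkk]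
      calc k * k * D.d * t ^ e = k * (D.d * (D.d⁻¹ * k * D.d)) * t ^ e := by group
        _ = k * (D.d * k⁻¹) * t ^ e := by
          rw [show D.d⁻¹ * k * D.d = k⁻¹ by
            calc D.d⁻¹ * k * D.d = D.d * k * D.d⁻¹ := by rw [D.d_inv]
              _ = k⁻¹ := hkd]
        _ = k * (D.d * (k⁻¹ * t ^ e)) := by group
        _ = k * (D.d * t ^ e) * k⁻¹ := by rw [(hkt.inv_left.pow_right e).eq]; group
    have hel := hlt.2
    interval_cases e
    · refine ⟨D.n⁻¹ * k⁻¹, D.nf.inv_left.mul_left hkf.inv_left, ?_⟩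
      rw [hconj, pow_zero, mul_one, show D.n⁻¹ * k⁻¹ * (k * D.d * k⁻¹) * (D.n⁻¹ * k⁻¹)⁻¹ =
        D.n⁻¹ * D.d * D.n by group, D.n_inv_d]
    · refine ⟨D.n * k⁻¹, D.nf.mul_left hkf.inv_left, ?_⟩
      rw [hconj, pow_one, show D.n * k⁻¹ * (k * (D.d * t) * k⁻¹) * (D.n * k⁻¹)⁻¹ =
        D.n * (D.d * t) * D.n⁻¹ by group, ← D.td.eq, D.ntd]

theorem caseN (hY : ¬ Commute D.z D.z2) {y u : G} (hy : orderOf y = 5) (hyn : Commute y D.n)
    (hyu : Commute y u) (hnu : Commute D.n u) (hu : ∃ e : G, e * u * e⁻¹ = t) : False := by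
  haveI : Fact (Nat.Prime 5) := ⟨by norm_num⟩
  -- `Z` is a Sylow subgroup of the centraliser of `f`
  set CF := centralizer ({D.f} : Set G)
  have hZCF : D.Z ≤ CF := by
    rw [closure_le]
    intro x hx
    simp only [Set.mem_insert_iff, Set.mem_singleton_iff] at hx
    rcases hx with rfl | rfl
    · exact mem_centralizer_singleton_iff.2 rfl
    · exact mem_centralizer_singleton_iff.2 D.fz.eq.symm
  have hZp : IsPGroup 5 (D.Z.subgroupOf CF) := by
    rintro ⟨⟨g, hg⟩, hgZ⟩
    obtain ⟨a, b, hab⟩ := D.mem_Z (mem_subgroupOf.1 hgZ)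
    refine ⟨1, Subtype.ext (Subtype.ext ?_)⟩
    simp only [SubmonoidClass.coe_pow, OneMemClass.coe_one, pow_one] at hab ⊢
    rw [show g = D.f ^ a * D.z ^ b from hab, (D.fz.pow_pow a b).mul_pow, ← pow_mul, ← pow_mul, mul_comm a, mul_comm b,
      pow_mul, pow_mul, D.f5, D.z5, one_pow, one_pow, one_mul]
  obtain ⟨S, hS⟩ := sylow_of_normalizer (p := 5) (D.Z.subgroupOf CF) hZp (by
    intro q hq h5
    obtain ⟨m, hm⟩ := isPGroup_pow h5
    have hqf : Commute (q : G) D.f := mem_centralizer_singleton_iff.1 q.2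
    rw [mem_subgroupOf]
    set g := (q : G) * t * (q : G)⁻¹ * t with hg
    have hzc : ∀ w ∈ D.Z, Commute t w := by
      intro w hw
      obtain ⟨a, b, rfl⟩ := D.mem_Z hw
      exact (((C.hom_comm_t fE).pow_left a).mul_left ((C.hom_comm_t zE).pow_left b)).symm
    have hqt' : ∀ w : CF, w ∈ D.Z.subgroupOf CF → Commute ((q : G) * t * (q : G)⁻¹) (w : G) := by
      intro w hw
      have hq' := (Subgroup.mem_normalizer_iff.1 (inv_mem hq) w).1 hw
      have h1 := hzc _ (mem_subgroupOf.1 hq')
      have h2 := (Commute.conj_iff (q : G)).2 h1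
      simpa [mul_assoc] using h2
    have hgK : g ∈ D.K := D.mem_K.2
      ⟨((hqt' ⟨D.f, hZCF (subset_closure (by simp))⟩ (mem_subgroupOf.2 (subset_closure (by simp)))).mul_left
        (hzc _ (subset_closure (by simp)))),
      ((hqt' ⟨D.z, hZCF (subset_closure (by simp))⟩ (mem_subgroupOf.2 (subset_closure (by simp)))).mul_left
        (hzc _ (subset_closure (by simp))))⟩
    have hinvg : t * g * t⁻¹ = g⁻¹ := by
      rw [hg, mul_inv_rev (_ * t * _) t, C.t_inv, mul_inv_rev, mul_inv_rev, inv_inv, C.t_inv]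
      calc t * ((q : G) * t * (q : G)⁻¹ * t) * t = t * ((q : G) * t * (q : G)⁻¹) * (t * t) := by group
        _ = t * ((q : G) * (t * (q : G)⁻¹)) := by rw [C.tt, mul_one, mul_assoc]
    have hne : (q : G) * t * (q : G)⁻¹ ≠ 1 := by
      rw [Ne, conj_eq_one_iff]
      intro h
      have := C.ord_t
      rw [h, orderOf_one] at this
      norm_num at this
    have hqt : Commute (q : G) t := by
      refine commute_of_conj ?_
      rcases Nat.even_or_odd (orderOf g) with hev | hod
      · exfalso
        obtain ⟨k, hk⟩ := hev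
        have hpos := orderOf_pos g
        have hw1 : g ^ k ≠ 1 := pow_ne_one_of_lt_orderOf (by omega) (by omega)
        have hwt : Commute (g ^ k) t := by
          refine (commute_of_conj ?_).symm
          rw [← conj_pow, hinvg, inv_pow]
          refine inv_eq_of_mul_eq_one_right ?_
          rw [← pow_add, ← hk, pow_orderOf_eq_one]
        obtain ⟨hf1, hz1⟩ := D.mem_K.1 (D.K.pow_mem hgK k)
        obtain ⟨a, b, e, he, hab⟩ := D.pre_tfz hf1 hz1 hwt
        set r := D.f ^ a * D.z ^ b with hr
        have hr5 : r ^ 5 = 1 := by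
          rw [hr, (D.fz.pow_pow a b).mul_pow, ← pow_mul, ← pow_mul, mul_comm a, mul_comm b, pow_mul,
            pow_mul, D.f5, D.z5, one_pow, one_pow, one_mul]
        have hrt : Commute r t := (hzc r (D.Z_mem a b)).symm
        have hww : g ^ k * g ^ k = 1 := by rw [← pow_add, ← hk, pow_orderOf_eq_one]
        have hr2 : r * r = 1 := by
          rw [hab, (hrt.pow_right e).symm.mul_mul_mul_comm, ← pow_add, ← two_mul, pow_mul, pow_two, C.tt,
            one_pow, mul_one] at hww
          exact hww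
        have hr1 : r = 1 := eq_one_of_sq_five hr2 hr5
        rw [hr1, one_mul] at hab
        interval_cases e
        · exact hw1 (hab.trans (pow_zero t))
        · rw [pow_one] at hab
          have h1 : Commute t g := hab ▸ ((Commute.refl g).pow_left k)
          rw [conj_eq_self h1] at hinvg
          have h2 : g ^ 2 = 1 := by rw [pow_two]; nth_rewrite 2 [hinvg]; rw [mul_inv_cancel]
          rcases Nat.lt_or_ge k 2 with hk2 | hk2
          · interval_cases k
            · exact hw1 (pow_zero g)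
            · rw [pow_one] at hab
              refine hne ?_
              have := congrArg (fun x => x * t) (hg.symm.trans hab)
              simpa [mul_assoc, C.tt] using this
          · have := Nat.le_of_dvd (by norm_num) (orderOf_dvd_iff_pow_eq_one.2 h2)
            omega
      · have hgZ := D.odd_K_small hY hgK hod
        have h1 := hzc g hgZ
        rw [conj_eq_self h1] at hinvg
        have h2 : g ^ 2 = 1 := by rw [pow_two]; nth_rewrite 2 [hinvg]; rw [mul_inv_cancel]
        have hg1 : g = 1 := orderOf_eq_one_iff.1 (Nat.eq_one_of_dvd_coprimes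
          (Nat.coprime_two_right.2 hod) dvd_rfl (orderOf_dvd_iff_pow_eq_one.2 h2))
        rw [hg, mul_eq_one_iff_eq_inv, C.t_inv] at hg1
        exact hg1
    have hodd : Odd (orderOf (q : G)) := by
      refine Odd.of_dvd_nat ((by decide : Odd 5).pow (n := m)) ?_
      rw [Subgroup.orderOf_coe]
      exact orderOf_dvd_iff_pow_eq_one.2 hm
    obtain ⟨a, b, hab⟩ := D.pre_tf_odd hqf hqt hodd
    rw [hab]
    exact D.Z_mem a b)
  -- `f` generates a Sylow subgroup of the centraliser of `n`
  set CN := centralizer ({D.n} : Set G)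
  set fN : CN := ⟨D.f, mem_centralizer_singleton_iff.2 D.nf.eq.symm⟩ with hfN
  have ho : orderOf fN = 5 := by rw [← Subgroup.orderOf_coe]; exact D.orderOf_f
  obtain ⟨S', hS'⟩ := sylow_of_normalizer (p := 5) (zpowers fN)
    (IsPGroup.of_card (n := 1) (by rw [Nat.card_zpowers, ho, pow_one])) (by
      intro q hq h
      obtain ⟨m, hm⟩ := isPGroup_pow h
      obtain ⟨k, hk⟩ := exists_normalizer_pow hq
      have hqf : Commute (q : G) D.f :=
        congrArg Subtype.val (commute_of_normalizes ho hm hk).eq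
      set qF : CF := ⟨q, mem_centralizer_singleton_iff.2 hqf.eq⟩ with hqF
      obtain ⟨S'', hS''⟩ := (IsPGroup.of_card (n := (orderOf (q : G)).factorization 5) (show
          Nat.card (zpowers qF) = _ by
        rw [Nat.card_zpowers, ← Subgroup.orderOf_coe]
        obtain ⟨j, -, hj⟩ := (Nat.dvd_prime_pow (by norm_num : Nat.Prime 5)).1
          (show orderOf (q : G) ∣ 5 ^ m by rw [Subgroup.orderOf_coe]; exact orderOf_dvd_iff_pow_eq_one.2 hm)
        rw [show (qF : G) = q from rfl, hj, Nat.Prime.factorization_pow (by norm_num), Finsupp.single_eq_same])).exists_le_sylow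
      obtain ⟨c, hc⟩ := MulAction.exists_smul_eq CF S'' S
      have hmem : (MulAut.conj c) qF ∈ ((c • S'' : Sylow 5 CF) : Subgroup CF) :=
        Subgroup.smul_mem_pointwise_smul _ _ _ (hS'' (mem_zpowers _))
      rw [hc, hS, mem_subgroupOf] at hmem
      obtain ⟨a, b, hab⟩ := D.mem_Z hmem
      have hab' : (c : G) * q * (c : G)⁻¹ = D.f ^ a * D.z ^ b := by simpa [hqF] using hab
      have hcf : Commute (c : G) D.f := mem_centralizer_singleton_iff.1 c.2
      by_cases hb : D.z ^ b = 1
      · refine mem_zpowers_iff.2 ⟨a, Subtype.ext ?_⟩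
        rw [hb, mul_one, ← conj_eq_self (hcf.pow_right a)] at hab'
        have hq' : (q : G) = D.f ^ a := by simpa [mul_assoc] using hab'
        simpa [hfN] using hq'.symm
      · exfalso
        set n' := (c : G) * D.n * (c : G)⁻¹ with hn'
        have hn'f : Commute n' D.f := by
          have := (Commute.conj_iff (c : G)).2 D.nf
          rwa [conj_eq_self hcf] at this
        have hn'z : Commute n' D.z := by
          obtain ⟨m', hm'⟩ := D.z_prime hb
          rw [← hm']
          refine Commute.pow_right ?_ _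
          have h1 := (Commute.conj_iff (c : G)).2 (mem_centralizer_singleton_iff.1 q.2)
          have h2 : Commute n' ((c : G) * q * (c : G)⁻¹) := (show Commute _ _ from h1).symm
          rw [hab'] at h2
          have := ((hn'f.pow_right a).inv_right).mul_right h2
          rwa [inv_mul_cancel_left] at this
        have h3 : orderOf n' = 3 := by rw [hn', Cfsg.Lib.Invol.orderOf_conj_eq, D.ordn]
        have hZ := D.odd_K_small hY (D.mem_K.2 ⟨hn'f, hn'z⟩) (by rw [h3]; decide)
        obtain ⟨a', b', hab''⟩ := D.mem_Z hZ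
        have : n' ^ 5 = 1 := by
          rw [hab'', (D.fz.pow_pow a' b').mul_pow, ← pow_mul, ← pow_mul, mul_comm a', mul_comm b',
            pow_mul, pow_mul, D.f5, D.z5, one_pow, one_pow, one_mul]
        have := orderOf_dvd_iff_pow_eq_one.2 this
        rw [h3] at this
        norm_num at this)
  -- move `y` to a power of `f`
  set yN : CN := ⟨y, mem_centralizer_singleton_iff.2 hyn.eq⟩ with hyN
  obtain ⟨S'', hS''⟩ := (IsPGroup.of_card (n := 1) (show Nat.card (zpowers yN) = 5 ^ 1 by
    rw [Nat.card_zpowers, ← Subgroup.orderOf_coe, pow_one]; exact hy)).exists_le_sylow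
  obtain ⟨c, hc⟩ := MulAction.exists_smul_eq CN S'' S'
  have hmem : (MulAut.conj c) yN ∈ ((c • S'' : Sylow 5 CN) : Subgroup CN) :=
    Subgroup.smul_mem_pointwise_smul _ _ _ (hS'' (mem_zpowers _))
  rw [hc, hS'] at hmem
  obtain ⟨j, hj⟩ := mem_powers_iff_mem_zpowers.2 hmem
  have hcy : (c : G) * y * (c : G)⁻¹ = D.f ^ j := by simpa [hfN, hyN] using (congrArg Subtype.val hj).symm
  have hcn : Commute (c : G) D.n := mem_centralizer_singleton_iff.1 c.2
  set u' := (c : G) * u * (c : G)⁻¹
  have hnu' : Commute D.n u' := by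
    have := (Commute.conj_iff (c : G)).2 hnu
    rwa [conj_eq_self hcn] at this
  obtain ⟨e, he⟩ := hu
  have hord : orderOf u' = 2 := by
    rw [Cfsg.Lib.Invol.orderOf_conj_eq]
    have := C.ord_t
    rwa [← he, Cfsg.Lib.Invol.orderOf_conj_eq] at this
  have huf : Commute u' D.f := by
    have h1 : Commute u' (D.f ^ j) := by
      rw [← hcy]
      exact ((Commute.conj_iff (c : G)).2 hyu.symm)
    obtain ⟨m, hm⟩ : ∃ m : ℕ, (D.f ^ j) ^ m = D.f := by
      refine exists_pow_eq_self_of_coprime ?_
      rw [D.orderOf_f, Nat.coprime_comm]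
      refine (Nat.Prime.coprime_iff_not_dvd (by norm_num)).2 fun h => ?_
      obtain ⟨c', rfl⟩ := h
      rw [pow_mul, D.f5, one_pow, conj_eq_one_iff] at hcy
      rw [hcy, orderOf_one] at hy
      norm_num at hy
    rw [← hm]
    exact h1.pow_right m
  -- conjugate to `t` in the centraliser of `f`
  obtain ⟨h, hhf, hh⟩ : ∃ h : G, Commute h D.f ∧ h * u' * h⁻¹ = t := by
    have huu : u' * u' = 1 := Cfsg.Lib.Invol.inv_mul_self hord
    set p := u' * t with hp
    have hpt : t * p * t⁻¹ = p⁻¹ := by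
      rw [hp, C.t_inv, mul_inv_rev, C.t_inv, inv_eq_of_mul_eq_one_right huu, mul_assoc, mul_assoc, C.tt,
        mul_one]
    have hpf : Commute p D.f := huf.mul_left (C.hom_comm_t fE).symm
    rcases Nat.even_or_odd (orderOf p) with hev | hod
    · obtain ⟨k, hk⟩ := hev
      have hpos := orderOf_pos p
      set w := p ^ k
      have hw1 : w ≠ 1 := pow_ne_one_of_lt_orderOf (by omega) (by omega)
      have hww : w * w = 1 := by rw [← pow_add, ← hk, pow_orderOf_eq_one]
      have hwt : Commute w t := by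
        refine (commute_of_conj ?_).symm
        rw [← conj_pow, hpt, inv_pow]
        exact inv_eq_of_mul_eq_one_right hww
      have hwu : Commute w u' := by
        have h1 : Commute w p := (Commute.refl p).pow_left k
        have := h1.mul_right hwt
        rwa [hp, mul_assoc, C.tt, mul_one] at this
      obtain ⟨c1, hc1f, hc1⟩ := D.inv_conj hww hw1 (hpf.pow_left k) hwt
      obtain ⟨c2, hc2f, hc2⟩ := D.inv_conj (u := c1 * u' * c1⁻¹)
        (by rw [← cjm, huu]; group)
        (by rw [Ne, conj_eq_one_iff]; exact Cfsg.Lib.Invol.ne_one hord)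
        (by have := (Commute.conj_iff c1).2 huf; rwa [conj_eq_self hc1f] at this)
        (by have := (Commute.conj_iff c1).2 hwu.symm; rwa [hc1] at this)
      exact ⟨c2 * c1, hc2f.mul_left hc1f, Eq.trans (by group) hc2⟩
    · obtain ⟨m, hm⟩ := exists_half hod
      refine ⟨(p ^ m)⁻¹, (hpf.pow_left m).inv_left, ?_⟩
      have h1 : p ^ m * t * (p ^ m)⁻¹ = u' := by
        have : t * p ^ m * t⁻¹ = (p ^ m)⁻¹ := by rw [← conj_pow, hpt, inv_pow]
        calc p ^ m * t * (p ^ m)⁻¹ = p ^ m * t * (t * p ^ m * t⁻¹) := by rw [this]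
          _ = p ^ m * (t * t) * p ^ m * t⁻¹ := by group
          _ = u' := by rw [C.tt, mul_one, hm, hp, mul_inv_cancel_right]
      calc (p ^ m)⁻¹ * u' * (p ^ m)⁻¹⁻¹ = (p ^ m)⁻¹ * (p ^ m * t * (p ^ m)⁻¹) * p ^ m := by
            rw [h1, inv_inv]
        _ = t := by group
  have hnt : Commute (h * D.n * h⁻¹) t := by
    have := (Commute.conj_iff h).2 hnu'
    rwa [hh] at this
  have hnf : Commute (h * D.n * h⁻¹) D.f := by
    have := (Commute.conj_iff h).2 D.nf
    rwa [conj_eq_self hhf] at this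
  obtain ⟨q, hq⟩ := C.hom_pre hnt
  have hq1 : q = 1 := f_cent_cube (C.commute_hom_iff.1 (by rw [hq]; exact hnf)) (C.hom_inj (by
    rw [map_pow, hq, conj_pow, D.n3, mul_one, mul_inv_cancel, map_one]))
  rw [hq1, map_one, eq_comm, conj_eq_one_iff] at hq
  have := D.ordn
  rw [hq, orderOf_one] at this
  norm_num at this

end Cfg

end Cfsg.Lib.HNType
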