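import Cfsg.Agent.Lib.HNType.KillCaseN

/-!
# The case in which `z` and its conjugate commute, and the conclusion
-/

set_option autoImplicit false
set_option linter.style.haveILetI false
set_option maxRecDepth 100000

namespace Cfsg.Lib.HNType

open Cfsg.Lib.HN Cfsg.Lib.HN.Sub100 Subgroup

variable {G : Type*} [Group G] [Finite G] {t : G} {C : CMap t false}

namespace Cfg

variable (D : Cfg C)

theorem z2_five : D.z2 ^ 5 = 1 := by rw [conj_pow, D.z5, mul_one, mul_inv_cancel]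

theorem z3_five : D.z3 ^ 5 = 1 := by
  rw [show D.z3 = D.n⁻¹ * D.z * D.n⁻¹⁻¹ by simp [z3], conj_pow, D.z5, mul_one, mul_inv_cancel]

theorem n_sq_z : D.n * D.z2 * D.n⁻¹ = D.z3 := by
  have h : D.n⁻¹ = D.n ^ 2 := inv_eq_of_mul_eq_one_right (by rw [← pow_succ']; exact D.n3)
  have h' : D.n = (D.n ^ 2)⁻¹ := by rw [← h, inv_inv]
  calc D.n * D.z2 * D.n⁻¹ = D.n ^ 2 * D.z * (D.n ^ 2)⁻¹ := by simp only [z2, pow_two]; group
    _ = D.z3 := by rw [← h', ← h]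

theorem z23 (hY : Commute D.z D.z2) : Commute D.z2 D.z3 := by
  have := (Commute.conj_iff D.n).2 hY
  rwa [D.n_sq_z] at this

theorem zz3 (hY : Commute D.z D.z2) : Commute D.z D.z3 := by
  have := (Commute.conj_iff D.n⁻¹).2 hY
  rw [inv_inv, show D.n⁻¹ * D.z2 * D.n = D.z by simp only [z2]; group] at this
  exact this.symm

theorem fz2 : Commute D.f D.z2 := by
  have := (Commute.conj_iff D.n).2 D.fz
  rwa [conj_eq_self D.nf] at this

theorem fz3 : Commute D.f D.z3 := by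
  have := (Commute.conj_iff D.n⁻¹).2 D.fz
  rwa [conj_eq_self D.nf.inv_left, inv_inv] at this

theorem tdzd : (t * D.d) * D.z * (t * D.d)⁻¹ = D.z⁻¹ := by
  calc (t * D.d) * D.z * (t * D.d)⁻¹ = t * (D.d * D.z * D.d⁻¹) * t⁻¹ := by group
    _ = D.z⁻¹ := by rw [D.dzd, conj_eq_self ((C.hom_comm_t zE).symm.inv_right)]

theorem t_z2 : t * D.z2 * t⁻¹ = D.z2⁻¹ := by
  calc t * D.z2 * t⁻¹ = D.n * ((D.n⁻¹ * t * D.n) * D.z * (D.n⁻¹ * t * D.n)⁻¹) * D.n⁻¹ := by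
        simp only [z2]; group
    _ = D.z2⁻¹ := by rw [D.n_inv_t, D.tdzd]; simp [z2, mul_assoc]

theorem d_z2 : D.d * D.z2 * D.d⁻¹ = D.z2 := by
  calc D.d * D.z2 * D.d⁻¹ = D.n * ((D.n⁻¹ * D.d * D.n) * D.z * (D.n⁻¹ * D.d * D.n)⁻¹) * D.n⁻¹ := by
        simp only [z2]; group
    _ = D.z2 := by rw [D.n_inv_d, conj_eq_self (C.hom_comm_t zE).symm]

theorem t_z3 : t * D.z3 * t⁻¹ = D.z3⁻¹ := by
  calc t * D.z3 * t⁻¹ = D.n⁻¹ * ((D.n * t * D.n⁻¹) * D.z * (D.n * t * D.n⁻¹)⁻¹) * D.n := by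
        simp only [z3]; group
    _ = D.z3⁻¹ := by rw [D.nt, D.dzd]; simp [z3, mul_assoc]

theorem d_z3 : D.d * D.z3 * D.d⁻¹ = D.z3⁻¹ := by
  calc D.d * D.z3 * D.d⁻¹ = D.n⁻¹ * ((D.n * D.d * D.n⁻¹) * D.z * (D.n * D.d * D.n⁻¹)⁻¹) * D.n := by
        simp only [z3]; group
    _ = D.z3⁻¹ := by rw [D.nd, D.tdzd]; simp [z3, mul_assoc]

/-- A product of powers of the two conjugates. -/
noncomputable abbrev Φ (c e : ℕ) : G := D.z2 ^ c * D.z3 ^ e

theorem Φ_mod (c e : ℕ) : D.Φ c e = D.Φ (c % 5) (e % 5) := by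
  rw [Φ, Φ, ← pow_eq_pow_mod c D.z2_five, ← pow_eq_pow_mod e D.z3_five]

theorem t_Φ (hY : Commute D.z D.z2) (c e : ℕ) : t * D.Φ c e * t⁻¹ = (D.Φ c e)⁻¹ := by
  rw [Φ, cjm, ← conj_pow, ← conj_pow, D.t_z2, D.t_z3, inv_pow, inv_pow, mul_inv_rev,
    (((D.z23 hY).pow_pow c e).inv_inv).eq]

theorem Φ_eq_one (hY : Commute D.z D.z2) {c e : ℕ} (hc : c < 5) (he : e < 5) (h : D.Φ c e = 1) :
    c = 0 ∧ e = 0 := by
  haveI : Fact (Nat.Prime 5) := ⟨by norm_num⟩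
  have h1 : D.z2 ^ c * (D.z3 ^ e)⁻¹ = 1 := by
    have := congrArg (fun x => D.d * x * D.d⁻¹) h
    simp only [Φ] at this
    rw [cjm, ← conj_pow, ← conj_pow, D.d_z2, D.d_z3, inv_pow, mul_one, mul_inv_cancel] at this
    exact this
  rw [mul_inv_eq_one] at h1
  have h2 : D.z2 ^ c * D.z2 ^ c = 1 := by nth_rewrite 2 [h1]; exact h
  have h3 : D.z2 ^ c = 1 := eq_one_of_sq_five h2 (by rw [← pow_mul, mul_comm, pow_mul, D.z2_five, one_pow])
  have h4 : D.z3 ^ e = 1 := h1.symm.trans h3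
  have hz : D.z ≠ 1 := fun hz => rels.z_ne (C.hom_inj (hz.trans (map_one C.hom).symm))
  have key : ∀ (w : G) (k : ℕ), w ^ 5 = 1 → w ≠ 1 → k < 5 → w ^ k = 1 → k = 0 := by
    intro w k hw hw1 hk hwk
    have h5 : orderOf w = 5 := orderOf_eq_prime hw hw1
    have := orderOf_dvd_iff_pow_eq_one.2 hwk
    rw [h5] at this
    obtain ⟨q, rfl⟩ := this
    omega
  refine ⟨key D.z2 c D.z2_five ?_ hc h3, key D.z3 e D.z3_five ?_ he h4⟩
  · rw [z2, Ne, conj_eq_one_iff]; exact hz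
  · rw [show D.z3 = D.n⁻¹ * D.z * D.n⁻¹⁻¹ by simp [z3], Ne, conj_eq_one_iff]; exact hz

theorem Φ_inj (hY : Commute D.z D.z2) {c e c' e' : ℕ} (h : D.Φ c e = D.Φ c' e') :
    c % 5 = c' % 5 ∧ e % 5 = e' % 5 := by
  have h1 : D.Φ (c + 4 * c') (e + 4 * e') = 1 := by
    rw [Φ, pow_add, pow_add, ((D.z23 hY).pow_pow (4 * c') e).mul_mul_mul_comm, ← Φ, h, Φ,
      ← ((D.z23 hY).pow_pow (4 * c') e').mul_mul_mul_comm, ← pow_add, ← pow_add,
      show c' + 4 * c' = 5 * c' by omega, show e' + 4 * e' = 5 * e' by omega, pow_mul, pow_mul,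
      D.z2_five, D.z3_five, one_pow, one_pow, mul_one]
  rw [D.Φ_mod] at h1
  obtain ⟨h2, h3⟩ := D.Φ_eq_one hY (Nat.mod_lt _ (by norm_num)) (Nat.mod_lt _ (by norm_num)) h1
  omega

/-- The group generated by the four elements. -/
noncomputable def W (hY : Commute D.z D.z2) : Subgroup G where
  carrier := {g | ∃ a b c e : ℕ, g = D.f ^ a * D.z ^ b * D.Φ c e}
  one_mem' := ⟨0, 0, 0, 0, by simp [Φ]⟩
  mul_mem' := by
    rintro _ _ ⟨a, b, c, e, rfl⟩ ⟨a', b', c', e', rfl⟩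
    refine ⟨a + a', b + b', c + c', e + e', ?_⟩
    have h1 : Commute (D.Φ c e) (D.f ^ a' * D.z ^ b') :=
      (((D.fz2.symm.pow_pow c a').mul_left (D.fz3.symm.pow_pow e a'))).mul_right
        ((hY.symm.pow_pow c b').mul_left ((D.zz3 hY).symm.pow_pow e b'))
    rw [h1.mul_mul_mul_comm, (D.fz.symm.pow_pow b a').mul_mul_mul_comm, ← pow_add, ← pow_add]
    show _ * _ * (D.z2 ^ c * D.z3 ^ e * (D.z2 ^ c' * D.z3 ^ e')) = _
    rw [((D.z23 hY).symm.pow_pow e c').mul_mul_mul_comm, ← pow_add, ← pow_add]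
  inv_mem' := by
    rintro _ ⟨a, b, c, e, rfl⟩
    refine ⟨4 * a, 4 * b, 4 * c, 4 * e, inv_eq_of_mul_eq_one_right ?_⟩
    have h1 : Commute (D.Φ c e) (D.f ^ (4 * a) * D.z ^ (4 * b)) :=
      (((D.fz2.symm.pow_pow c _).mul_left (D.fz3.symm.pow_pow e _))).mul_right
        ((hY.symm.pow_pow c _).mul_left ((D.zz3 hY).symm.pow_pow e _))
    rw [h1.mul_mul_mul_comm, (D.fz.symm.pow_pow b _).mul_mul_mul_comm, ← pow_add, ← pow_add]
    show _ * _ * (D.z2 ^ c * D.z3 ^ e * (D.z2 ^ (4 * c) * D.z3 ^ (4 * e))) = _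
    rw [((D.z23 hY).symm.pow_pow e _).mul_mul_mul_comm, ← pow_add, ← pow_add,
      show a + 4 * a = 5 * a by omega, show b + 4 * b = 5 * b by omega, show c + 4 * c = 5 * c by omega,
      show e + 4 * e = 5 * e by omega, pow_mul, pow_mul, pow_mul, pow_mul, D.f5, D.z5, D.z2_five,
      D.z3_five]
    simp

/-- Inverted elements. -/
theorem inverted_mem (hY : Commute D.z D.z2) {w : G} (hw : w ∈ D.K) (ho : Odd (orderOf w))
    (ht : t * w * t⁻¹ = w⁻¹) : ∃ c e, c < 5 ∧ e < 5 ∧ w = D.Φ c e := by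
  have hW : w ∈ D.W hY := by
    refine D.odd_K_le ?_ ?_ ?_ hw ho
    · rw [closure_le]
      intro x hx
      simp only [Set.mem_insert_iff, Set.mem_singleton_iff] at hx
      rcases hx with rfl | rfl
      · exact ⟨1, 0, 0, 0, by simp [Φ]⟩
      · exact ⟨0, 1, 0, 0, by simp [Φ]⟩
    · intro v hv ho' hd
      obtain ⟨a, b, rfl⟩ := D.fixed_d hv ho' hd
      exact ⟨a, 0, b, 0, by simp [Φ]⟩
    · intro v hv ho' hd
      obtain ⟨a, b, rfl⟩ := D.fixed_td hv ho' hd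
      exact ⟨a, 0, 0, b, by simp [Φ]⟩
  obtain ⟨a, b, c, e, rfl⟩ := hW
  set r := D.f ^ a * D.z ^ b with hr
  have hr5 : r ^ 5 = 1 := by
    rw [hr, (D.fz.pow_pow a b).mul_pow, ← pow_mul, ← pow_mul, mul_comm a, mul_comm b, pow_mul, pow_mul,
      D.f5, D.z5, one_pow, one_pow, one_mul]
  have hrt : Commute t r := (((C.hom_comm_t fE).pow_left a).mul_left ((C.hom_comm_t zE).pow_left b)).symm
  have hrΦ : Commute r (D.Φ c e) :=
    (((D.fz2.pow_pow a c).mul_left (hY.pow_pow b c))).mul_right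
      ((D.fz3.pow_pow a e).mul_left ((D.zz3 hY).pow_pow b e))
  have hr1 : r = 1 := by
    refine eq_one_of_sq_five ?_ hr5
    rw [cjm, conj_eq_self hrt, D.t_Φ hY, hrΦ.inv_right.eq, mul_inv_rev r (D.Φ c e), mul_left_cancel_iff] at ht
    exact eq_inv_iff_mul_eq_one.1 ht
  refine ⟨c % 5, e % 5, Nat.mod_lt _ (by norm_num), Nat.mod_lt _ (by norm_num), ?_⟩
  rw [hr1, one_mul, ← D.Φ_mod]

theorem Φ_mem_K (hY : Commute D.z D.z2) (c e : ℕ) : D.Φ c e ∈ D.K :=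
  D.mem_K.2 ⟨((D.fz2.symm.pow_left c).mul_left (D.fz3.symm.pow_left e)),
    ((hY.symm.pow_left c).mul_left ((D.zz3 hY).symm.pow_left e))⟩

theorem Φ_five (hY : Commute D.z D.z2) (c e : ℕ) : D.Φ c e ^ 5 = 1 := by
  rw [Φ, ((D.z23 hY).pow_pow c e).mul_pow, ← pow_mul, ← pow_mul, mul_comm c, mul_comm e, pow_mul,
    pow_mul, D.z2_five, D.z3_five, one_pow, one_pow, one_mul]

theorem Φ_odd (hY : Commute D.z D.z2) (c e : ℕ) : Odd (orderOf (D.Φ c e)) :=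
  Odd.of_dvd_nat (by decide : Odd 5) (orderOf_dvd_iff_pow_eq_one.2 (D.Φ_five hY c e))

/-- The third element of order five. -/
noncomputable abbrev x (_ : Cfg C) : G := C.hom xE

theorem x_fix (hY : Commute D.z D.z2) :
    ∃ c e, c < 5 ∧ e < 5 ∧ ¬(c = 0 ∧ e = 0) ∧ Commute (D.Φ c e) D.x := by
  have hmv : ∀ p : Fin 5 × Fin 5, ∃ q : Fin 5 × Fin 5, D.x * D.Φ p.1.1 p.2.1 * D.x⁻¹ = D.Φ q.1.1 q.2.1 := by
    intro p
    set v := D.Φ p.1.1 p.2.1
    obtain ⟨hvf, hvz⟩ := D.mem_K.1 (D.Φ_mem_K hY p.1.1 p.2.1)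
    have hxz : D.x * D.z * D.x⁻¹ = D.z := conj_eq_self (C.commute_hom_iff.2 rels.xz)
    have hK : D.x * v * D.x⁻¹ ∈ D.K := by
      have h1 := (Commute.conj_iff D.x).2 hvz
      rw [hxz] at h1
      refine D.mem_K.2 ⟨?_, h1⟩
      obtain ⟨m, hm⟩ := rels.xfx
      have h2 := (Commute.conj_iff D.x).2 hvf
      rw [show D.x * D.f * D.x⁻¹ = D.f * D.z ^ m by
        rw [← map_inv, ← map_mul, ← map_mul, hm, map_mul, map_pow]] at h2
      have h3 := h2.mul_right ((h1.pow_right m).inv_right)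
      rwa [mul_inv_cancel_right] at h3
    obtain ⟨c, e, hc, he, h⟩ := D.inverted_mem hY hK
      (by rw [Cfsg.Lib.Invol.orderOf_conj_eq]; exact D.Φ_odd hY _ _) (by
        have hxt : Commute t D.x := (C.hom_comm_t xE).symm
        calc t * (D.x * v * D.x⁻¹) * t⁻¹ = (t * D.x * t⁻¹) * (t * v * t⁻¹) * (t * D.x * t⁻¹)⁻¹ := by group
          _ = D.x * v⁻¹ * D.x⁻¹ := by rw [conj_eq_self hxt, D.t_Φ hY]
          _ = (D.x * v * D.x⁻¹)⁻¹ := by group)
    exact ⟨(⟨c, hc⟩, ⟨e, he⟩), h⟩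
  choose σ hσ using hmv
  have hinj : ∀ p q : Fin 5 × Fin 5, D.Φ p.1.1 p.2.1 = D.Φ q.1.1 q.2.1 → p = q := by
    intro p q h
    obtain ⟨h1, h2⟩ := D.Φ_inj hY h
    ext <;> omega
  have hσ5 : ∀ p, σ (σ (σ (σ (σ p)))) = p := by
    intro p
    refine hinj _ _ ?_
    rw [← hσ, ← hσ, ← hσ, ← hσ, ← hσ]
    have hx5 : D.x ^ 5 = 1 := by rw [← map_pow, rels.x5, map_one]
    calc _ = D.x ^ 5 * D.Φ p.1.1 p.2.1 * (D.x ^ 5)⁻¹ := by simp [pow_succ, mul_assoc]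
      _ = _ := by rw [hx5]; simp
  let s : Equiv.Perm (Fin 5 × Fin 5) :=
    ⟨σ, fun p => σ (σ (σ (σ p))), hσ5, hσ5⟩
  haveI : Fact (Nat.Prime 5) := ⟨by norm_num⟩
  obtain ⟨q, hq, hq0⟩ := Equiv.Perm.exists_fixed_point_of_prime' (σ := s) (p := 5) (n := 1) (by simp)
    (Equiv.ext fun p => by simpa [pow_succ, s] using hσ5 p) (a := (0, 0)) (hinj _ _ (by
      rw [show s (0, 0) = σ (0, 0) from rfl, ← hσ]; simp [Φ]))
  refine ⟨q.1.1, q.2.1, q.1.2, q.2.2, fun h => hq0 (Prod.ext (Fin.ext h.1) (Fin.ext h.2)), ?_⟩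
  have := hσ q
  rw [show σ q = q from hq] at this
  exact (commute_of_conj this).symm

/-- The elements considered. -/
def J (v : G) : Prop := (∃ c e, c < 5 ∧ e < 5 ∧ v = D.Φ c e) ∧ Commute v D.x

theorem J_inv_conj (hY : Commute D.z D.z2) {r : PS} (hr : r ∈ [aE, bE]) {v : G} (hv : D.J v) :
    D.J ((C.hom r)⁻¹ * v * C.hom r) := by
  obtain ⟨⟨c, e, -, -, rfl⟩, hvx⟩ := hv
  obtain ⟨hvf, hvz⟩ := D.mem_K.1 (D.Φ_mem_K hY c e)
  set R := C.hom r
  have key : ∀ g ∈ [fE, zE, xE], Commute (R⁻¹ * D.Φ c e * R) (C.hom g) := by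
    intro g hg
    obtain ⟨i, -, hi⟩ := rels.nrm r hr g hg
    have h1 : Commute (D.Φ c e) (R * C.hom g * R⁻¹) := by
      rw [← map_inv, ← map_mul, ← map_mul, hi, pElt, pv_append, pv_append, pv_wpow, pv_wpow, pv_wpow,
        map_mul, map_mul, map_pow, map_pow, map_pow]
      exact ((hvf.pow_right _).mul_right (hvz.pow_right _)).mul_right (hvx.pow_right _)
    have h2 := (Commute.conj_iff R⁻¹).2 h1
    rwa [inv_inv, show R⁻¹ * (R * C.hom g * R⁻¹) * R = C.hom g by group] at h2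
  refine ⟨D.inverted_mem hY (D.mem_K.2 ⟨key fE (by simp), key zE (by simp)⟩) ?_ ?_, key xE (by simp)⟩
  · rw [show R⁻¹ * D.Φ c e * R = R⁻¹ * D.Φ c e * R⁻¹⁻¹ by rw [inv_inv], Cfsg.Lib.Invol.orderOf_conj_eq]
    exact D.Φ_odd hY _ _
  · have hRt : Commute t R := (C.hom_comm_t r).symm
    calc t * (R⁻¹ * D.Φ c e * R) * t⁻¹ = (t * R * t⁻¹)⁻¹ * (t * D.Φ c e * t⁻¹) * (t * R * t⁻¹) := by group
      _ = R⁻¹ * (D.Φ c e)⁻¹ * R := by rw [conj_eq_self hRt, D.t_Φ hY]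
      _ = (R⁻¹ * D.Φ c e * R)⁻¹ := by group

theorem J_conj (hY : Commute D.z D.z2) {r : PS} (hr : r ∈ [aE, bE]) {v : G} (hv : D.J v) :
    D.J (C.hom r * v * (C.hom r)⁻¹) := by
  have h : ∀ k : ℕ, D.J (((C.hom r)⁻¹) ^ k * v * (((C.hom r)⁻¹) ^ k)⁻¹) := by
    intro k
    induction k with
    | zero => simpa using hv
    | succ k ih =>
      have := D.J_inv_conj hY hr ih
      refine (congrArg D.J ?_).mp this
      rw [pow_succ']
      group
  have := h (orderOf (C.hom r)⁻¹ - 1)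
  rwa [show ((C.hom r)⁻¹) ^ (orderOf (C.hom r)⁻¹ - 1) = C.hom r from mul_left_cancel (a := (C.hom r)⁻¹) (by
    rw [← pow_succ', Nat.sub_add_cancel (orderOf_pos _), pow_orderOf_eq_one, inv_mul_cancel])] at this

theorem x_comm_all (hY : Commute D.z D.z2) : ∀ c e : ℕ, Commute (D.Φ c e) D.x := by
  obtain ⟨c0, e0, hc0, he0, hne, hfix⟩ := D.x_fix hY
  haveI : Fact (Nat.Prime 5) := ⟨by norm_num⟩
  set v0 := D.Φ c0 e0 with hv0
  have hv01 : v0 ≠ 1 := fun h => hne (D.Φ_eq_one hY hc0 he0 h)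
  have hv05 : orderOf v0 = 5 := orderOf_eq_prime (D.Φ_five hY _ _) hv01
  by_contra hnot
  -- all elements considered are powers of `v0`
  have hJ : ∀ v, D.J v → v ∈ zpowers v0 := by
    rintro v ⟨⟨c, e, hc, he, rfl⟩, hvx⟩
    by_contra hout
    let X : Subgroup G :=
      { carrier := {g | ∃ c e : ℕ, g = D.Φ c e}
        one_mem' := ⟨0, 0, by simp [Φ]⟩
        mul_mem' := by
          rintro _ _ ⟨c, e, rfl⟩ ⟨c', e', rfl⟩
          refine ⟨c + c', e + e', ?_⟩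
          rw [Φ, Φ, Φ, ((D.z23 hY).symm.pow_pow e c').mul_mul_mul_comm, ← pow_add, ← pow_add]
        inv_mem' := by
          rintro _ ⟨c, e, rfl⟩
          refine ⟨4 * c, 4 * e, inv_eq_of_mul_eq_one_right ?_⟩
          rw [Φ, Φ, ((D.z23 hY).symm.pow_pow e _).mul_mul_mul_comm, ← pow_add, ← pow_add,
            show c + 4 * c = 5 * c by omega, show e + 4 * e = 5 * e by omega, pow_mul, pow_mul,
            D.z2_five, D.z3_five, one_pow, one_pow, one_mul] }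
    have hcX : Nat.card X ≤ 25 := by
      refine (Nat.card_le_card_of_surjective (fun p : Fin 5 × Fin 5 => (⟨D.Φ p.1.1 p.2.1, _, _, rfl⟩ : X))
        fun g => ?_).trans (by simp)
      obtain ⟨c, e, hg⟩ := g.2
      refine ⟨(⟨c % 5, Nat.mod_lt _ (by norm_num)⟩, ⟨e % 5, Nat.mod_lt _ (by norm_num)⟩), Subtype.ext ?_⟩
      rw [hg, D.Φ_mod c e]
    set Y := X ⊓ centralizer ({D.x} : Set G)
    have h0Y : zpowers v0 ≤ Y := zpowers_le.2 ⟨⟨c0, e0, rfl⟩, mem_centralizer_singleton_iff.2 hfix.eq⟩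
    have hvY : D.Φ c e ∈ Y := ⟨⟨c, e, rfl⟩, mem_centralizer_singleton_iff.2 hvx.eq⟩
    have hlt : zpowers v0 < Y := lt_of_le_of_ne h0Y fun h => hout (h ▸ hvY)
    have h5 : 5 ∣ Nat.card Y := by
      have := Subgroup.card_dvd_of_le h0Y
      rwa [Nat.card_zpowers, hv05] at this
    have hYlt : 5 < Nat.card Y := by
      refine lt_of_le_of_ne (Nat.le_of_dvd Nat.card_pos h5) fun h => hlt.ne ?_
      exact Subgroup.eq_of_le_of_card_ge h0Y (by rw [Nat.card_zpowers, hv05, ← h])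
    have hXY : Y = X := by
      refine Subgroup.eq_of_le_of_card_ge inf_le_left ?_
      have hcard : Nat.card X = 25 := by
        refine le_antisymm hcX ?_
        rw [show 25 = Nat.card (Fin 5 × Fin 5) by simp]
        refine Nat.card_le_card_of_injective (fun p => (⟨D.Φ p.1.1 p.2.1, _, _, rfl⟩ : X)) fun p q h => ?_
        obtain ⟨h1, h2⟩ := D.Φ_inj hY (congrArg Subtype.val h)
        ext <;> omega
      have hd := Subgroup.card_dvd_of_le (inf_le_left : Y ≤ X)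
      rw [hcard] at hd ⊢
      obtain ⟨j, hj, hj'⟩ := (Nat.dvd_prime_pow (by norm_num : Nat.Prime 5)).1 (show Nat.card Y ∣ 5 ^ 2 from hd)
      interval_cases j <;> simp_all
    refine hnot fun c' e' => ?_
    have : D.Φ c' e' ∈ Y := by rw [hXY]; exact ⟨c', e', rfl⟩
    exact mem_centralizer_singleton_iff.1 this.2
  -- the fourth power of the second generator inverts `v0`
  set B := C.hom bE with hB
  obtain ⟨k, hk⟩ := mem_powers_iff_mem_zpowers.2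
    (hJ _ (D.J_conj hY (r := bE) (by simp) (v := v0) ⟨⟨c0, e0, hc0, he0, rfl⟩, hfix⟩))
  have hk' : B * v0 * B⁻¹ = v0 ^ k := hk.symm
  have h4 : B ^ 4 * v0 * (B ^ 4)⁻¹ = v0 ^ (k ^ 4) := by
    calc B ^ 4 * v0 * (B ^ 4)⁻¹ = B * (B * (B * (B * v0 * B⁻¹) * B⁻¹) * B⁻¹) * B⁻¹ := by
          simp [pow_succ, mul_assoc]
      _ = v0 ^ (k ^ 4) := by
        simp only [hk', ← conj_pow, ← pow_mul]
        congr 1; ring
  have hB4 : B ^ 4 = t := by rw [hB, ← map_pow, rels.b4, C.hom_zc]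
  rw [hB4, D.t_Φ hY, ← hv0] at h4
  have hk5 : k % 5 = 0 ∨ k ^ 4 % 5 = 1 := by
    have : k % 5 < 5 := Nat.mod_lt _ (by norm_num)
    rw [Nat.pow_mod]
    interval_cases k % 5 <;> norm_num
  rcases hk5 with h | h
  · rw [pow_eq_pow_mod k (D.Φ_five hY c0 e0), h, pow_zero, conj_eq_one_iff] at hk'
    exact hv01 hk'
  · rw [pow_eq_pow_mod _ (D.Φ_five hY c0 e0), h, pow_one] at h4
    refine hv01 (eq_one_of_sq_five ?_ (D.Φ_five hY c0 e0))
    rw [← hv0] at h4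
    exact mul_eq_one_iff_eq_inv.2 h4.symm

/-- The matrix of a conjugation on the two conjugates, as a number. -/
def HasMat (g : G) (i : ℕ) : Prop := i < 625 ∧ g * D.z2 * g⁻¹ = D.Φ (i / 125) (i / 5 % 5) ∧
  g * D.z3 * g⁻¹ = D.Φ (i / 25 % 5) (i % 5)

theorem conj_Φ (g : G) (c e : ℕ) : g * D.Φ c e * g⁻¹ = (g * D.z2 * g⁻¹) ^ c * (g * D.z3 * g⁻¹) ^ e := by
  rw [Φ, cjm, ← conj_pow, ← conj_pow]

theorem mat_mul (hY : Commute D.z D.z2) {g h : G} {i j : ℕ} (hg : D.HasMat g i) (hh : D.HasMat h j) :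
    D.HasMat (g * h) (mm5 i j) := by
  obtain ⟨hi, g2, g3⟩ := hg
  obtain ⟨hj, h2, h3⟩ := hh
  have key : ∀ c e : ℕ, g * D.Φ c e * g⁻¹ =
      D.Φ ((i / 125 * c + i / 25 % 5 * e) % 5) ((i / 5 % 5 * c + i % 5 * e) % 5) := by
    intro c e
    conv_rhs => rw [← D.Φ_mod]
    rw [D.conj_Φ, g2, g3, Φ, Φ, Φ, ((D.z23 hY).pow_pow _ _).mul_pow, ((D.z23 hY).pow_pow _ _).mul_pow,
      ← pow_mul, ← pow_mul, ← pow_mul, ← pow_mul,
      ((D.z23 hY).symm.pow_pow _ _).mul_mul_mul_comm, ← pow_add, ← pow_add]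
  have e2 : g * h * D.z2 * (g * h)⁻¹ = g * (h * D.z2 * h⁻¹) * g⁻¹ := by group
  have e3 : g * h * D.z3 * (g * h)⁻¹ = g * (h * D.z3 * h⁻¹) * g⁻¹ := by group
  have hm : mm5 i j = (i / 125 * (j / 125) + i / 25 % 5 * (j / 5 % 5)) % 5 * 125 +
      (i / 125 * (j / 25 % 5) + i / 25 % 5 * (j % 5)) % 5 * 25 +
      (i / 5 % 5 * (j / 125) + i % 5 * (j / 5 % 5)) % 5 * 5 +
      (i / 5 % 5 * (j / 25 % 5) + i % 5 * (j % 5)) % 5 := by
    simp only [mm5, Cfsg.Lib.CosetEnum.force_eq]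
  have dig : ∀ A B A' B' : ℕ, A < 5 → B < 5 → A' < 5 → B' < 5 → A * 125 + B * 25 + A' * 5 + B' < 625 ∧
      (A * 125 + B * 25 + A' * 5 + B') / 125 = A ∧ (A * 125 + B * 25 + A' * 5 + B') / 25 % 5 = B ∧
      (A * 125 + B * 25 + A' * 5 + B') / 5 % 5 = A' ∧ (A * 125 + B * 25 + A' * 5 + B') % 5 = B' :=
    fun A B A' B' _ _ _ _ => by omega
  obtain ⟨d0, d1, d2, d3, d4⟩ := dig _ _ _ _ (Nat.mod_lt _ (by norm_num)) (Nat.mod_lt _ (by norm_num))
    (Nat.mod_lt _ (by norm_num)) (Nat.mod_lt _ (by norm_num))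
  refine ⟨?_, ?_, ?_⟩
  · rw [hm]; exact d0
  · rw [e2, h2, key, hm, d1, d3]
  · rw [e3, h3, key, hm, d2, d4]

theorem mat_unique (hY : Commute D.z D.z2) {g : G} {i j : ℕ} (hg : D.HasMat g i) (hh : D.HasMat g j) :
    i = j := by
  obtain ⟨hi, g2, g3⟩ := hg
  obtain ⟨hj, h2, h3⟩ := hh
  obtain ⟨a1, a2⟩ := D.Φ_inj hY (g2.symm.trans h2)
  obtain ⟨a3, a4⟩ := D.Φ_inj hY (g3.symm.trans h3)
  omega

theorem caseY (hY : Commute D.z D.z2) (hA : ∃ g : G, g * C.rg 0 * g⁻¹ = t) : False := by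
  haveI : Fact (Nat.Prime 5) := ⟨by norm_num⟩
  have hx := D.x_comm_all hY
  have hmat : ∀ r ∈ [aE, bE], ∃ i, D.HasMat (C.hom r) i := by
    intro r hr
    obtain ⟨⟨c, e, hc, he, h2⟩, -⟩ := D.J_conj hY hr (v := D.Φ 1 0)
      ⟨⟨1, 0, by norm_num, by norm_num, rfl⟩, hx 1 0⟩
    obtain ⟨⟨c', e', hc', he', h3⟩, -⟩ := D.J_conj hY hr (v := D.Φ 0 1)
      ⟨⟨0, 1, by norm_num, by norm_num, rfl⟩, hx 0 1⟩
    simp only [Φ, pow_one, pow_zero, mul_one, one_mul] at h2 h3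
    refine ⟨c * 125 + c' * 25 + e * 5 + e', by omega, ?_, ?_⟩
    · rw [h2, show (c * 125 + c' * 25 + e * 5 + e') / 125 = c by omega,
        show (c * 125 + c' * 25 + e * 5 + e') / 5 % 5 = e by omega]
    · rw [h3, show (c * 125 + c' * 25 + e * 5 + e') / 25 % 5 = c' by omega,
        show (c * 125 + c' * 25 + e * 5 + e') % 5 = e' by omega]
  obtain ⟨i, hi⟩ := hmat aE (by simp)
  obtain ⟨j, hj⟩ := hmat bE (by simp)
  set A := C.hom aE
  set B := C.hom bE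
  have hjj := D.mat_mul hY hj hj
  have hj4 := D.mat_mul hY hjj hjj
  have hi2 := D.mat_mul hY hi hi
  have hi3 := D.mat_mul hY hi hi2
  have hlhs := D.mat_mul hY (D.mat_mul hY hi3 hjj) hi
  have hT : mm5 (mm5 j j) (mm5 j j) = 504 := by
    refine D.mat_unique hY hj4 ⟨by norm_num, ?_, ?_⟩
    · rw [show B * B * (B * B) = B ^ 4 by simp [pow_succ, mul_assoc], ← map_pow, rels.b4, C.hom_zc, D.t_z2]
      show D.z2⁻¹ = D.z2 ^ 4 * D.z3 ^ 0
      rw [pow_zero, mul_one]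
      exact inv_eq_of_mul_eq_one_right (by rw [← pow_succ']; exact D.z2_five)
    · rw [show B * B * (B * B) = B ^ 4 by simp [pow_succ, mul_assoc], ← map_pow, rels.b4, C.hom_zc, D.t_z3]
      show D.z3⁻¹ = D.z2 ^ 0 * D.z3 ^ 4
      rw [pow_zero, one_mul]
      exact inv_eq_of_mul_eq_one_right (by rw [← pow_succ']; exact D.z3_five)
  have hrel : mm5 (mm5 (mm5 i (mm5 i i)) (mm5 j j)) i = mm5 j j := by
    refine D.mat_unique hY hlhs ?_
    have : A * (A * A) * (B * B) * A = B * B := by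
      have := congrArg C.hom rels.rel
      simpa [map_mul, map_pow, pow_succ, mul_assoc] using this
    rw [this]
    exact hjj
  have h4 := hom_table hi.1 hj.1 hT hrel
  have hA4 := D.mat_mul hY hi3 hi
  rw [h4] at hA4
  set a := C.hom AE
  have hAa : A * (A * A) * A = a := by
    have := congrArg C.hom rels.a4
    simpa [map_pow, pow_succ, mul_assoc] using this
  rw [hAa] at hA4
  obtain ⟨-, ha2, ha3⟩ := hA4
  have hc2 : Commute a D.z2 := commute_of_conj (by rw [ha2]; show D.z2 ^ 1 * D.z3 ^ 0 = _; simp)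
  have hc3 : Commute a D.z3 := commute_of_conj (by rw [ha3]; show D.z2 ^ 0 * D.z3 ^ 1 = _; simp)
  have hcz : Commute a D.z := C.commute_hom_iff.2 rels.Az
  -- conjugate into the centraliser of `t`
  obtain ⟨gA, hgA⟩ := hA
  obtain ⟨r, hr⟩ := rels.AA
  set h := gA * C.hom r
  have hah : h * a * h⁻¹ = t := by
    refine Eq.trans ?_ hgA
    show gA * C.hom r * C.hom AE * (gA * C.hom r)⁻¹ = _
    rw [hr, C.rg_eq, show rep 0 = Data.repA from rfl, map_mul, map_mul, map_inv]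
    group
  have hpre : ∀ w : G, Commute a w → ∃ p, C.hom p = h * w * h⁻¹ := fun w hw => by
    refine C.hom_pre ?_
    have := (Commute.conj_iff h).2 hw.symm
    rwa [hah] at this
  obtain ⟨p1, hp1⟩ := hpre _ hcz
  obtain ⟨p2, hp2⟩ := hpre _ hc2
  obtain ⟨p3, hp3⟩ := hpre _ hc3
  have c12 : Commute p1 p2 := C.commute_hom_iff.1 (by rw [hp1, hp2]; exact (Commute.conj_iff h).2 hY)
  have c13 : Commute p1 p3 := C.commute_hom_iff.1 (by rw [hp1, hp3]; exact (Commute.conj_iff h).2 (D.zz3 hY))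
  have c23 : Commute p2 p3 := C.commute_hom_iff.1 (by rw [hp2, hp3]; exact (Commute.conj_iff h).2 (D.z23 hY))
  have h5 : ∀ {w : G} {p : PS}, w ^ 5 = 1 → C.hom p = h * w * h⁻¹ → p ^ 5 = 1 := fun {w p} hw hp =>
    C.hom_inj (by rw [map_pow, hp, conj_pow, hw, mul_one, mul_inv_cancel, map_one])
  have q1 := h5 D.z5 hp1
  have q2 := h5 D.z2_five hp2
  have q3 := h5 D.z3_five hp3
  let el : ℕ → ℕ → ℕ → PS := fun a b c => p1 ^ a * (p2 ^ b * p3 ^ c)
  let U : Subgroup PS :=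
    { carrier := {g | ∃ a b c : ℕ, g = el a b c}
      one_mem' := ⟨0, 0, 0, by simp [el]⟩
      mul_mem' := by
        rintro _ _ ⟨a, b, c, rfl⟩ ⟨a', b', c', rfl⟩
        refine ⟨a + a', b + b', c + c', ?_⟩
        simp only [el]
        rw [(((c12.pow_pow a' b).mul_right (c13.pow_pow a' c)).symm).mul_mul_mul_comm,
          (c23.symm.pow_pow c b').mul_mul_mul_comm, ← pow_add, ← pow_add, ← pow_add]
      inv_mem' := by
        rintro _ ⟨a, b, c, rfl⟩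
        refine ⟨4 * a, 4 * b, 4 * c, inv_eq_of_mul_eq_one_right ?_⟩
        simp only [el]
        rw [(((c12.pow_pow (4 * a) b).mul_right (c13.pow_pow (4 * a) c)).symm).mul_mul_mul_comm,
          (c23.symm.pow_pow c _).mul_mul_mul_comm, ← pow_add, ← pow_add, ← pow_add,
          show a + 4 * a = 5 * a by omega, show b + 4 * b = 5 * b by omega, show c + 4 * c = 5 * c by omega,
          pow_mul, pow_mul, pow_mul, q1, q2, q3]
        simp }
  refine no_abelian_125 U ?_ ?_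
  · rw [show 125 = Nat.card (Fin 5 × Fin 5 × Fin 5) by simp]
    refine (Nat.card_congr (Equiv.ofBijective
      (fun p : Fin 5 × Fin 5 × Fin 5 => (⟨el p.1.1 p.2.1.1 p.2.2.1, _, _, _, rfl⟩ : U))
      ⟨fun p q hpq => ?_, fun g => ?_⟩)).symm
    · have h1 := congrArg C.hom (congrArg Subtype.val hpq)
      simp only [el, map_mul, map_pow, hp1, hp2, hp3] at h1
      have hcp : ∀ (w : G) (k : ℕ), (h * w * h⁻¹) ^ k = h * w ^ k * h⁻¹ := fun w k => conj_pow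
      rw [hcp, hcp, hcp, hcp, hcp, hcp, ← cjm, ← cjm, ← cjm, ← cjm] at h1
      have h2 : D.z ^ p.1.1 * D.Φ p.2.1.1 p.2.2.1 = D.z ^ q.1.1 * D.Φ q.2.1.1 q.2.2.1 :=
        mul_left_cancel (mul_right_cancel h1)
      have h3 : D.z ^ (p.1.1 + 4 * q.1.1) = D.Φ q.2.1.1 q.2.2.1 * (D.Φ p.2.1.1 p.2.2.1)⁻¹ := by
        have hzp : ∀ c e, Commute (D.z ^ (4 * q.1.1)) (D.Φ c e) := fun c e =>
          (hY.pow_pow _ _).mul_right ((D.zz3 hY).pow_pow _ _)
        rw [eq_mul_inv_iff_mul_eq, pow_add, (((Commute.refl D.z).pow_pow _ _)).eq, mul_assoc, h2,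
          ← mul_assoc, ← pow_add, show 4 * q.1.1 + q.1.1 = 5 * q.1.1 by omega, pow_mul, D.z5, one_pow,
          one_mul]
      have ht : t * D.z ^ (p.1.1 + 4 * q.1.1) * t⁻¹ = D.z ^ (p.1.1 + 4 * q.1.1) :=
        conj_eq_self ((C.hom_comm_t zE).symm.pow_right _)
      have hΦc : Commute (D.Φ q.2.1.1 q.2.2.1) (D.Φ p.2.1.1 p.2.2.1) :=
        (((Commute.refl D.z2).pow_pow _ _).mul_right ((D.z23 hY).pow_pow _ _)).mul_left
          (((D.z23 hY).symm.pow_pow _ _).mul_right ((Commute.refl D.z3).pow_pow _ _))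
      have hinv : D.z ^ (p.1.1 + 4 * q.1.1) = (D.z ^ (p.1.1 + 4 * q.1.1))⁻¹ := by
        conv_lhs => rw [← ht, h3, cjm, ← conj_inv, D.t_Φ hY, D.t_Φ hY, inv_inv]
        rw [h3, mul_inv_rev (D.Φ q.2.1.1 q.2.2.1), inv_inv, hΦc.symm.inv_right.eq]
      have hz1 : D.z ^ (p.1.1 + 4 * q.1.1) = 1 := eq_one_of_sq_five
        (by nth_rewrite 2 [hinv]; exact mul_inv_cancel _)
        (by rw [← pow_mul, mul_comm, pow_mul, D.z5, one_pow])
      have hzne : D.z ≠ 1 := fun hz => rels.z_ne (C.hom_inj (hz.trans (map_one C.hom).symm))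
      have h5 := orderOf_dvd_iff_pow_eq_one.2 hz1
      rw [orderOf_eq_prime D.z5 hzne] at h5
      rw [hz1, eq_comm, mul_inv_eq_one] at h3
      obtain ⟨e1, e2⟩ := D.Φ_inj hY h3
      ext <;> omega
    · obtain ⟨a, b, c, hg⟩ := g.2
      refine ⟨(⟨a % 5, Nat.mod_lt _ (by norm_num)⟩, ⟨b % 5, Nat.mod_lt _ (by norm_num)⟩,
        ⟨c % 5, Nat.mod_lt _ (by norm_num)⟩), Subtype.ext ?_⟩
      rw [hg]
      simp only [el]
      rw [← pow_eq_pow_mod a q1, ← pow_eq_pow_mod b q2, ← pow_eq_pow_mod c q3]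
  · rintro _ ⟨a, b, c, rfl⟩ _ ⟨a', b', c', rfl⟩
    have hA : ∀ k, Commute p1 (p2 ^ b * p3 ^ k) := fun k => (c12.pow_right b).mul_right (c13.pow_right k)
    exact ((((Commute.refl p1).pow_pow a a').mul_right ((c12.pow_pow a b').mul_right (c13.pow_pow a c')))).mul_left
      ((((c12.symm.pow_pow b a').mul_left (c13.symm.pow_pow c a'))).mul_right
        ((((Commute.refl p2).pow_pow b b').mul_left (c23.symm.pow_pow c b')).mul_right
          (((c23.pow_pow b c').mul_left ((Commute.refl p3).pow_pow c c')))))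

end Cfg

namespace CMap

/-- The second outer class is not fused to `t`. -/
theorem not_fused_D (C : CMap t false) (g : G) : g * C.rg 3 * g⁻¹ ≠ t := by
  intro hg
  obtain ⟨n, n3, nf, nt, nd, ntd⟩ := C.exists_three ⟨g, hg⟩
  let D : Cfg C := ⟨n, n3, nf, nt, nd, ntd⟩
  obtain ⟨u, hnu, hu⟩ := C.three_fixes ⟨g, hg⟩ n3 nf nt nd ntd
  obtain ⟨y, hy, hyn, hyu⟩ := C.exists_five D.ordn hnu hu
  by_cases hY : Commute D.z D.z2
  · exact D.caseY hY (C.A_fused ⟨g, hg⟩)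
  · exact D.caseN hY hy hyn hyu hnu hu

end CMap

end Cfsg.Lib.HNType
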