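import Cfsg.Agent.Lib.HNType.CentSearch
import Cfsg.Agent.Lib.HNType.KillData

/-!
# Definitions of the checks for the argument excluding fusion of the second outer class
-/

set_option autoImplicit false
set_option maxRecDepth 100000
set_option maxHeartbeats 0
set_option Elab.async false

namespace Cfsg.Lib.HNType

open Cfsg.Lib.HN
open Cfsg.Lib.CosetEnum (force)

/-- Decode a list of words. -/
noncomputable def dec (l : List ℕ) : List (List ℕ) := l.map (unpackW 200)

/-- The levels of the search for the representative of the second outer class. -/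
noncomputable def dLevels : List Lev := [(0, dec KData.dT0), (652, dec KData.dT1),
  (4, dec KData.dT2), (7, dec KData.dT3), (8, dec KData.dT4)]

/-- The levels of the search for the element of order five. -/
noncomputable def fLevels : List Lev := [(0, dec KData.fT0), (233, dec KData.fT1),
  (259, dec KData.fT2), (748, dec KData.fT3)]

/-- An orbit entry. -/
noncomputable def entry (l : List (List ℕ)) (j : ℕ) : ℕ := (l.getD (j / 128) []).getD (j % 128) 0

/-- The representatives. -/
noncomputable def repsOf (T0 : List ℕ) (idx : List ℕ) : List (List ℕ) :=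
  idx.map fun i => unpackW 200 (T0.getD i 0)

/-- The orbit checks on a block. -/
noncomputable def orbBlock (w : List ℕ) (T0 : List ℕ) (pts1 : List ℕ) (orbs : List (List ℕ))
    (idx : List ℕ) (lo : ℕ) : Bool :=
  (List.range 128).all fun k => force (lo + k) fun j =>
    orbOK w (unpackW 200 (T0.getD j 0)) pts1 (repsOf T0 idx) (entry orbs j)

/-- Equality of lists of numbers. -/
noncomputable def beqN : List ℕ → List ℕ → Bool
  | [], [] => true
  | a :: l, b :: m => Nat.beq a b && beqN l m
  | _, _ => false

/-- A power of a word. -/
def wpow (w : List ℕ) : ℕ → List ℕ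
  | 0 => []
  | n + 1 => w ++ wpow w n

/-- The exponents of an element of the centraliser of order 100. -/
def fExp (i : ℕ) : ℕ × ℕ × ℕ × ℕ := (i / 20, i / 4 % 5, i / 2 % 2, i % 2)

/-- An element of the centraliser of order 100. -/
def fElt (i : ℕ) : List ℕ :=
  wpow KData.fW (fExp i).1 ++ wpow KData.zW (fExp i).2.1 ++ wpow Data.repD (fExp i).2.2.1 ++
    wpow [0, 0] (fExp i).2.2.2

/-- An element of the Sylow 5-subgroup. -/
def pElt (i : ℕ) : List ℕ :=
  wpow KData.fW (i / 25) ++ wpow KData.zW (i / 5 % 5) ++ wpow KData.xW (i % 5)

/-- The two starting squares. -/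
def uW : ℕ → List ℕ
  | 0 => KData.u0W
  | _ => KData.u1W

/-- The ten squares in the class of `A`. -/
def sqElt (i : ℕ) : List ℕ :=
  wpow KData.fW (i % 5) ++ uW (i / 5) ++ winv (wpow KData.fW (i % 5))

/-- A property of all listed elements of a centraliser. -/
noncomputable def allListed (orbs : List (List ℕ)) (stab : List (List (List ℕ))) (p : List ℕ → Bool)
    (lo : ℕ) : Bool :=
  (List.range 128).all fun k => force (entry orbs (lo + k)) fun e =>
    Nat.beq e 0 || (let h := unpackW 200 (e / 16)
      (stab.getD (e % 16 - 1) []).all fun s => p (h ++ s))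

/-- The listed elements of the centraliser of order 100. -/
noncomputable def fListed (g : List ℕ) : Bool :=
  force (keyOf g) fun k => KData.fKeys.any (Nat.beq k)

/-- The squares of elements of order four. -/
noncomputable def sqListed (g : List ℕ) : Bool :=
  (force (keyOf (g ++ g)) fun k => Nat.beq k (keyOf []) || KData.sqKeys.any (Nat.beq k)) ||
    !Nat.beq (keyOf (g ++ g ++ (g ++ g))) (keyOf [])

end Cfsg.Lib.HNType
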