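import Cfsg.Agent.Lib.HNType.KillDefs

/-!
# The levels
-/

set_option autoImplicit false
set_option maxRecDepth 100000
set_option maxHeartbeats 0
set_option Elab.async false

namespace Cfsg.Lib.HNType

open Cfsg.Lib.HN
open Cfsg.Lib.CosetEnum (force)

theorem dLevels_ok : levelsOK [] dLevels = true := by decide +kernel

theorem fLevels_ok : levelsOK [] fLevels = true := by decide +kernel

theorem dLevels_size : Nat.beq (levSize dLevels) 177408000 = true := by decide +kernel

theorem fLevels_size : Nat.beq (levSize fLevels) 177408000 = true := by decide +kernel

theorem dFirst : Nat.beq (pim Data.repD 0) 652 = true ∧ lw Data.repD = true := by decide +kernel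

theorem fFirst : Nat.beq (pim KData.fW 0) 233 = true ∧ lw KData.fW = true := by decide +kernel

theorem dPts1_ok : beqN ((dec KData.dT1).map fun u => pim u 652) KData.dPts1 = true := by decide +kernel

theorem fPts1_ok : beqN ((dec KData.fT1).map fun u => pim u 233) KData.fPts1 = true := by decide +kernel

end Cfsg.Lib.HNType
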