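import Cfsg.Agent.Lib.HNType.Hom

/-!
# Groups of Harada–Norton type contain the presented group
-/

set_option autoImplicit false

namespace Cfsg.Lib.HNType

open Cfsg.Lib.HN

/-- The data from the hypotheses. -/
theorem exists_map {G : Type*} [Group G] [Finite G] [IsSimpleGroup G] (t : G) (ht : orderOf t = 2)
    (M : Subgroup (Subgroup.centralizer ({t} : Set G))) [M.Normal] (hM : M.index = 2)
    (hout : Subgroup.centralizer (M : Set (Subgroup.centralizer ({t} : Set G))) ≤ M)
    (hcov : IsNonsplitDoubleCover M Spor.HS) :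
    ∃ (C : CMap t false) (φ : Spor.HN →* G), Function.Injective φ ∧ ∀ a, φ (φP a) = C.e a := by
  obtain ⟨tw, ⟨C⟩⟩ := exists_cmap t ht M hM hout hcov
  cases tw
  · exact ⟨C, C.exists_embedding⟩
  · exact C.not_twin.elim

end Cfsg.Lib.HNType
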