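import Cfsg.Agent.Lib.HNType.Keys
import Cfsg.Agent.Lib.HNType.SylData

/-!
# The checks on the Sylow 2-subgroup
-/

set_option autoImplicit false
set_option maxRecDepth 100000
set_option maxHeartbeats 0

namespace Cfsg.Lib.HNType

open Cfsg.Lib.HN
open Cfsg.Lib.CosetEnum (force)

/-- A row. -/
noncomputable def row (i : ℕ) : ℕ × List ℕ × List ℕ :=
  (Data.rows.getD (i / 64) []).getD (i % 64) (0, [], [])

/-- The word of a path. -/
noncomputable def pword (p : List ℕ) : List ℕ := (p.map fun j => Data.gens.getD j []).flatten

/-- The word of a row. -/
noncomputable def rword (i : ℕ) : List ℕ := pword (row i).2.1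

/-- Parity of the outer letters. -/
noncomputable def outerB : List ℕ → Bool
  | [] => false
  | g :: l => (Nat.beq g 2) ^^ outerB l

/-- The row of a product, following a path. -/
noncomputable def mulPath : List ℕ → ℕ → ℕ
  | [], i => i
  | j :: l, i => force (mulPath l i) fun k => (row k).2.2.getD j 0

/-- A product row: parents and closure under left multiplication. -/
noncomputable def rowOK (i : ℕ) : Bool :=
  force i fun i => force (row i).1 fun k =>
    ((List.range 4).all fun j => force j fun j => force ((row i).2.2.getD j 0) fun c =>
      Nat.blt c 2048 && Nat.beq (pack (imgs (Data.gens.getD j []) (unpack k))) (row c).1) &&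
    match (row i).2.1 with
    | [] => Nat.beq i 0 && Nat.beq k (keyOf [])
    | j :: l => force ((row i).2.2.getD 4 0) fun p => Nat.blt j 4 && Nat.blt p i &&
        beqPath (row p).2.1 l && Nat.beq ((row p).2.2.getD j 0) i
where
  /-- Equality of paths. -/
  beqPath : List ℕ → List ℕ → Bool
    | [], [] => true
    | a :: l, b :: m => Nat.beq a b && beqPath l m
    | _, _ => false

/-- A member of the order. -/
noncomputable def ord (i : ℕ) : ℕ := (Data.ordBlocks.getD (i / 64) []).getD (i % 64) 0

/-- The order is by keys. -/
noncomputable def incOK (i : ℕ) : Bool :=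
  Nat.blt (ord i) 2048 && Nat.blt (row (ord i)).1 (row (ord (i + 1))).1

/-- Parity of the outer letters of a path. -/
noncomputable def pOuter : List ℕ → Bool
  | [] => false
  | j :: l => outerB (Data.gens.getD j []) ^^ pOuter l

/-- The central involution. -/
noncomputable def zIdx : ℕ := 894

/-- The row of the square, with the twist. -/
noncomputable def sqIdx (tw : Bool) (i : ℕ) : ℕ :=
  force i fun i => force (mulPath (row i).2.1 i) fun k =>
    cond (tw && pOuter (row i).2.1) (mulPath (row zIdx).2.1 k) k

/-- The representative of a class. -/
def rep : ℕ → List ℕ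
  | 0 => Data.repA
  | 1 => Data.repB
  | 2 => Data.repC
  | 3 => Data.repD
  | _ => [0, 0]

/-- An entry of the list of involutions. -/
noncomputable def invEntryOK (e : ℕ × ℕ × List ℕ) : Bool :=
  Nat.blt e.1 2048 && Nat.blt e.2.1 5 && lw e.2.2 &&
    Nat.beq (keyOf (winv e.2.2 ++ rep e.2.1 ++ e.2.2)) (row e.1).1

/-- The number of roots of a row. -/
noncomputable def roots (tw : Bool) (r : ℕ) : ℕ :=
  ((List.range 2048).filter fun i => Nat.beq (sqIdx tw i) r).length

/-- Every involution is listed. -/
noncomputable def invCoverOK (tw : Bool) (i : ℕ) : Bool :=
  force i fun i => !Nat.beq (sqIdx tw i) 0 || Nat.beq i 0 || Data.invs.any fun e => Nat.beq e.1 i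

/-- No outer involution in the twisted group. -/
noncomputable def twInnerOK (i : ℕ) : Bool :=
  !Nat.beq (sqIdx true i) 0 || !pOuter (row i).2.1

theorem rows_ok0 : ((List.range 256).all fun i => rowOK (0 + i)) = true := by decide +kernel

theorem rows_ok1 : ((List.range 256).all fun i => rowOK (256 + i)) = true := by decide +kernel

theorem rows_ok2 : ((List.range 256).all fun i => rowOK (512 + i)) = true := by decide +kernel

theorem rows_ok3 : ((List.range 256).all fun i => rowOK (768 + i)) = true := by decide +kernel

theorem rows_ok4 : ((List.range 256).all fun i => rowOK (1024 + i)) = true := by decide +kernel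

theorem rows_ok5 : ((List.range 256).all fun i => rowOK (1280 + i)) = true := by decide +kernel

theorem rows_ok6 : ((List.range 256).all fun i => rowOK (1536 + i)) = true := by decide +kernel

theorem rows_ok7 : ((List.range 256).all fun i => rowOK (1792 + i)) = true := by decide +kernel

theorem inc_ok : (List.range 2047).all incOK = true := by decide +kernel

theorem idx_ok : Nat.beq (row zIdx).1 (keyOf [0, 0]) && Nat.beq (row 1331).1 (keyOf Data.repA) &&
    Nat.beq (row 2014).1 (keyOf Data.repB) = true := by decide +kernel

theorem twInner_ok : (List.range 2048).all twInnerOK = true := by decide +kernel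

theorem invs_ok : Data.invs.all invEntryOK = true := by decide +kernel

theorem invs_inner : (Data.invs.all fun e => outerB (rep e.2.1) == pOuter (row e.1).2.1) = true := by
  decide +kernel

theorem cover_ok : ((List.range 2048).all fun i => invCoverOK true i && invCoverOK false i) = true := by
  decide +kernel

theorem roots_false : (roots false zIdx, roots false 1331, roots false 2014) = (80, 80, 112) := by
  decide +kernel

theorem roots_true : (roots true zIdx, roots true 1331, roots true 2014) = (288, 96, 96) := by
  decide +kernel

end Cfsg.Lib.HNType
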