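import Cfsg.Agent.Lib.HNType.SylChecks

/-!
# A Sylow 2-subgroup of the double cover of `HS:2` and its twin
-/

set_option autoImplicit false
set_option maxRecDepth 100000

namespace Cfsg.Lib.HNType

open Cfsg.Lib.HN Cfsg.Lib.HN.Sub100
open Cfsg.Lib.CosetEnum (force force_eq)

/-- The value of a word in the double cover. -/
noncomputable abbrev pv (w : List ℕ) : PS := val (wgen relP) w

/-- The element of a row. -/
noncomputable def el (i : ℕ) : PS := pv (rword i)

theorem pv_append (a b : List ℕ) : pv (a ++ b) = pv a * pv b := val_append _ _ _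

theorem pword_cons (j : ℕ) (l : List ℕ) : pword (j :: l) = Data.gens.getD j [] ++ pword l := by
  simp [pword]

theorem gens_lw : ∀ j, j < 4 → lw (Data.gens.getD j []) = true := by decide +kernel

theorem row_facts {i : ℕ} (hi : i < 2048) : rowOK i = true := by
  have h : (List.range 256).all (fun k => rowOK (i / 256 * 256 + k)) = true := by
    have : i / 256 < 8 := by omega
    interval_cases hq : i / 256
    · exact rows_ok0
    · exact rows_ok1
    · exact rows_ok2
    · exact rows_ok3
    · exact rows_ok4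
    · exact rows_ok5
    · exact rows_ok6
    · exact rows_ok7
  have := List.all_eq_true.1 h (i % 256) (List.mem_range.2 (by omega))
  rwa [show i / 256 * 256 + i % 256 = i by omega] at this

theorem beqPath_eq : ∀ {l m : List ℕ}, rowOK.beqPath l m = true → l = m
  | [], [], _ => rfl
  | a :: l, b :: m, h => by
    simp only [rowOK.beqPath, Bool.and_eq_true, Nat.beq_eq] at h
    rw [h.1, beqPath_eq h.2]
  | [], _ :: _, h => by simp [rowOK.beqPath] at h
  | _ :: _, [], h => by simp [rowOK.beqPath] at h

theorem row_basic : ∀ {i : ℕ}, i < 2048 →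
    (∀ j ∈ (row i).2.1, j < 4) ∧ lw (rword i) = true ∧ keyOf (rword i) = (row i).1 := by
  intro i
  induction i using Nat.strong_induction_on with
  | _ i ih =>
    intro hi
    have h := row_facts hi
    simp only [rowOK, force_eq, Bool.and_eq_true, List.all_eq_true] at h
    obtain ⟨hprod, hpath⟩ := h
    rcases hl : (row i).2.1 with _ | ⟨j, l⟩
    · rw [hl] at hpath
      simp only [Bool.and_eq_true, Nat.beq_eq] at hpath
      refine ⟨fun j hj => by simp at hj, ?_, ?_⟩
      · rw [rword, hl]; rfl
      · rw [rword, hl]; exact hpath.2.symm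
    · rw [hl] at hpath
      simp only [Bool.and_eq_true, Nat.beq_eq, Nat.blt_eq] at hpath
      obtain ⟨⟨⟨hj, hp⟩, hlp⟩, hc⟩ := hpath
      obtain ⟨h1, h2, h3⟩ := ih _ hp (hp.trans hi)
      rw [rword, beqPath_eq hlp] at h2 h3
      rw [beqPath_eq hlp] at h1
      have hw : rword i = Data.gens.getD j [] ++ pword l := by rw [rword, hl, pword_cons]
      refine ⟨fun k hk => ?_, ?_, ?_⟩
      · rcases List.mem_cons.1 hk with rfl | hk
        · exact hj
        · exact h1 k hk
      · rw [hw, lw_append]; exact ⟨gens_lw j hj, h2⟩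
      · have hr := row_facts (hp.trans hi)
        simp only [rowOK, force_eq, Bool.and_eq_true, List.all_eq_true] at hr
        have := hr.1 j (List.mem_range.2 hj)
        simp only [Nat.blt_eq, Nat.beq_eq] at this
        rw [hw, ← key_append h2, h3, this.2, hc]

theorem gen_mul_el {i j : ℕ} (hi : i < 2048) (hj : j < 4) :
    (row i).2.2.getD j 0 < 2048 ∧ pv (Data.gens.getD j []) * el i = el ((row i).2.2.getD j 0) := by
  have h := row_facts hi
  simp only [rowOK, force_eq, Bool.and_eq_true, List.all_eq_true] at h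
  have h' := h.1 j (List.mem_range.2 hj)
  simp only [Nat.blt_eq, Nat.beq_eq] at h'
  obtain ⟨-, hl, hk⟩ := row_basic hi
  obtain ⟨-, hl', hk'⟩ := row_basic h'.1
  refine ⟨h'.1, ?_⟩
  rw [el, el, ← pv_append]
  refine eq_of_key (lw_append.2 ⟨gens_lw j hj, hl⟩) hl' ?_
  rw [← key_append hl, hk, h'.2, hk']

theorem mulPath_spec : ∀ (l : List ℕ), (∀ j ∈ l, j < 4) → ∀ {i : ℕ}, i < 2048 →
    mulPath l i < 2048 ∧ pv (pword l) * el i = el (mulPath l i)
  | [], _, i, hi => ⟨hi, by simp [pword, mulPath, pv]⟩
  | j :: l, hl, i, hi => by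
    obtain ⟨h1, h2⟩ := mulPath_spec l (fun k hk => hl k (List.mem_cons_of_mem _ hk)) hi
    obtain ⟨h3, h4⟩ := gen_mul_el h1 (hl j (List.mem_cons_self ..))
    refine ⟨by simpa [mulPath, force_eq] using h3, ?_⟩
    rw [pword_cons, pv_append, mul_assoc, h2, h4]
    simp [mulPath, force_eq]

theorem el_mul {i j : ℕ} (hi : i < 2048) (hj : j < 2048) :
    mulPath (row i).2.1 j < 2048 ∧ el i * el j = el (mulPath (row i).2.1 j) :=
  mulPath_spec _ (row_basic hi).1 hj

theorem el_zero : el 0 = 1 := by
  have h := row_facts (i := 0) (by norm_num)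
  simp only [rowOK, force_eq, Bool.and_eq_true] at h
  rcases hl : (row 0).2.1 with _ | ⟨j, l⟩
  · simp [el, rword, hl, pword, pv]
  · have h2 := h.2
    rw [hl] at h2
    simp only [Bool.and_eq_true, Nat.blt_eq] at h2
    exact absurd h2.1.1.2 (Nat.not_lt_zero _)

theorem key_inj {i j : ℕ} (hi : i < 2048) (hj : j < 2048) (h : (row i).1 = (row j).1) : i = j := by
  have hord : ∀ a, a < 2047 → ord a < 2048 ∧ (row (ord a)).1 < (row (ord (a + 1))).1 := fun a ha => by
    have := List.all_eq_true.1 inc_ok a (List.mem_range.2 ha)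
    simpa [incOK, Bool.and_eq_true, Nat.blt_eq] using this
  have hlast : ord 2047 < 2048 := by decide +kernel
  let g : Fin 2048 → Fin 2048 := fun a => ⟨ord a.1, by
    rcases Nat.lt_or_ge a.1 2047 with h | h
    · exact (hord _ h).1
    · rw [show a.1 = 2047 by omega]; exact hlast⟩
  have hmono : ∀ a b : ℕ, a < b → b < 2048 → (row (ord a)).1 < (row (ord b)).1 := by
    intro a b hab hb
    induction b, hab using Nat.le_induction with
    | base => exact (hord a (by omega)).2
    | succ b hb' ih => exact (ih (by omega)).trans (hord b (by omega)).2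
  have hginj : Function.Injective g := fun a b e => by
    by_contra hne
    have e' : ord a.1 = ord b.1 := congrArg Fin.val e
    rcases Nat.lt_or_gt_of_ne (fun h => hne (Fin.ext h)) with h' | h'
    · exact (hmono _ _ h' b.2).ne (by rw [e'])
    · exact (hmono _ _ h' a.2).ne (by rw [e'])
  obtain ⟨a, ha⟩ := (Finite.injective_iff_surjective.1 hginj) ⟨i, hi⟩
  obtain ⟨b, hb⟩ := (Finite.injective_iff_surjective.1 hginj) ⟨j, hj⟩
  have ha' : ord a.1 = i := congrArg Fin.val ha
  have hb' : ord b.1 = j := congrArg Fin.val hb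
  rcases Nat.lt_trichotomy a.1 b.1 with h' | h' | h'
  · exact absurd (hmono _ _ h' b.2) (by rw [ha', hb', h]; exact lt_irrefl _)
  · rw [← ha', ← hb', h']
  · exact absurd (hmono _ _ h' a.2) (by rw [ha', hb', h]; exact lt_irrefl _)

theorem el_inj {i j : ℕ} (hi : i < 2048) (hj : j < 2048) (h : el i = el j) : i = j := by
  obtain ⟨-, hl, hk⟩ := row_basic hi
  obtain ⟨-, hl', hk'⟩ := row_basic hj
  refine key_inj hi hj ?_
  rw [← hk, ← hk']
  exact key_eq_of_val hl hl' h

theorem el_of_key {i : ℕ} (hi : i < 2048) {w : List ℕ} (hw : lw w = true) (h : (row i).1 = keyOf w) :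
    el i = pv w := by
  obtain ⟨-, hl, hk⟩ := row_basic hi
  exact eq_of_key hl hw (hk.trans h)

theorem χ_word : ∀ {w : List ℕ}, lw w = true → χ (pv w) = cond (outerB w) (-1) 1 := by
  intro w hw
  rw [χ_val hw]
  induction w with
  | nil => simp [outerB]
  | cons g l ih =>
    have hg := mem_of_lettersIn hw g (List.mem_cons_self ..)
    have hl : lw l = true := by
      simp only [lw, lettersIn, List.all_cons, Bool.and_eq_true] at hw
      exact hw.2
    rw [val_cons, ih hl, outerB]
    have hs : signLett g = cond (Nat.beq g 2) (-1) 1 := by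
      simp only [List.mem_cons, List.not_mem_nil, or_false] at hg
      rcases hg with rfl | rfl | rfl | rfl | rfl <;> decide
    rw [hs]
    cases Nat.beq g 2 <;> cases outerB l <;> decide

theorem χ_path : ∀ (l : List ℕ), (∀ j ∈ l, j < 4) → χ (pv (pword l)) = cond (pOuter l) (-1) 1
  | [], _ => by simp [pword, pOuter, pv]
  | j :: l, hl => by
    rw [pword_cons, pv_append, map_mul, χ_word (gens_lw j (hl j (List.mem_cons_self ..))),
      χ_path l fun k hk => hl k (List.mem_cons_of_mem _ hk), pOuter]
    cases outerB (Data.gens.getD j []) <;> cases pOuter l <;> decide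

theorem χ_el {i : ℕ} (hi : i < 2048) : χ (el i) = cond (pOuter (row i).2.1) (-1) 1 :=
  χ_path _ (row_basic hi).1

theorem zIdx_lt : zIdx < 2048 := by unfold zIdx; norm_num

theorem zc_val : pv [0, 0] = zc := by simp [pv, zc]

theorem el_zIdx : el zIdx = zc := by
  have h := idx_ok
  simp only [Bool.and_eq_true, Nat.beq_eq] at h
  rw [el_of_key zIdx_lt (by decide) h.1.1, zc_val]

theorem sqIdx_spec (tw : Bool) {i : ℕ} (hi : i < 2048) :
    sqIdx tw i < 2048 ∧ el (sqIdx tw i) = el i * el i * cor tw (el i) (el i) := by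
  obtain ⟨h1, h2⟩ := el_mul hi hi
  obtain ⟨h3, h4⟩ := el_mul zIdx_lt h1
  simp only [sqIdx, force_eq, cor, χ_el hi, and_self]
  cases tw <;> cases pOuter (row i).2.1 <;> simp [h1, h2, h3, ← h4, el_zIdx, (zc_comm _).eq]

end Cfsg.Lib.HNType
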