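import Cfsg.Agent.Lib.HNType.Cycle

/-!
# An element of order three permuting `t`, `d` and `td`
-/

set_option autoImplicit false
set_option linter.style.haveILetI false
set_option maxRecDepth 100000

namespace Cfsg.Lib.HNType

open Cfsg.Lib.HN Cfsg.Lib.HN.Sub100 Subgroup

variable {G : Type*} [Group G] {t : G}

theorem conj_cycle_pow {n a b c : G} (ha : n * a * n⁻¹ = b) (hb : n * b * n⁻¹ = c)
    (hc : n * c * n⁻¹ = a) : ∀ i, n ^ (3 * i + 1) * a * (n ^ (3 * i + 1))⁻¹ = b ∧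
      n ^ (3 * i + 1) * b * (n ^ (3 * i + 1))⁻¹ = c ∧ n ^ (3 * i) * a * (n ^ (3 * i))⁻¹ = a ∧
      n ^ (3 * i) * b * (n ^ (3 * i))⁻¹ = b := by
  have h3a : n ^ 3 * a * (n ^ 3)⁻¹ = a := by
    calc n ^ 3 * a * (n ^ 3)⁻¹ = n * (n * (n * a * n⁻¹) * n⁻¹) * n⁻¹ := by simp [pow_succ, mul_assoc]
      _ = a := by rw [ha, hb, hc]
  have h3b : n ^ 3 * b * (n ^ 3)⁻¹ = b := by
    calc n ^ 3 * b * (n ^ 3)⁻¹ = n * (n * (n * b * n⁻¹) * n⁻¹) * n⁻¹ := by simp [pow_succ, mul_assoc]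
      _ = b := by rw [hb, hc, ha]
  intro i
  have hia : n ^ (3 * i) * a * (n ^ (3 * i))⁻¹ = a := by
    rw [pow_mul]; exact conj_eq_self ((commute_of_conj h3a).pow_left i)
  have hib : n ^ (3 * i) * b * (n ^ (3 * i))⁻¹ = b := by
    rw [pow_mul]; exact conj_eq_self ((commute_of_conj h3b).pow_left i)
  refine ⟨?_, ?_, hia, hib⟩
  · calc n ^ (3 * i + 1) * a * (n ^ (3 * i + 1))⁻¹ = n * (n ^ (3 * i) * a * (n ^ (3 * i))⁻¹) * n⁻¹ := by
          rw [pow_succ']; group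
      _ = b := by rw [hia, ha]
  · calc n ^ (3 * i + 1) * b * (n ^ (3 * i + 1))⁻¹ = n * (n ^ (3 * i) * b * (n ^ (3 * i))⁻¹) * n⁻¹ := by
          rw [pow_succ']; group
      _ = c := by rw [hib, hb]

/-- The position shifted along the orbit. -/
def shift10 (i : Fin 10) : Fin 10 := ⟨i.1 / 5 * 5 + (i.1 + 1) % 5, by omega⟩

/-- A map commuting with the shift, from two values. -/
def perm10 (a b : Fin 10) (i : Fin 10) : Fin 10 :=
  (List.replicate (i.1 % 5) ()).foldl (fun x _ => shift10 x) (if i.1 < 5 then a else b)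

theorem perm10_fix : ∀ a b : Fin 10, (∀ i, perm10 a b (perm10 a b (perm10 a b i)) = i) → perm10 a b 0 = 0 := by
  decide

namespace CMap

variable (C : CMap t false)

variable [Finite G]

/-- An element of order three centralising `f` which permutes `t`, `d` and `td`. -/
theorem exists_three (hD : ∃ g : G, g * C.rg 3 * g⁻¹ = t) :
    ∃ n : G, n ^ 3 = 1 ∧ Commute n (C.hom fE) ∧ n * t * n⁻¹ = C.hom dE ∧
      n * C.hom dE * n⁻¹ = t * C.hom dE ∧ n * (t * C.hom dE) * n⁻¹ = t := by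
  obtain ⟨h, hd, ht⟩ := C.exists_swap hD
  obtain ⟨r, hr⟩ := rels.rho
  set d := C.hom dE with hdd'
  set f := C.hom fE with hf
  have hdt : Commute d t := C.hom_comm_t dE
  have hd2 : d * d = 1 := by rw [hdd', ← _root_.map_mul, rels.dd, _root_.map_one]
  set R := C.hom r
  have hRt : R * t * R⁻¹ = t := conj_eq_self (C.hom_comm_t r)
  have hRd : R * d * R⁻¹ = t * d := by
    rw [hdd', ← _root_.map_inv, ← _root_.map_mul, ← _root_.map_mul, hr, _root_.map_mul, C.hom_zc]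
    exact (C.hom_comm_t dE).eq
  have hRtd : R * (t * d) * R⁻¹ = d := by
    rw [cjm, hRt, hRd, ← mul_assoc, C.tt, one_mul]
  set n0 := h * R
  have c0 : n0 * t * n0⁻¹ = d := by
    calc n0 * t * n0⁻¹ = h * (R * t * R⁻¹) * h⁻¹ := by simp only [n0]; group
      _ = d := by rw [hRt, ht]
  have c1 : n0 * d * n0⁻¹ = t * d := by
    calc n0 * d * n0⁻¹ = h * (R * d * R⁻¹) * h⁻¹ := by simp only [n0]; group
      _ = t * d := by rw [hRd, cjm, ht, hd]; exact hdt.eq
  have c2 : n0 * (t * d) * n0⁻¹ = t := by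
    calc n0 * (t * d) * n0⁻¹ = h * (R * (t * d) * R⁻¹) * h⁻¹ := by simp only [n0]; group
      _ = t := by rw [hRtd, hd]
  -- adjust to normalise the group generated by `f`
  set f' := n0 * f * n0⁻¹ with hf'
  have hfd : Commute f d := C.commute_hom_iff.2 rels.fd
  have hf't : Commute f' t := by
    have := (Commute.conj_iff n0).2 ((C.hom_comm_t fE).mul_right hfd)
    rwa [c2] at this
  have hf'd : Commute f' d := by
    have := (Commute.conj_iff n0).2 (C.hom_comm_t fE)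
    rwa [c0] at this
  obtain ⟨p, hp⟩ := C.hom_pre hf't
  have hpd : Commute p dE := C.commute_hom_iff.1 (by rw [hp]; exact hf'd)
  have hp5 : orderOf p = 5 := by
    rw [← orderOf_injective C.hom C.hom_inj p, hp, hf', Cfsg.Lib.Invol.orderOf_conj_eq, hf,
      orderOf_injective C.hom C.hom_inj, orderOf_fE]
  obtain ⟨c, hc, j, hj0, hj5, hcj⟩ := d_sylow hpd hp5
  set K := C.hom c
  have hKt : Commute K t := C.hom_comm_t c
  have hKd : Commute K d := C.commute_hom_iff.2 hc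
  set n1 := K * n0
  have e0 : n1 * t * n1⁻¹ = d := by
    calc n1 * t * n1⁻¹ = K * (n0 * t * n0⁻¹) * K⁻¹ := by simp only [n1]; group
      _ = d := by rw [c0, conj_eq_self hKd]
  have e1 : n1 * d * n1⁻¹ = t * d := by
    calc n1 * d * n1⁻¹ = K * (n0 * d * n0⁻¹) * K⁻¹ := by simp only [n1]; group
      _ = t * d := by rw [c1, conj_eq_self (hKt.mul_right hKd)]
  have e2 : n1 * (t * d) * n1⁻¹ = t := by
    calc n1 * (t * d) * n1⁻¹ = K * (n0 * (t * d) * n0⁻¹) * K⁻¹ := by simp only [n1]; group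
      _ = t := by rw [c2, conj_eq_self hKt]
  have e3 : n1 * f * n1⁻¹ = f ^ j := by
    calc n1 * f * n1⁻¹ = K * (n0 * f * n0⁻¹) * K⁻¹ := by simp only [n1]; group
      _ = f ^ j := by
        rw [← hf', ← hp, hf, ← _root_.map_pow, ← hcj, _root_.map_mul, _root_.map_mul, _root_.map_inv]
  -- the fourth power centralises `f`
  have hi : ∀ i : ℕ, n1 ^ i * f * (n1 ^ i)⁻¹ = f ^ (j ^ i) := by
    intro i
    induction i with
    | zero => simp
    | succ i ih =>
      calc n1 ^ (i + 1) * f * (n1 ^ (i + 1))⁻¹ = n1 * (n1 ^ i * f * (n1 ^ i)⁻¹) * n1⁻¹ := by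
            rw [pow_succ']; group
        _ = f ^ (j ^ (i + 1)) := by rw [ih, ← conj_pow, e3, ← pow_mul, pow_succ']
  have hf5 : f ^ 5 = 1 := by rw [hf, ← _root_.map_pow, rels.f5, _root_.map_one]
  set n2 := n1 ^ (3 * 1 + 1) with hn2
  have hn2f : Commute n2 f := by
    refine commute_of_conj ?_
    rw [hn2, hi, pow_eq_pow_mod _ hf5, show j ^ (3 * 1 + 1) % 5 = 1 by interval_cases j <;> norm_num,
      pow_one]
  obtain ⟨g0, g1, -, -⟩ := conj_cycle_pow e0 e1 e2 1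
  have g2 : n2 * (t * d) * n2⁻¹ = t := by
    rw [cjm, g0, g1, ← mul_assoc, hdt.eq, mul_assoc, hd2, mul_one]
  obtain ⟨-, -, q0, q1⟩ := conj_cycle_pow g0 g1 g2 1
  have hq : n2 ^ (3 * 1) = n2 ^ 3 := by norm_num
  rw [hq] at q0 q1
  obtain ⟨q, hq'⟩ := C.hom_pre (commute_of_conj q0)
  have hqf : Commute q fE := C.commute_hom_iff.1 (by rw [hq']; exact hn2f.pow_left 3)
  obtain ⟨r0, r1, -, -⟩ := conj_cycle_pow g0 g1 g2 3
  refine ⟨n2 ^ (3 * 3 + 1), ?_, hn2f.pow_left _, r0, r1, ?_⟩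
  · rw [← pow_mul, show (3 * 3 + 1) * 3 = 3 * 10 by norm_num, pow_mul, ← hq', ← _root_.map_pow,
      f_cent_ten hqf, _root_.map_one]
  · rw [cjm, r0, r1, ← mul_assoc, hdt.eq, mul_assoc, hd2, mul_one]

/-- Such an element centralises an involution conjugate to `t`. -/
theorem three_fixes (hD : ∃ g : G, g * C.rg 3 * g⁻¹ = t) {n : G} (hn : n ^ 3 = 1)
    (hnf : Commute n (C.hom fE)) (h0 : n * t * n⁻¹ = C.hom dE)
    (h1 : n * C.hom dE * n⁻¹ = t * C.hom dE) (h2 : n * (t * C.hom dE) * n⁻¹ = t) :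
    ∃ u : G, Commute n u ∧ ∃ e : G, e * u * e⁻¹ = t := by
  obtain ⟨gA, hgA⟩ := C.A_fused hD
  set f := C.hom fE with hf
  have hu : ∀ i : ℕ, i < 10 → C.hom (sqE i) = f ^ (i % 5) * C.hom (pv (uW (i / 5))) * (f ^ (i % 5))⁻¹ :=
    fun i _ => by rw [sqE_eq, _root_.map_mul, _root_.map_mul, _root_.map_inv, _root_.map_pow]
  have hAconj : ∀ i : ℕ, i < 10 → ∃ e : G, e * C.hom (sqE i) * e⁻¹ = t := by
    intro i hi
    obtain ⟨q, -, -, -, -, r, hr⟩ := rels.sq (i / 5) (by omega)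
    refine ⟨gA * C.hom r * (f ^ (i % 5))⁻¹, Eq.trans ?_ hgA⟩
    rw [hu i hi, hr, C.rg_eq, show rep 0 = Data.repA from rfl, _root_.map_mul, _root_.map_mul,
      _root_.map_inv]
    group
  have himg : ∀ i : Fin 10, ∃ j : Fin 10, n * C.hom (sqE i.1) * n⁻¹ = C.hom (sqE j.1) := by
    intro i
    obtain ⟨q, hqq, hne, huu, hqd, -⟩ := rels.sq (i.1 / 5) (by omega)
    set q' := fE ^ (i.1 % 5) * q * (fE ^ (i.1 % 5))⁻¹ with hq'
    have hq'd : Commute q' dE :=
      ((rels.fd.pow_left _).mul_left hqd).mul_left (rels.fd.pow_left _).inv_left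
    have hsq : q' * q' = sqE i.1 := by rw [hq', sqE_eq, ← hqq]; group
    have hNd : Commute (n * C.hom q' * n⁻¹) (C.hom dE) := by
      have := (Commute.conj_iff n).2 (C.hom_comm_t q')
      rwa [h0] at this
    have hNt : Commute (n * C.hom q' * n⁻¹) t := by
      have := (Commute.conj_iff n).2 ((C.hom_comm_t q').mul_right (C.commute_hom_iff.2 hq'd))
      rwa [h2] at this
    obtain ⟨p, hp⟩ := C.hom_pre hNt
    have hp2 : C.hom (p ^ 2) = n * C.hom (sqE i.1) * n⁻¹ := by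
      rw [_root_.map_pow, hp, conj_pow, ← _root_.map_pow, pow_two, hsq]
    have hne' : sqE i.1 ≠ 1 := by rw [sqE_eq, Ne, conj_eq_one_iff]; exact hne
    have hp2ne : p ^ 2 ≠ 1 := fun e => by
      rw [e, _root_.map_one, eq_comm, conj_eq_one_iff] at hp2
      exact hne' (C.hom_inj (hp2.trans (_root_.map_one C.hom).symm))
    have hp4 : p ^ 4 = 1 := by
      refine C.hom_inj ?_
      rw [show p ^ 4 = p ^ 2 * p ^ 2 by rw [← pow_add], _root_.map_mul, hp2, ← cjm, ← _root_.map_mul,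
        sqE_eq, show fE ^ (i.1 % 5) * pv (uW (i.1 / 5)) * (fE ^ (i.1 % 5))⁻¹ *
          (fE ^ (i.1 % 5) * pv (uW (i.1 / 5)) * (fE ^ (i.1 % 5))⁻¹) =
          fE ^ (i.1 % 5) * (pv (uW (i.1 / 5)) * pv (uW (i.1 / 5))) * (fE ^ (i.1 % 5))⁻¹ by group, huu,
        mul_one, mul_inv_cancel, _root_.map_one, mul_one, mul_inv_cancel]
    have hpd : Commute p dE := C.commute_hom_iff.1 (by rw [hp]; exact hNd)
    rcases d_squares hpd hp4 hp2ne with ⟨j, hj, hpj⟩ | ⟨r, hpr⟩
    · exact ⟨⟨j, hj⟩, by rw [← hp2, hpj]⟩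
    · exfalso
      obtain ⟨e, he⟩ := hAconj i.1 i.2
      refine C.not_fused_B (e * n⁻¹ * (C.hom r)⁻¹) (Eq.trans ?_ he)
      have h : C.hom (sqE i.1) = n⁻¹ * C.hom (p ^ 2) * n := by rw [hp2]; group
      rw [h, hpr, C.rg_eq, show rep 1 = Data.repB from rfl, _root_.map_mul, _root_.map_mul, _root_.map_inv]
      group
  choose π hπ using himg
  have hinj : ∀ i j : Fin 10, C.hom (sqE i.1) = C.hom (sqE j.1) → i = j := fun i j h =>
    Fin.ext (sqE_inj i.2 j.2 (C.hom_inj h))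
  have hf5 : f ^ 5 = 1 := by rw [hf, ← _root_.map_pow, rels.f5, _root_.map_one]
  have hshift : ∀ i : Fin 10, C.hom (sqE (shift10 i).1) = f * C.hom (sqE i.1) * f⁻¹ := by
    intro i
    rw [hu _ (shift10 i).2, hu _ i.2, show (shift10 i).1 = i.1 / 5 * 5 + (i.1 + 1) % 5 from rfl,
      show (i.1 / 5 * 5 + (i.1 + 1) % 5) / 5 = i.1 / 5 by omega,
      show (i.1 / 5 * 5 + (i.1 + 1) % 5) % 5 = (i.1 + 1) % 5 by omega, ← pow_eq_pow_mod _ hf5,
      pow_succ', pow_eq_pow_mod i.1 hf5]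
    group
  have hπs : ∀ i, π (shift10 i) = shift10 (π i) := by
    intro i
    refine hinj _ _ ?_
    rw [← hπ, hshift, hshift, cjm, cjm, hπ, conj_eq_self hnf, conj_eq_self hnf.inv_right]
  have hπ3 : ∀ i, π (π (π i)) = i := by
    intro i
    refine hinj _ _ ?_
    rw [← hπ, ← hπ, ← hπ, show n * (n * (n * C.hom (sqE i.1) * n⁻¹) * n⁻¹) * n⁻¹ =
      n ^ 3 * C.hom (sqE i.1) * (n ^ 3)⁻¹ by simp [pow_succ, mul_assoc], hn]
    group
  have hperm : ∀ i, π i = perm10 (π 0) (π 5) i := by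
    intro i
    have e : ∀ (m : ℕ) (x : Fin 10), π ((List.replicate m ()).foldl (fun y _ => shift10 y) x) =
        (List.replicate m ()).foldl (fun y _ => shift10 y) (π x) := by
      intro m
      induction m with
      | zero => intro x; rfl
      | succ m ih => intro x; simp only [List.replicate_succ, List.foldl_cons]; rw [ih, hπs]
    have hi : i = (List.replicate (i.1 % 5) ()).foldl (fun y _ => shift10 y)
        (if i.1 < 5 then 0 else 5) := by
      revert i; decide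
    conv_lhs => rw [hi, e]
    rw [perm10, apply_ite π]
  have hfix : π 0 = 0 := by
    rw [hperm]
    refine perm10_fix _ _ fun i => ?_
    rw [← hperm, ← hperm, ← hperm, hπ3]
  obtain ⟨e, he⟩ := hAconj 0 (by norm_num)
  refine ⟨C.hom (sqE 0), commute_of_conj ?_, e, he⟩
  have := hπ 0
  rw [hfix] at this
  exact this

/-- An element of order five centralising both. -/
theorem exists_five (C : CMap t false) {n u : G} (hn : orderOf n = 3) (hnu : Commute n u) (hu : ∃ e : G, e * u * e⁻¹ = t) :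
    ∃ y : G, orderOf y = 5 ∧ Commute y n ∧ Commute y u := by
  obtain ⟨e, he⟩ := hu
  have hc := (Commute.conj_iff e).2 hnu
  rw [he] at hc
  obtain ⟨p, hp⟩ := C.hom_pre hc
  have hp3 : orderOf p = 3 := by
    rw [← orderOf_injective C.hom C.hom_inj p, hp, Cfsg.Lib.Invol.orderOf_conj_eq, hn]
  obtain ⟨y, hy, hyp⟩ := three_cent hp3
  refine ⟨e⁻¹ * C.hom y * e⁻¹⁻¹, ?_, ?_, ?_⟩
  · rw [Cfsg.Lib.Invol.orderOf_conj_eq, orderOf_injective C.hom C.hom_inj, hy]
  · have := (Commute.conj_iff e⁻¹).2 (hyp.map C.hom)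
    rwa [hp, show e⁻¹ * (e * n * e⁻¹) * e⁻¹⁻¹ = n by group] at this
  · have := (Commute.conj_iff e⁻¹).2 (C.hom_comm_t y)
    rw [show e⁻¹ * t * e⁻¹⁻¹ = u by rw [inv_inv]; calc
      e⁻¹ * t * e = e⁻¹ * (e * u * e⁻¹) * e := by rw [he]
      _ = u := by group] at this
    exact this

end CMap

end Cfsg.Lib.HNType
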